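import Mathlib
import Cfsg.Agent.Lib.GoldschmidtFusion
import Cfsg.Agent.TwoFusion.PResidual
set_option linter.all false

/-!
# Extremal conjugates
-/

set_option autoImplicit false

namespace Cfsg.Agent.SylowSp4.Extremal

open Subgroup Cfsg.Agent.Lib.GoldschmidtFusion

variable {G : Type*} [Group G] [Finite G]

/-- Every element `x` of a finite group with a conjugate in the Sylow subgroup `P` has an extremal conjugate `v ∈ P`:
every conjugate `w ∈ P` is moved to `v` by an element which maps `C_P(w)` into `P`. -/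
theorem exists_extremal {p : ℕ} [Fact p.Prime] (P : Sylow p G) {x : G} (hx : x ∈ (P : Subgroup G)) :
    ∃ v ∈ (P : Subgroup G), ∀ w ∈ (P : Subgroup G), (∃ g : G, g * x * g⁻¹ = w) →
      ∃ g : G, g * w * g⁻¹ = v ∧ ∀ y ∈ (P : Subgroup G), y * w = w * y → g * y * g⁻¹ ∈ (P : Subgroup G) := by
  have hPG : IsPGroup p (P : Subgroup G) := P.isPGroup'
  -- a Sylow subgroup `R` of the centralizer of `x`
  obtain ⟨R, hxR, hRN, hR, hRi⟩ := exists_sylow_in (p := p) (N := centralizer ({x} : Set G))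
    (D := (P : Subgroup G) ⊓ centralizer ({x} : Set G)) inf_le_right (hPG.to_le inf_le_left)
  obtain ⟨Q, hQ⟩ := hR.exists_le_sylow
  obtain ⟨n, hn⟩ := MulAction.exists_smul_eq G Q P
  have hnR : ∀ y ∈ R, n * y * n⁻¹ ∈ (P : Subgroup G) := by
    intro y hy
    rw [← hn, Sylow.coe_subgroup_smul]
    have := Subgroup.smul_mem_pointwise_smul _ (MulAut.conj n) _ (hQ hy)
    simpa using this
  have hxx : x ∈ R := hxR ⟨hx, mem_centralizer_singleton_iff.2 rfl⟩
  refine ⟨n * x * n⁻¹, hnR x hxx, ?_⟩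
  rintro w hw ⟨g, rfl⟩
  -- `C_P(w)` conjugated back into the centralizer of `x`
  have hD : IsPGroup p (((P : Subgroup G) ⊓ centralizer ({g * x * g⁻¹} : Set G)).map (MulAut.conj g⁻¹).toMonoidHom :
      Subgroup G) := (hPG.to_le inf_le_left).map _
  have hDN : ((P : Subgroup G) ⊓ centralizer ({g * x * g⁻¹} : Set G)).map (MulAut.conj g⁻¹).toMonoidHom ≤
      centralizer ({x} : Set G) := by
    intro y hy
    rw [mem_map_conj, inv_inv] at hy
    have h1 := (mem_centralizer_singleton_iff.1 hy.2)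
    rw [mem_centralizer_singleton_iff]
    have h2 : g⁻¹ * ((g * y * g⁻¹) * (g * x * g⁻¹)) * g = g⁻¹ * ((g * x * g⁻¹) * (g * y * g⁻¹)) * g := by
      rw [h1]
    simpa [mul_assoc] using h2
  obtain ⟨m, hm, hmD⟩ := exists_conj_le_in hR hRi hDN hD
  refine ⟨n * m * g⁻¹, ?_, ?_⟩
  · have h1 := mem_centralizer_singleton_iff.1 hm
    calc n * m * g⁻¹ * (g * x * g⁻¹) * (n * m * g⁻¹)⁻¹ = n * (m * x) * m⁻¹ * n⁻¹ := by group
      _ = n * (x * m) * m⁻¹ * n⁻¹ := by rw [h1]
      _ = n * x * n⁻¹ := by group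
  · intro y hy hyw
    have h1 : m * (g⁻¹ * y * g) * m⁻¹ ∈ R := by
      apply hmD
      refine ⟨g⁻¹ * y * g, ?_, by simp⟩
      refine ⟨y, ⟨hy, mem_centralizer_singleton_iff.2 hyw⟩, by simp⟩
    have h2 := hnR _ h1
    have e : n * (m * (g⁻¹ * y * g) * m⁻¹) * n⁻¹ = n * m * g⁻¹ * y * (n * m * g⁻¹)⁻¹ := by group
    rwa [e] at h2

/-- Version for a central element of the Sylow subgroup. -/
theorem exists_conj_of_central {p : ℕ} [Fact p.Prime] (P : Sylow p G) {t w : G}
    (hc : ∀ y ∈ (P : Subgroup G), y * t = t * y) (hg : ∃ g : G, g * w * g⁻¹ = t) :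
    ∃ g : G, g * w * g⁻¹ = t ∧ ∀ y ∈ (P : Subgroup G), y * w = w * y → g * y * g⁻¹ ∈ (P : Subgroup G) := by
  obtain ⟨g, hg⟩ := hg
  have hPG : IsPGroup p (P : Subgroup G) := P.isPGroup'
  -- `g C_P(w) g⁻¹ ≤ C_G(t)`, whose Sylow subgroup is `P`
  have hD : IsPGroup p (((P : Subgroup G) ⊓ centralizer ({w} : Set G)).map (MulAut.conj g).toMonoidHom :
      Subgroup G) := (hPG.to_le inf_le_left).map _
  have hDN : ((P : Subgroup G) ⊓ centralizer ({w} : Set G)).map (MulAut.conj g).toMonoidHom ≤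
      centralizer ({t} : Set G) := by
    rintro _ ⟨y, hy, rfl⟩
    have h1 := (mem_centralizer_singleton_iff.1 hy.2)
    rw [mem_centralizer_singleton_iff]
    have h2 : g * (y * w) * g⁻¹ = g * (w * y) * g⁻¹ := by rw [h1]
    rw [← hg]
    simpa [mul_assoc] using h2
  have hPi : ¬ p ∣ (P : Subgroup G).relIndex (centralizer ({t} : Set G)) := by
    intro hd
    have hle : (P : Subgroup G) ≤ centralizer ({t} : Set G) := by
      intro y hy
      rw [mem_centralizer_singleton_iff]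
      exact hc y hy
    exact P.not_dvd_index (hd.trans (relIndex_dvd_index_of_le hle))
  obtain ⟨m, hm, hmD⟩ := exists_conj_le_in hPG hPi hDN hD
  refine ⟨m * g, ?_, ?_⟩
  · have h1 := mem_centralizer_singleton_iff.1 hm
    calc m * g * w * (m * g)⁻¹ = m * (g * w * g⁻¹) * m⁻¹ := by group
      _ = t := by rw [hg, h1]; group
  · intro y hy hyw
    have h1 : m * (g * y * g⁻¹) * m⁻¹ ∈ (P : Subgroup G) := by
      apply hmD
      refine ⟨g * y * g⁻¹, ?_, by simp⟩
      refine ⟨y, ⟨hy, mem_centralizer_singleton_iff.2 hyw⟩, by simp⟩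
    have e : m * (g * y * g⁻¹) * m⁻¹ = m * g * y * (m * g)⁻¹ := by group
    rwa [e] at h1

/-- The character of a group with kernel a given subgroup of index two. -/
theorem exists_char {H : Type*} [Group H] (M : Subgroup H) (hM : M.index = 2) :
    ∃ φ : H →* ℤˣ, ∀ x, φ x = 1 ↔ x ∈ M := by
  classical
  refine ⟨{ toFun := fun x => if x ∈ M then 1 else -1
            map_one' := if_pos M.one_mem
            map_mul' := ?_ }, ?_⟩
  · intro x y
    have h1 := Subgroup.mul_mem_iff_of_index_two hM (a := x) (b := y)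
    by_cases hx : x ∈ M <;> by_cases hy : y ∈ M <;> simp [h1, hx, hy]
  · intro x
    change (if x ∈ M then (1 : ℤˣ) else -1) = 1 ↔ x ∈ M
    by_cases hx : x ∈ M
    · simp [hx]
    · simp only [hx, if_false, iff_false]
      decide

/-- Transfer into `P / M`, where `M` has index two in the Sylow 2-subgroup `P`: on elements whose fusion respects `M`
the transfer detects `M`. -/
theorem exists_transfer (P : Sylow 2 G) (M : Subgroup G) (hM : M.relIndex (P : Subgroup G) = 2) :
    ∃ V : G →* ℤˣ, ∀ y ∈ (P : Subgroup G),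
      (∀ (k : ℕ) (g : G), g * y ^ k * g⁻¹ ∈ (P : Subgroup G) → (g * y ^ k * g⁻¹ ∈ M ↔ y ^ k ∈ M)) →
        (V y = 1 ↔ y ∈ M) := by
  obtain ⟨φ, hφ⟩ := exists_char (M.subgroupOf (P : Subgroup G)) hM
  have hφ' : ∀ x y : (P : Subgroup G), ((x : G) ∈ M ↔ (y : G) ∈ M) → φ x = φ y := by
    intro x y hxy
    have h1 := hφ x
    have h2 := hφ y
    rw [mem_subgroupOf] at h1 h2
    rcases Int.units_eq_one_or (φ x) with h3 | h3 <;> rcases Int.units_eq_one_or (φ y) with h4 | h4
    · rw [h3, h4]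
    · exfalso
      rw [h4] at h2
      exact absurd (h2.2 (hxy.1 (h1.1 h3))) (by decide)
    · exfalso
      rw [h3] at h1
      exact absurd (h1.2 (hxy.2 (h2.1 h4))) (by decide)
    · rw [h3, h4]
  refine ⟨MonoidHom.transfer φ, ?_⟩
  intro y hy hk
  have h1 := TwoFusion.PResidual.transfer_eq_pow_index_of_fusion φ ⟨y, hy⟩ (by
    intro k g₀ hg₀
    apply hφ'
    have h2 := hk k g₀⁻¹
    rw [inv_inv] at h2
    exact h2 hg₀)
  have h3 : Odd (P : Subgroup G).index := by
    rw [← Nat.not_even_iff_odd, even_iff_two_dvd]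
    exact P.not_dvd_index
  have h4 : φ ⟨y, hy⟩ ^ (P : Subgroup G).index = φ ⟨y, hy⟩ := by
    rcases Int.units_eq_one_or (φ ⟨y, hy⟩) with h5 | h5
    · rw [h5, one_pow]
    · rw [h5, h3.neg_one_pow]
  change MonoidHom.transfer φ y = 1 ↔ y ∈ M
  rw [h4] at h1
  have h5 : MonoidHom.transfer φ y = φ ⟨y, hy⟩ := h1
  rw [h5, hφ, mem_subgroupOf]

/-- Two-valued characters of a group without subgroups of index two are trivial. -/
theorem char_trivial {H : Type*} [Group H] (hH : ∀ M : Subgroup H, M.index ≠ 2) (V : H →* ℤˣ) (x : H) : V x = 1 := by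
  by_contra hx
  have h1 : V x = -1 := (Int.units_eq_one_or _).resolve_left hx
  apply hH V.ker
  rw [Subgroup.index_ker]
  have : V.range = ⊤ := by
    rw [eq_top_iff]
    intro y _
    rcases Int.units_eq_one_or y with rfl | rfl
    · exact V.range.one_mem
    · exact ⟨x, h1⟩
  rw [this, Subgroup.card_top, Nat.card_eq_fintype_card]
  rfl

end Cfsg.Agent.SylowSp4.Extremal
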