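import Cfsg.Agent.SylowSp4.Base
import Cfsg.Agent.S0261
import Cfsg.Agent.S0268
import Cfsg.Agent.LieClassical.SympCount
import Cfsg.Agent.LieClassical.SympCenter
import Cfsg.Agent.ClassicalGeometry.PSL2Basic
import Cfsg.Prelude.Def_Classical
set_option linter.all false

/-!
# The Sylow 2-subgroups of `PSp_4(q)`, `q` odd
-/

set_option autoImplicit false

namespace Cfsg.Agent.SylowSp4.Recog

open Matrix Cfsg.Agent.SylowSp4.Coord

section Emb

variable {F : Type*} [Field F]

/-- The block matrix of `A ⊕ B` for the symplectic basis `e₁, e₂, f₁, f₂`. -/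
def blk (A B : Matrix (Fin 2) (Fin 2) F) : Matrix (Fin 2 ⊕ Fin 2) (Fin 2 ⊕ Fin 2) F :=
  fromBlocks (diagonal ![A 0 0, B 0 0]) (diagonal ![A 0 1, B 0 1]) (diagonal ![A 1 0, B 1 0])
    (diagonal ![A 1 1, B 1 1])

theorem diag_add (a b c d : F) : diagonal ![a, b] + diagonal ![c, d] = diagonal ![a + c, b + d] := by
  rw [diagonal_add]
  congr 1
  ext i
  fin_cases i <;> rfl

theorem diag_mul (a b c d : F) : diagonal ![a, b] * diagonal ![c, d] = diagonal ![a * c, b * d] := by
  rw [diagonal_mul_diagonal]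
  congr 1
  ext i
  fin_cases i <;> rfl

theorem blk_mul (A B A' B' : Matrix (Fin 2) (Fin 2) F) : blk A B * blk A' B' = blk (A * A') (B * B') := by
  simp only [blk, fromBlocks_multiply, diag_mul, diag_add, Matrix.mul_apply, Fin.sum_univ_two]

theorem blk_one : blk (1 : Matrix (Fin 2) (Fin 2) F) 1 = 1 := by
  ext i j
  rcases i with i | i <;> rcases j with j | j <;> fin_cases i <;> fin_cases j <;> simp [blk]

theorem blk_mem {A B : Matrix (Fin 2) (Fin 2) F} (hA : A.det = 1) (hB : B.det = 1) :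
    blk A B ∈ symplecticGroup (Fin 2) F := by
  rw [det_fin_two] at hA hB
  rw [blk, SymplecticGroup.fromBlocks_mem_iff]
  simp only [diagonal_transpose, diag_mul]
  refine ⟨?_, ?_, ?_⟩
  · congr 1
    ext i
    fin_cases i
    · exact mul_comm _ _
    · exact mul_comm _ _
  · congr 1
    ext i
    fin_cases i
    · exact mul_comm _ _
    · exact mul_comm _ _
  · rw [diagonal_sub]
    ext i j
    fin_cases i <;> fin_cases j
    · simpa [mul_comm] using hA
    · simp
    · simp
    · simpa [mul_comm] using hB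

/-- Two pairs of matrices with the same block matrix are equal. -/
theorem blk_inj {A B C D : Matrix (Fin 2) (Fin 2) F} (h : blk A B = blk C D) : A = C ∧ B = D := by
  have h1 := fun i j => congrFun (congrFun h i) j
  have a00 := h1 (Sum.inl 0) (Sum.inl 0)
  have a01 := h1 (Sum.inl 0) (Sum.inr 0)
  have a10 := h1 (Sum.inr 0) (Sum.inl 0)
  have a11 := h1 (Sum.inr 0) (Sum.inr 0)
  have b00 := h1 (Sum.inl 1) (Sum.inl 1)
  have b01 := h1 (Sum.inl 1) (Sum.inr 1)
  have b10 := h1 (Sum.inr 1) (Sum.inl 1)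
  have b11 := h1 (Sum.inr 1) (Sum.inr 1)
  simp [blk] at a00 a01 a10 a11 b00 b01 b10 b11
  constructor
  · ext i j
    fin_cases i <;> fin_cases j <;> assumption
  · ext i j
    fin_cases i <;> fin_cases j <;> assumption

theorem blk_smul (c : F) (A B : Matrix (Fin 2) (Fin 2) F) : c • blk A B = blk (c • A) (c • B) := by
  ext i j
  rcases i with i | i <;> rcases j with j | j <;> fin_cases i <;> fin_cases j <;> simp [blk]

/-- The block embedding of `SL_2 × SL_2`. -/
def emb (A B : SpecialLinearGroup (Fin 2) F) : symplecticGroup (Fin 2) F := ⟨blk A.1 B.1, blk_mem A.2 B.2⟩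

theorem emb_mul (A B C D : SpecialLinearGroup (Fin 2) F) : emb A B * emb C D = emb (A * C) (B * D) := by
  apply Subtype.ext
  change blk A.1 B.1 * blk C.1 D.1 = blk (A * C).1 (B * D).1
  rw [blk_mul]
  rfl

theorem emb_one : emb (1 : SpecialLinearGroup (Fin 2) F) 1 = 1 := Subtype.ext blk_one

theorem emb_inv (A B : SpecialLinearGroup (Fin 2) F) : (emb A B)⁻¹ = emb A⁻¹ B⁻¹ := by
  apply inv_eq_of_mul_eq_one_left
  rw [emb_mul, inv_mul_cancel, inv_mul_cancel, emb_one]

/-- The matrix of the swap of the two planes. -/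
def swM : Matrix (Fin 2 ⊕ Fin 2) (Fin 2 ⊕ Fin 2) F := fromBlocks !![0, 1; 1, 0] 0 0 !![0, 1; 1, 0]

theorem swM_mem : (swM : Matrix (Fin 2 ⊕ Fin 2) (Fin 2 ⊕ Fin 2) F) ∈ symplecticGroup (Fin 2) F := by
  rw [swM, SymplecticGroup.fromBlocks_mem_iff]
  refine ⟨by simp, by simp, ?_⟩
  ext i j
  fin_cases i <;> fin_cases j <;> simp [Matrix.mul_apply, Fin.sum_univ_two]

theorem swM_sq : (swM : Matrix (Fin 2 ⊕ Fin 2) (Fin 2 ⊕ Fin 2) F) * swM = 1 := by
  rw [swM, fromBlocks_multiply]
  ext i j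
  rcases i with i | i <;> rcases j with j | j <;> fin_cases i <;> fin_cases j <;>
    simp [Matrix.mul_apply, Fin.sum_univ_two]

theorem swM_blk (A B : Matrix (Fin 2) (Fin 2) F) : swM * blk A B = blk B A * swM := by
  rw [swM, blk, blk, fromBlocks_multiply, fromBlocks_multiply]
  ext i j
  rcases i with i | i <;> rcases j with j | j <;> fin_cases i <;> fin_cases j <;>
    simp [Matrix.mul_apply, Fin.sum_univ_two, Matrix.vecMul_diagonal]

/-- The swap of the two planes. -/
def sw : symplecticGroup (Fin 2) F := ⟨swM, swM_mem⟩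

theorem sw_sq : (sw : symplecticGroup (Fin 2) F) * sw = 1 := Subtype.ext swM_sq

theorem sw_emb (A B : SpecialLinearGroup (Fin 2) F) : sw * emb A B = emb B A * sw :=
  Subtype.ext (swM_blk A.1 B.1)

theorem emb_mem_center {A B : SpecialLinearGroup (Fin 2) F}
    (h : emb A B ∈ Subgroup.center (symplecticGroup (Fin 2) F)) :
    (A = 1 ∧ B = 1) ∨ (A.1 = -1 ∧ B.1 = -1) := by
  obtain ⟨a, ha⟩ := (LieClassical.SympCenter.mem_center_iff 2 _).1 h
  have h1 : blk A.1 B.1 = blk (a • 1) (a • 1) := by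
    rw [← blk_smul, blk_one]
    exact ha
  obtain ⟨h2, h3⟩ := blk_inj h1
  have h4 : a * a = 1 := by
    have := A.2
    rw [h2, det_smul, det_one] at this
    simpa [pow_two] using this
  rcases mul_self_eq_one_iff.1 h4 with rfl | rfl
  · left
    rw [one_smul] at h2 h3
    exact ⟨Subtype.ext h2, Subtype.ext h3⟩
  · right
    rw [neg_smul, one_smul] at h2 h3
    exact ⟨h2, h3⟩

theorem emb_neg_mem_center {A B : SpecialLinearGroup (Fin 2) F} (hA : A.1 = -1) (hB : B.1 = -1) :
    emb A B ∈ Subgroup.center (symplecticGroup (Fin 2) F) := by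
  rw [LieClassical.SympCenter.mem_center_iff]
  refine ⟨-1, ?_⟩
  change blk A.1 B.1 = _
  rw [hA, hB, ← blk_one, blk_smul]
  simp

theorem sw_not_center_mul {A B : SpecialLinearGroup (Fin 2) F}
    (h : sw⁻¹ * emb A B ∈ Subgroup.center (symplecticGroup (Fin 2) F)) : False := by
  obtain ⟨a, ha⟩ := (LieClassical.SympCenter.mem_center_iff 2 _).1 h
  have h0 : (sw : symplecticGroup (Fin 2) F)⁻¹ = sw := inv_eq_of_mul_eq_one_left sw_sq
  rw [h0] at ha
  have h1 : blk A.1 B.1 = a • swM := by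
    have h2 : swM * (swM * blk A.1 B.1) = swM * (a • 1) := by
      congr 1
    rw [← mul_assoc, swM_sq, one_mul] at h2
    rw [h2]
    simp
  have ha0 := congrFun (congrFun h1 (Sum.inl 0)) (Sum.inl 1)
  simp [blk, swM] at ha0
  rw [← ha0, zero_smul] at ha
  have h3 := (sw * emb A B).2
  have h4 : ((sw * emb A B : symplecticGroup (Fin 2) F) : Matrix (Fin 2 ⊕ Fin 2) (Fin 2 ⊕ Fin 2) F) = 0 := ha
  rw [h4, SymplecticGroup.mem_iff] at h3
  have h5 := congrFun (congrFun h3 (Sum.inr 0)) (Sum.inl 0)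
  simp [J] at h5

end Emb

export Cfsg.Agent.SylowSp4.Base (exists_TSp baseHom base mem_base base_le card_ker card_base relIndex_base card_eq
  transport)


section PSp

variable {F : Type*} [Field F] [Fintype F]

theorem card_PSp (hF : Odd (Fintype.card F)) :
    Nat.card (Cfsg.PSp 2 F) * 2 =
      Fintype.card F ^ 4 * ((Fintype.card F ^ 2 - 1) * (Fintype.card F ^ 4 - 1)) := by
  have h := Subgroup.card_eq_card_quotient_mul_card_subgroup (Subgroup.center (symplecticGroup (Fin 2) F))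
  rw [LieClassical.SympCenter.card_center (by norm_num : 1 ≤ 2), LieClassical.SympCount.card_symplecticGroup] at h
  have h2 : Nat.gcd 2 (Fintype.card F - 1) = 2 := by
    apply Nat.gcd_eq_left
    obtain ⟨r, hr⟩ := hF
    exact ⟨r, by omega⟩
  rw [h2, Finset.prod_range_succ, Finset.prod_range_succ, Finset.prod_range_zero, one_mul] at h
  exact h.symm

/-- A Sylow 2-subgroup of `PSp_4(q)` with coordinates. -/
theorem exists_sylow (hF : Odd (Fintype.card F)) (P2 : Sylow 2 (SpecialLinearGroup (Fin 2) F)) {k : ℕ} (hk : 1 ≤ k)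
    (e : (P2 : Subgroup (SpecialLinearGroup (Fin 2) F)) ≃* Q k) :
    ∃ (S : Sylow 2 (Cfsg.PSp 2 F)) (f : Q k → Q k → Cfsg.PSp 2 F) (s : Cfsg.PSp 2 F),
      TSp (S : Subgroup (Cfsg.PSp 2 F)) k f s := by
  classical
  have h2 : (2 : F) ≠ 0 := (ClassicalGeometry.PSL2Basic.two_ne_zero_iff_odd F).2 hF
  -- the central involution
  have hz : ((e.symm (z k) : P2) : SpecialLinearGroup (Fin 2) F).1 = -1 := by
    have h3 : (e.symm (z k)) * (e.symm (z k)) = 1 := by rw [← map_mul, z_mul_z, map_one]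
    have h4 : ((e.symm (z k) : P2) : SpecialLinearGroup (Fin 2) F).1 *
        ((e.symm (z k) : P2) : SpecialLinearGroup (Fin 2) F).1 = 1 :=
      congrArg (fun x : (P2 : Subgroup (SpecialLinearGroup (Fin 2) F)) => (x : SpecialLinearGroup (Fin 2) F).1) h3
    rcases S0268.eq_one_or_neg_one h2 _ ((e.symm (z k) : P2) : SpecialLinearGroup (Fin 2) F).2 h4 with h5 | h5
    · exfalso
      apply z_ne_one (k := k)
      have h6 : e.symm (z k) = 1 := Subtype.ext (Subtype.ext h5)
      rw [← map_one e.symm] at h6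
      exact e.symm.injective h6
    · exact h5
  have hneg : ∀ a b : Q k, (((e.symm a : P2) : SpecialLinearGroup (Fin 2) F)⁻¹ *
      ((e.symm b : P2) : SpecialLinearGroup (Fin 2) F)).1 = -1 → a = z k * b := by
    intro a b hab
    have h3 : ((e.symm a : P2) : SpecialLinearGroup (Fin 2) F)⁻¹ * ((e.symm b : P2) : SpecialLinearGroup (Fin 2) F) =
        ((e.symm (z k) : P2) : SpecialLinearGroup (Fin 2) F) := Subtype.ext (by rw [hab, hz])
    have h4 : (e.symm a)⁻¹ * e.symm b = e.symm (z k) := Subtype.ext h3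
    rw [← map_inv, ← map_mul] at h4
    have h5 := e.symm.injective h4
    have h6 : b = a * z k := by rw [← h5, mul_inv_cancel_left]
    rw [h6, ← z_comm, zz_mul]
  have hone : ∀ a b : Q k, ((e.symm a : P2) : SpecialLinearGroup (Fin 2) F)⁻¹ *
      ((e.symm b : P2) : SpecialLinearGroup (Fin 2) F) = 1 → a = b := by
    intro a b hab
    have h4 : (e.symm a)⁻¹ * e.symm b = 1 := Subtype.ext hab
    exact e.symm.injective (inv_mul_eq_one.1 h4)
  obtain ⟨S, hS⟩ := exists_TSp (G := Cfsg.PSp 2 F) hk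
    (f := fun a b => (QuotientGroup.mk (emb ((e.symm a : P2) : SpecialLinearGroup (Fin 2) F)
      ((e.symm b : P2) : SpecialLinearGroup (Fin 2) F)) : Cfsg.PSp 2 F))
    (s := (QuotientGroup.mk sw : Cfsg.PSp 2 F))
    (by
      intro a b c d
      change (QuotientGroup.mk (_ * _) : Cfsg.PSp 2 F) = _
      rw [emb_mul, map_mul, map_mul]
      rfl)
    ((QuotientGroup.eq_one_iff _).2 (emb_neg_mem_center hz hz))
    (by
      intro a b c d hh
      rw [QuotientGroup.eq, emb_inv, emb_mul] at hh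
      rcases emb_mem_center hh with ⟨h3, h4⟩ | ⟨h3, h4⟩
      · exact Or.inl ⟨hone _ _ h3, hone _ _ h4⟩
      · exact Or.inr ⟨hneg _ _ h3, hneg _ _ h4⟩)
    (by
      change (QuotientGroup.mk (sw * sw) : Cfsg.PSp 2 F) = _
      rw [sw_sq]
      rfl)
    (by
      intro a b
      change (QuotientGroup.mk (sw * _) : Cfsg.PSp 2 F) = QuotientGroup.mk (_ * sw)
      rw [sw_emb])
    (by
      intro a b hh
      rw [QuotientGroup.eq] at hh
      exact sw_not_center_mul hh)
  have hcard := card_eq hS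
  have hP2card : Nat.card (P2 : Subgroup (SpecialLinearGroup (Fin 2) F)) = 2 ^ (k + 2) := by
    rw [Nat.card_congr e.toEquiv, card_Q]
  have hidx : ¬ 2 ∣ S.index := by
    have h3 := S.card_mul_index
    have h4 := card_PSp hF
    have h5 := (P2 : Subgroup (SpecialLinearGroup (Fin 2) F)).card_mul_index
    have h6 := P2.not_dvd_index
    rw [hP2card, ClassicalGeometry.PSL2Basic.card_SL2] at h5
    rw [← h3, hcard] at h4
    set q := Fintype.card F with hq
    set m := (P2 : Subgroup (SpecialLinearGroup (Fin 2) F)).index with hm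
    obtain ⟨r, hr⟩ := hF
    obtain ⟨l, hl⟩ : Odd m := Nat.not_even_iff_odd.1 (fun h => h6 h.two_dvd)
    have hq1 : 1 ≤ q := by omega
    have h7 : q ^ 4 - 1 = (q ^ 2 - 1) * (q ^ 2 + 1) := by
      have : 1 ≤ q ^ 2 := Nat.one_le_pow _ _ hq1
      zify [this, Nat.one_le_pow 4 q hq1]
      ring
    have h8 : q ^ 2 + 1 = 2 * (2 * (r * r + r) + 1) := by rw [hr]; ring
    have h9 : 2 ^ (2 * k + 4) * 2 * S.index = 2 ^ (2 * k + 4) * 2 * (q ^ 2 * m ^ 2 * (2 * (r * r + r) + 1)) := by
      have e1 : q ^ 4 * ((q ^ 2 - 1) * (q ^ 4 - 1)) = q ^ 2 * (q * (q ^ 2 - 1)) ^ 2 * (q ^ 2 + 1) := by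
        rw [h7]; ring
      rw [e1, ← h5, h8] at h4
      have e2 : (2 : ℕ) ^ (2 * k + 4) = (2 ^ (k + 2)) ^ 2 := by rw [← pow_mul]; congr 1; ring
      rw [e2] at h4 ⊢
      linear_combination h4
    have h10 := Nat.eq_of_mul_eq_mul_left (by positivity) h9
    have h11 : Odd S.index := by
      rw [h10, hl, hr]
      apply Odd.mul
      · apply Odd.mul
        · exact Odd.pow ⟨r, rfl⟩
        · exact Odd.pow ⟨l, rfl⟩
      · exact ⟨r * r + r, rfl⟩
    intro h12
    exact Nat.not_even_iff_odd.2 h11 (even_iff_two_dvd.2 h12)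
  have hp : IsPGroup 2 S := IsPGroup.of_card hcard
  exact ⟨hp.toSylow hidx, _, _, hS⟩

/-- The Sylow 2-subgroups of `PSp_4(q)`, `q` odd: coordinates. -/
theorem exists_coord {G : Type*} [Group G] (hF : Odd (Fintype.card F)) (S : Subgroup G) (P : Sylow 2 (Cfsg.PSp 2 F))
    (hS : Nonempty (S ≃* (P : Subgroup (Cfsg.PSp 2 F)))) :
    ∃ (k : ℕ) (f : Q k → Q k → G) (s : G), TSp S k f s := by
  classical
  have P2 : Sylow 2 (SpecialLinearGroup (Fin 2) F) := default
  obtain ⟨k, hk, ⟨e⟩⟩ := S0261.result hF P2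
  obtain ⟨P', f, s, h⟩ := exists_sylow hF P2 hk e
  obtain ⟨e1⟩ := hS
  have e2 : (P' : Subgroup (Cfsg.PSp 2 F)) ≃* S := (P'.equiv P).trans e1.symm
  obtain ⟨f', s', h'⟩ := transport h e2
  exact ⟨k, f', s', h'⟩

/-- The value of `k`: `2 ^ (k + 2)` is the order of a Sylow 2-subgroup of `SL_2(q)`. -/
theorem exists_coord' {G : Type*} [Group G] (hF : Odd (Fintype.card F)) (S : Subgroup G) (P : Sylow 2 (Cfsg.PSp 2 F))
    (hS : Nonempty (S ≃* (P : Subgroup (Cfsg.PSp 2 F)))) (P2 : Sylow 2 (SpecialLinearGroup (Fin 2) F)) :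
    ∃ (k : ℕ) (f : Q k → Q k → G) (s : G), TSp S k f s ∧
      Nat.card (P2 : Subgroup (SpecialLinearGroup (Fin 2) F)) = 2 ^ (k + 2) := by
  classical
  obtain ⟨k, hk, ⟨e⟩⟩ := S0261.result hF P2
  obtain ⟨P', f, s, h⟩ := exists_sylow hF P2 hk e
  obtain ⟨e1⟩ := hS
  have e2 : (P' : Subgroup (Cfsg.PSp 2 F)) ≃* S := (P'.equiv P).trans e1.symm
  obtain ⟨f', s', h'⟩ := transport h e2
  exact ⟨k, f', s', h', by rw [Nat.card_congr e.toEquiv, card_Q]⟩

end PSp

end Cfsg.Agent.SylowSp4.Recog
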