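import Cfsg.Agent.SylowSp4.Facts
import Cfsg.Agent.SylowSp4.Base
import Cfsg.Agent.SylowG2.Closed
set_option linter.all false

/-!
# Type `Q ∘ Q`: the two quaternion factors are strongly closed when the central involution is central in the group
-/

set_option autoImplicit false

namespace Cfsg.Agent.SylowSp4.Closed

open Subgroup QuaternionGroup Cfsg.Agent.SylowSp4.Coord Cfsg.Agent.SylowSp4.Facts
open Cfsg.Agent.Lib.GoldschmidtFusion
open Cfsg.Agent.SylowG2.Closed (mem_zpowers_sq fix_of_fix_sq eq_one_of_shift eq_top_of_odd_mem)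

/-- Coordinates on a 2-group `Q ∘ Q`. -/
structure TQQ {G : Type*} [Group G] (R : Subgroup G) (k : ℕ) (f : Q k → Q k → G) : Prop where
  hk : 1 ≤ k
  f_mul : ∀ a b c d, f a b * f c d = f (a * c) (b * d)
  f_zz : f (z k) (z k) = 1
  f_inj : ∀ a b c d, f a b = f c d → (a = c ∧ b = d) ∨ (a = z k * c ∧ b = z k * d)
  mem_iff : ∀ g, g ∈ R ↔ ∃ a b, g = f a b

/-- The base group. -/
theorem ofTSp {G : Type*} [Group G] {S : Subgroup G} {k : ℕ} {f : Q k → Q k → G} {s : G} (h : TSp S k f s) :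
    TQQ (Base.base h) k f where
  hk := h.hk
  f_mul := h.f_mul
  f_zz := h.f_zz
  f_inj := h.f_inj
  mem_iff _ := Base.mem_base h

namespace TQQ

variable {G : Type*} [Group G] {R : Subgroup G} {k : ℕ} {f : Q k → Q k → G} (h : TQQ R k f)

include h

/-- Restriction to a subgroup containing `R`. -/
theorem restrict {K : Subgroup G} (hRK : ∀ a b, f a b ∈ K) :
    TQQ (R.subgroupOf K) k (fun a b => (⟨f a b, hRK a b⟩ : K)) where
  hk := h.hk
  f_mul a b c d := Subtype.ext (h.f_mul a b c d)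
  f_zz := Subtype.ext h.f_zz
  f_inj a b c d e := h.f_inj a b c d (congrArg Subtype.val e)
  mem_iff g := by
    rw [Subgroup.mem_subgroupOf, h.mem_iff]
    constructor
    · rintro ⟨a, b, e⟩
      exact ⟨a, b, Subtype.ext e⟩
    · rintro ⟨a, b, e⟩
      exact ⟨a, b, congrArg Subtype.val e⟩

/-- Exchange of the two factors. -/
theorem swap : TQQ R k (fun a b => f b a) where
  hk := h.hk
  f_mul _ _ _ _ := h.f_mul _ _ _ _
  f_zz := h.f_zz
  f_inj a b c d e := by
    rcases h.f_inj _ _ _ _ e with ⟨h1, h2⟩ | ⟨h1, h2⟩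
    · exact Or.inl ⟨h2, h1⟩
    · exact Or.inr ⟨h2, h1⟩
  mem_iff g := by
    rw [h.mem_iff]
    constructor
    · rintro ⟨a, b, e⟩; exact ⟨b, a, e⟩
    · rintro ⟨a, b, e⟩; exact ⟨b, a, e⟩

theorem f_one : f 1 1 = 1 := by
  have h1 := h.f_mul 1 1 1 1
  rw [one_mul] at h1
  exact mul_eq_left.1 h1

theorem f_inv (a b : Q k) : (f a b)⁻¹ = f a⁻¹ b⁻¹ := by
  apply inv_eq_of_mul_eq_one_left
  rw [h.f_mul, inv_mul_cancel, inv_mul_cancel, h.f_one]

theorem f_mem (a b : Q k) : f a b ∈ R := (h.mem_iff _).2 ⟨a, b, rfl⟩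

theorem f_eq_iff (a b c d : Q k) : f a b = f c d ↔ (a = c ∧ b = d) ∨ (a = z k * c ∧ b = z k * d) := by
  refine ⟨h.f_inj a b c d, ?_⟩
  rintro (⟨rfl, rfl⟩ | ⟨rfl, rfl⟩)
  · rfl
  · rw [← h.f_mul, h.f_zz, one_mul]

theorem f_congr_z (α β : Q k) : f (z k * α) β = f α (z k * β) := by
  rw [h.f_eq_iff]
  right
  exact ⟨rfl, (zz_mul β).symm⟩

theorem f_one_z : f 1 (z k) = f (z k) 1 := by
  have := f_congr_z h 1 1
  rw [mul_one] at this
  exact this.symm

theorem t_ne_one : f (z k) 1 ≠ 1 := by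
  rw [← h.f_one, Ne, h.f_eq_iff]
  rintro (⟨h1, -⟩ | ⟨-, h1⟩)
  · exact z_ne_one h1
  · rw [mul_one] at h1
    exact z_ne_one h1.symm

theorem t_sq : f (z k) 1 * f (z k) 1 = 1 := by
  rw [h.f_mul, z_mul_z, one_mul, h.f_one]

/-- The first factor. -/
def Q1 (h : TQQ R k f) : Subgroup G where
  carrier := {g | ∃ a, g = f a 1}
  mul_mem' := by
    rintro _ _ ⟨a, rfl⟩ ⟨b, rfl⟩
    exact ⟨a * b, by rw [h.f_mul, one_mul]⟩
  one_mem' := ⟨1, h.f_one.symm⟩
  inv_mem' := by
    rintro _ ⟨a, rfl⟩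
    exact ⟨a⁻¹, by rw [h.f_inv, inv_one]⟩

/-- The second factor. -/
def Q2 (h : TQQ R k f) : Subgroup G := h.swap.Q1

omit h in
theorem mem_Q1 (h : TQQ R k f) {g : G} : g ∈ h.Q1 ↔ ∃ a, g = f a 1 := Iff.rfl

omit h in
theorem mem_Q2 (h : TQQ R k f) {g : G} : g ∈ h.Q2 ↔ ∃ a, g = f 1 a := Iff.rfl

theorem Q1_le : h.Q1 ≤ R := by
  rintro _ ⟨a, rfl⟩
  exact h.f_mem _ _

theorem Q2_le : h.Q2 ≤ R := by
  rintro _ ⟨a, rfl⟩
  exact h.f_mem _ _

theorem conj_mem_Q1 {g x : G} (hg : g ∈ R) (hx : x ∈ h.Q1) : g * x * g⁻¹ ∈ h.Q1 := by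
  obtain ⟨a, b, rfl⟩ := (h.mem_iff g).1 hg
  obtain ⟨c, rfl⟩ := hx
  refine ⟨a * c * a⁻¹, ?_⟩
  rw [h.f_inv, h.f_mul, h.f_mul, mul_one, mul_inv_cancel]

/-- roots of `t` lie in `Q1` or `Q2` -/
theorem mem_or_of_sq {g : G} (hg : g ∈ R) (hsq : g * g = f (z k) 1) : g ∈ h.Q1 ∨ g ∈ h.Q2 := by
  obtain ⟨α, β, rfl⟩ := (h.mem_iff g).1 hg
  rw [h.f_mul, h.f_eq_iff] at hsq
  rcases hsq with ⟨h1, h2⟩ | ⟨h1, h2⟩
  · rcases eq_of_sq_one h2 with rfl | rfl
    · exact Or.inl ⟨α, rfl⟩
    · refine Or.inl ⟨z k * α, ?_⟩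
      rw [h.f_congr_z, mul_one]
  · rw [z_mul_z] at h1
    rcases eq_of_sq_one h1 with rfl | rfl
    · exact Or.inr ⟨β, rfl⟩
    · refine Or.inr ⟨z k * β, ?_⟩
      change f (z k) β = f 1 (z k * β)
      rw [← h.f_congr_z, mul_one]

/-- commuting roots in `Q1` are equal or inverse -/
theorem eq_or_eq_inv {x y : G} (hx : x ∈ h.Q1) (hy : y ∈ h.Q1) (hx2 : x * x = f (z k) 1) (hy2 : y * y = f (z k) 1)
    (hc : x * y = y * x) : y = x ∨ y = x⁻¹ := by
  obtain ⟨α, rfl⟩ := hx
  obtain ⟨β, rfl⟩ := hy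
  have e : ∀ {γ : Q k}, f γ 1 * f γ 1 = f (z k) 1 → γ * γ = z k := by
    intro γ hγ
    rw [h.f_mul, one_mul, h.f_eq_iff] at hγ
    rcases hγ with ⟨h1, -⟩ | ⟨-, h1⟩
    · exact h1
    · rw [mul_one] at h1
      exact absurd h1.symm z_ne_one
  rw [h.f_mul, h.f_mul, one_mul, h.f_eq_iff] at hc
  have hc' : α * β = β * α := by
    rcases hc with ⟨h1, -⟩ | ⟨-, h1⟩
    · exact h1
    · rw [mul_one] at h1
      exact absurd h1.symm z_ne_one
  rcases eq_or_of_comm (e hx2) (e hy2) hc' with h1 | h1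
  · left; rw [h1]
  · right; rw [h.f_inv, inv_one, inv_of_sq_z (e hx2), h1]

theorem eq_or_eq_inv' {x y : G} (hx : x ∈ h.Q2) (hy : y ∈ h.Q2) (hx2 : x * x = f (z k) 1) (hy2 : y * y = f (z k) 1)
    (hc : x * y = y * x) : y = x ∨ y = x⁻¹ :=
  h.swap.eq_or_eq_inv hx hy (by rw [hx2, h.f_one_z]) (by rw [hy2, h.f_one_z]) hc

theorem comm_Q1_Q2 {x y : G} (hx : x ∈ h.Q1) (hy : y ∈ h.Q2) : x * y = y * x := by
  obtain ⟨α, rfl⟩ := hx
  obtain ⟨β, rfl⟩ := hy
  change f α 1 * f 1 β = f 1 β * f α 1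
  rw [h.f_mul, h.f_mul, one_mul, mul_one, one_mul, mul_one]

theorem eq_of_mem_both {x : G} (hx : x ∈ h.Q1) (hx' : x ∈ h.Q2) : x = 1 ∨ x = f (z k) 1 := by
  obtain ⟨α, rfl⟩ := hx
  obtain ⟨β, hβ⟩ := hx'
  have hβ' : f α 1 = f 1 β := hβ
  rw [h.f_eq_iff] at hβ'
  rcases hβ' with ⟨h1, -⟩ | ⟨h1, -⟩
  · left; rw [h1, h.f_one]
  · right; rw [h1, mul_one]

theorem not_mem_both {x : G} (hx : x ∈ h.Q1) (hx' : x ∈ h.Q2) (hx2 : x * x = f (z k) 1) : False := by
  rcases h.eq_of_mem_both hx hx' with rfl | rfl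
  · rw [one_mul] at hx2
    exact h.t_ne_one hx2.symm
  · rw [h.t_sq] at hx2
    exact h.t_ne_one hx2.symm

/-- an element of odd order normalizing `X ≤ R` preserves the set of roots of `t` in `X ∩ Q1` -/
theorem key_one (hZ : ∀ g : G, g * f (z k) 1 = f (z k) 1 * g)
    {X : Subgroup G} (hX : X ≤ R) {g : G} (hg : g ∈ normalizer (X : Set G)) (ho : Odd (orderOf g)) {x : G}
    (hx : x ∈ X) (hx1 : x ∈ h.Q1) (hx2 : x * x = f (z k) 1) : g * x * g⁻¹ ∈ h.Q1 := by
  let a : ℕ → G := fun n => g ^ n * x * (g ^ n)⁻¹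
  have ha0 : a 0 = x := by simp [a]
  have ha1 : a 1 = g * x * g⁻¹ := by simp [a]
  have has : ∀ n, a (n + 1) = g * a n * g⁻¹ := by
    intro n
    simp only [a, pow_succ']
    group
  have haX : ∀ n, a n ∈ X := by
    intro n
    exact (mem_normalizer_iff.1 (pow_mem hg n) x).1 hx
  have haS : ∀ n, a n ∈ R := fun n => hX (haX n)
  have ha2 : ∀ n, a n * a n = f (z k) 1 := by
    intro n
    have : a n * a n = g ^ n * (x * x) * (g ^ n)⁻¹ := by simp only [a]; group
    rw [this, hx2, hZ, mul_inv_cancel_right]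
  have hcomm : ∀ n, a n * a (n + 1) = a (n + 1) * a n → a (n + 1) * a (n + 2) = a (n + 2) * a (n + 1) := by
    intro n hk
    rw [has (n + 1)]
    nth_rw 1 [has n]
    nth_rw 3 [has n]
    have : g * (a n * a (n + 1)) * g⁻¹ = g * (a (n + 1) * a n) * g⁻¹ := by rw [hk]
    calc g * a n * g⁻¹ * (g * a (n + 1) * g⁻¹) = g * (a n * a (n + 1)) * g⁻¹ := by group
      _ = g * (a (n + 1) * a n) * g⁻¹ := this
      _ = g * a (n + 1) * g⁻¹ * (g * a n * g⁻¹) := by group
  have hback : ∀ n, (a (n + 1) = a n ∨ a (n + 1) = (a n)⁻¹) → (a 1 = a 0 ∨ a 1 = (a 0)⁻¹) := by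
    intro n hk
    have e1 : a (n + 1) = g ^ n * a 1 * (g ^ n)⁻¹ := by
      simp only [a, pow_succ, pow_zero, one_mul]; group
    have e0 : a n = g ^ n * a 0 * (g ^ n)⁻¹ := by simp only [a]; group
    rcases hk with hk | hk
    · left
      rw [e1, e0] at hk
      exact mul_left_cancel (mul_right_cancel hk)
    · right
      rw [e1, e0] at hk
      have : (g ^ n * a 0 * (g ^ n)⁻¹)⁻¹ = g ^ n * (a 0)⁻¹ * (g ^ n)⁻¹ := by group
      rw [this] at hk
      exact mul_left_cancel (mul_right_cancel hk)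
  rcases h.mem_or_of_sq (haS 1) (ha2 1) with h1 | h1
  · rwa [ha1] at h1
  exfalso
  have hno : ¬ (a 1 = a 0 ∨ a 1 = (a 0)⁻¹) := by
    intro hc
    refine not_mem_both h ?_ h1 (ha2 1)
    rcases hc with hc | hc
    · rw [hc, ha0]; exact hx1
    · rw [hc, ha0]; exact inv_mem hx1
  have halt : ∀ j, (a (2 * j) ∈ h.Q1 ∧ a (2 * j + 1) ∈ h.Q2) := by
    intro j
    induction j with
    | zero => exact ⟨by rw [mul_zero, ha0]; exact hx1, h1⟩
    | succ j ih =>
      obtain ⟨h3, h4⟩ := ih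
      have h5 : a (2 * j + 2) ∈ h.Q1 := by
        rcases h.mem_or_of_sq (haS (2 * j + 2)) (ha2 _) with h6 | h6
        · exact h6
        · exfalso
          have hc := hcomm (2 * j) (comm_Q1_Q2 h h3 h4)
          exact hno (hback (2 * j + 1) (eq_or_eq_inv' h h4 h6 (ha2 _) (ha2 _) hc))
      refine ⟨h5, ?_⟩
      change a (2 * j + 2 + 1) ∈ h.Q2
      rcases h.mem_or_of_sq (haS (2 * j + 2 + 1)) (ha2 _) with h6 | h6
      · exfalso
        have hc := hcomm (2 * j + 1) (comm_Q1_Q2 h h5 h4).symm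
        exact hno (hback (2 * j + 2) (eq_or_eq_inv h h5 h6 (ha2 _) (ha2 _) hc))
      · exact h6
  obtain ⟨n, hn⟩ := ho
  have h7 := (halt n).2
  have h8 : a (2 * n + 1) = x := by
    simp only [a]
    rw [← hn, pow_orderOf_eq_one]; simp
  rw [h8] at h7
  exact not_mem_both h hx1 h7 hx2

/-- an element of odd order normalizing `X ≤ R` preserves `X ∩ Q1` -/
theorem key_two (hZ : ∀ g : G, g * f (z k) 1 = f (z k) 1 * g)
    {X : Subgroup G} (hX : X ≤ R) {g : G} (hg : g ∈ normalizer (X : Set G)) (ho : Odd (orderOf g)) {x : G}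
    (hx : x ∈ X) (hx1 : x ∈ h.Q1) : g * x * g⁻¹ ∈ h.Q1 := by
  have hgX : ∀ {y : G}, y ∈ X → g * y * g⁻¹ ∈ X := fun {y} hy => (mem_normalizer_iff.1 hg y).1 hy
  have hsqf : ∀ {α : Q k}, α * α = z k → f α 1 * f α 1 = f (z k) 1 := by
    intro α hα
    rw [h.f_mul, hα, one_mul]
  obtain ⟨α, rfl⟩ := hx1
  rcases α with i | i
  swap
  · exact key_one h hZ hX hg ho hx ⟨_, rfl⟩ (hsqf (Coord.xa_sq i))
  by_cases hc : ∃ j, f (xa j) 1 ∈ X
  · obtain ⟨j, hj⟩ := hc
    have e : f (xa j) 1 * f (a i) 1 = f (xa (j + i)) 1 := by rw [h.f_mul, xa_mul_a, one_mul]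
    have h5 := key_one h hZ hX hg ho hj ⟨_, rfl⟩ (hsqf (Coord.xa_sq j))
    have h6 := key_one h hZ hX hg ho (x := f (xa (j + i)) 1) (by rw [← e]; exact mul_mem hj hx) ⟨_, rfl⟩
      (hsqf (Coord.xa_sq _))
    have h7 : g * f (a i) 1 * g⁻¹ = (g * f (xa j) 1 * g⁻¹)⁻¹ * (g * f (xa (j + i)) 1 * g⁻¹) := by
      rw [← e]; group
    rw [h7]
    exact mul_mem (inv_mem h5) h6
  -- now `X ∩ Q1` is cyclic and `g` centralizes it
  have hgt : g * f (z k) 1 * g⁻¹ = f (z k) 1 := by rw [hZ, mul_inv_cancel_right]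
  have hfix : ∀ n : ℕ, ∀ i : ZMod (2 * 2 ^ k), f (a i) 1 ∈ X → (2 : ZMod (2 * 2 ^ k)) ^ n * i = 0 →
      g * f (a i) 1 * g⁻¹ = f (a i) 1 := by
    intro n
    induction n with
    | zero =>
      intro i _ hi
      rw [pow_zero, one_mul] at hi
      rw [hi, ← one_def, h.f_one]; group
    | succ n ih =>
      intro i hiX hi
      by_cases hi0 : (2 : ZMod (2 * 2 ^ k)) ^ n * i = 0
      · exact ih i hiX hi0
      have hie : (2 : ZMod (2 * 2 ^ k)) ^ n * i = hh k := by
        rcases eq_of_add_self' (i := (2 : ZMod (2 * 2 ^ k)) ^ n * i)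
          (by rw [pow_succ] at hi; linear_combination hi) with h5 | h5
        · exact absurd h5 hi0
        · exact h5
      rcases n with _ | n
      · rw [pow_zero, one_mul] at hie
        have e : (a i : Q k) = z k := by rw [hie]; rfl
        rw [e, hgt]
      rcases n with _ | n
      · -- order 4
        have hie' : i + i = hh k := by linear_combination hie
        have hx2 := hsqf (a_sq_z hie')
        have h5 := key_one h hZ hX hg ho hiX ⟨_, rfl⟩ hx2
        have h5X := hgX hiX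
        have h5s : (g * f (a i) 1 * g⁻¹) * (g * f (a i) 1 * g⁻¹) = f (z k) 1 := by
          have : (g * f (a i) 1 * g⁻¹) * (g * f (a i) 1 * g⁻¹) = g * (f (a i) 1 * f (a i) 1) * g⁻¹ := by group
          rw [this, hx2, hgt]
        obtain ⟨β, hβ⟩ := h5
        rcases β with j | j
        · have hcj : f (a i) 1 * (g * f (a i) 1 * g⁻¹) = (g * f (a i) 1 * g⁻¹) * f (a i) 1 := by
            rw [hβ, h.f_mul, h.f_mul, a_comm_a]
          rcases eq_or_eq_inv h ⟨_, rfl⟩ ⟨_, hβ⟩ hx2 h5s hcj with h6 | h6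
          · exact h6
          · refine fix_of_fix_sq ho ?_
            rw [h6]
            have : g * (f (a i) 1)⁻¹ * g⁻¹ = (g * f (a i) 1 * g⁻¹)⁻¹ := by group
            rw [this, h6, inv_inv]
        · exact absurd ⟨j, by rw [← hβ]; exact h5X⟩ hc
      · -- order at least 8
        obtain ⟨q, hq⟩ : ∃ q, q = (2 : ZMod (2 * 2 ^ k)) ^ (n + 1) * i := ⟨_, rfl⟩
        have hpow : ∀ m : ℕ, (f (a i) 1) ^ m = f (a ((m : ZMod (2 * 2 ^ k)) * i)) 1 := by
          intro m
          induction m with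
          | zero => rw [pow_zero, Nat.cast_zero, zero_mul, ← one_def, h.f_one]
          | succ m ihk =>
            rw [pow_succ, ihk, h.f_mul, a_mul_a, one_mul]
            congr 2
            push_cast; ring
        have hqq : q + q = hh k := by rw [hq, ← hie]; ring
        have hqX : f (a q) 1 ∈ X := by
          have := pow_mem hiX (2 ^ (n + 1))
          rw [hpow] at this
          rw [hq]
          push_cast at this
          exact this
        have hq2 : (2 : ZMod (2 * 2 ^ k)) ^ (n + 2) * q = 0 := by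
          have : (2 : ZMod (2 * 2 ^ k)) ^ (n + 2) * q = 2 ^ (n + 1) * (q + q) := by ring
          rw [this, hqq, pow_succ]
          linear_combination (2 : ZMod (2 * 2 ^ k)) ^ n * hh_add (k := k)
        have hgq := ih q hqX hq2
        have hg2 := ih (i + i) (by
          have := mul_mem hiX hiX
          rwa [h.f_mul, a_mul_a, one_mul] at this)
          (by linear_combination hi)
        -- elements of `R` commuting with `(a q, 1)` have cyclic first coordinate
        have hshape : ∀ w ∈ X, w * f (a q) 1 = f (a q) 1 * w → ∃ l δ, w = f (a l) δ := by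
          intro w hw hcw
          obtain ⟨γ, δ, rfl⟩ := (h.mem_iff w).1 (hX hw)
          rcases γ with l | l
          · exact ⟨l, δ, rfl⟩
          · exfalso
            rw [h.f_mul, h.f_mul, h.f_eq_iff, mul_one, one_mul] at hcw
            rcases hcw with ⟨h5, -⟩ | ⟨-, h5⟩
            · have h6 := a_sq_z hqq
              rcases of_a_comm_xa h5.symm with h7 | h7
              · exact ne_one_of_sq_z h6 h7
              · exact ne_z_of_sq_z h6 h7
            · exact ne_z_mul _ h5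
        -- conjugation by `g` and centralizing
        have hcen : ∀ w ∈ X, w * f (a q) 1 = f (a q) 1 * w → w * f (a i) 1 = f (a i) 1 * w := by
          intro w hw hcw
          obtain ⟨l, δ, rfl⟩ := hshape w hw hcw
          rw [h.f_mul, h.f_mul, a_comm_a, mul_one, one_mul]
        have hcen' : ∀ y, (∀ w ∈ X, w * f (a q) 1 = f (a q) 1 * w → w * y = y * w) →
            ∀ w ∈ X, w * f (a q) 1 = f (a q) 1 * w → w * (g * y * g⁻¹) = (g * y * g⁻¹) * w := by
          intro y hy w hw hc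
          have h6 : g⁻¹ * w * g ∈ X := by
            have := (mem_normalizer_iff.1 (inv_mem hg) w).1 hw
            rwa [inv_inv] at this
          have h7 : (g⁻¹ * w * g) * f (a q) 1 = f (a q) 1 * (g⁻¹ * w * g) := by
            have e1 : (g⁻¹ * w * g) * f (a q) 1 = g⁻¹ * (w * (g * f (a q) 1 * g⁻¹)) * g := by group
            have e2 : f (a q) 1 * (g⁻¹ * w * g) = g⁻¹ * ((g * f (a q) 1 * g⁻¹) * w) * g := by group
            rw [e1, e2, hgq, hc]
          have h8 := hy _ h6 h7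
          have e1 : w * (g * y * g⁻¹) = g * ((g⁻¹ * w * g) * y) * g⁻¹ := by group
          have e2 : (g * y * g⁻¹) * w = g * (y * (g⁻¹ * w * g)) * g⁻¹ := by group
          rw [e1, e2, h8]
        have hyX := hgX hiX
        have hyc := hcen' _ hcen
        have hyq : (g * f (a i) 1 * g⁻¹) * f (a q) 1 = f (a q) 1 * (g * f (a i) 1 * g⁻¹) :=
          (hyc _ hqX rfl).symm
        obtain ⟨l, δ, hy⟩ := hshape _ hyX hyq
        have hy2 : f (a l) δ * f (a l) δ = f (a (i + i)) 1 := by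
          rw [← hy]
          have : (g * f (a i) 1 * g⁻¹) * (g * f (a i) 1 * g⁻¹) = g * (f (a i) 1 * f (a i) 1) * g⁻¹ := by group
          rw [this, h.f_mul, a_mul_a, one_mul, hg2]
        obtain ⟨w, hw⟩ : ∃ w, w = (f (a i) 1)⁻¹ * (g * f (a i) 1 * g⁻¹) := ⟨_, rfl⟩
        have hwf : w = f (a (l - i)) δ := by
          have e : (a i : Q k)⁻¹ = a (-i) := by
            apply inv_eq_of_mul_eq_one_left
            rw [a_mul_a, one_def]
            congr 1
            ring
          rw [hw, hy, h.f_inv, h.f_mul, inv_one, one_mul, e, a_mul_a]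
          congr 2
          ring
        have hxw : g * f (a i) 1 * g⁻¹ = f (a i) 1 * w := by rw [hw]; group
        have hwX : w ∈ X := by rw [hw]; exact mul_mem (inv_mem hiX) hyX
        have hww : w * w = 1 := by
          rw [hwf, h.f_mul, a_mul_a]
          rw [h.f_mul, a_mul_a, h.f_eq_iff] at hy2
          rcases hy2 with ⟨h5, h6⟩ | ⟨h5, h6⟩
          · have h7 := a.inj h5
            have h8 : l - i + (l - i) = 0 := by linear_combination h7
            rw [h8, h6, ← one_def, h.f_one]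
          · rw [z_mul_a] at h5
            have h7 := a.inj h5
            have h8 : l - i + (l - i) = hh k := by linear_combination h7
            rw [h8, h6, mul_one, ← z_def, h.f_zz]
        have hcw : ∀ y ∈ X, y * f (a q) 1 = f (a q) 1 * y → y * w = w * y := by
          intro y hy hyc'
          have h6 : Commute y (f (a i) 1) := hcen y hy hyc'
          have h7 : Commute y (g * f (a i) 1 * g⁻¹) := hyc y hy hyc'
          rw [hw]
          exact (h6.inv_right.mul_right h7).eq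
        have hwq : w * f (a q) 1 = f (a q) 1 * w := (hcw _ hqX rfl).symm
        have hw'X := hgX hwX
        have hcw' := hcen' w hcw
        have hw'q : (g * w * g⁻¹) * f (a q) 1 = f (a q) 1 * (g * w * g⁻¹) := (hcw' _ hqX rfl).symm
        have hw'w' : (g * w * g⁻¹) * (g * w * g⁻¹) = 1 := by
          have : (g * w * g⁻¹) * (g * w * g⁻¹) = g * (w * w) * g⁻¹ := by group
          rw [this, hww]; group
        have hU : ∀ {m : ZMod (2 * 2 ^ k)} {δ : Q k}, f (a m) δ * f (a m) δ = 1 → f (a m) δ ≠ 1 →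
            f (a m) δ ≠ f (z k) 1 → m + m = hh k ∧ δ * δ = z k := by
          intro m δ h5 h6 h7
          rw [h.f_mul, a_mul_a, ← h.f_one, h.f_eq_iff, mul_one] at h5
          rcases h5 with ⟨h8, h9⟩ | ⟨h8, h9⟩
          · exfalso
            rw [one_def] at h8
            have h10 := one_or_z_of_add (k := k) (m := m) (a.inj h8)
            rcases h10 with h10 | h10 <;> rcases eq_of_sq_one h9 with h11 | h11 <;> rw [h10, h11] at h6 h7
            · exact h6 h.f_one
            · exact h7 h.f_one_z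
            · exact h7 rfl
            · exact h6 h.f_zz
          · rw [z_def] at h8
            exact ⟨a.inj h8, h9⟩
        have hgw : g * w * g⁻¹ = w := by
          by_cases hw1 : w = 1
          · rw [hw1]; group
          by_cases hwt : w = f (z k) 1
          · rw [hwt, hgt]
          have hn1 : g * w * g⁻¹ ≠ 1 := by
            intro hh
            apply hw1
            have := congrArg (fun z => g⁻¹ * z * g) hh
            simpa [mul_assoc] using this
          have hnt : g * w * g⁻¹ ≠ f (z k) 1 := by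
            intro hh
            apply hwt
            have h6 : w = g⁻¹ * f (z k) 1 * g := by rw [← hh]; group
            rw [h6, hZ, mul_assoc, inv_mul_cancel, mul_one]
          obtain ⟨m', δ', hw'⟩ := hshape _ hw'X hw'q
          have hcc := hcw' w hwX hwq
          obtain ⟨m1, m2⟩ := hU (by rw [← hwf]; exact hww) (by rw [← hwf]; exact hw1) (by rw [← hwf]; exact hwt)
          obtain ⟨m3, m4⟩ := hU (by rw [← hw']; exact hw'w') (by rw [← hw']; exact hn1) (by rw [← hw']; exact hnt)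
          have hδ : δ * δ' = δ' * δ := by
            rw [hw', hwf, h.f_mul, h.f_mul, h.f_eq_iff, a_comm_a] at hcc
            rcases hcc with ⟨-, h5⟩ | ⟨h5, -⟩
            · exact h5
            · exact absurd h5 (ne_z_mul _)
          have h6 : g * w * g⁻¹ = w ∨ g * w * g⁻¹ = w * f (z k) 1 := by
            rw [hw', hwf, h.f_mul, mul_one, ← z_comm]
            rcases of_a_sq_z m1 m3 with h7 | h7 <;> rcases eq_or_of_comm m2 m4 hδ with h8 | h8 <;> rw [h7, h8]
            · exact Or.inl rfl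
            · right; rw [h.f_congr_z]
            · exact Or.inr rfl
            · left; rw [h.f_eq_iff]; exact Or.inr ⟨rfl, rfl⟩
          rcases h6 with h6 | h6
          · exact h6
          · refine fix_of_fix_sq ho ?_
            rw [h6]
            have e1 : g * (w * f (z k) 1) * g⁻¹ = (g * w * g⁻¹) * (g * f (z k) 1 * g⁻¹) := by group
            rw [e1, h6, hgt, mul_assoc, h.t_sq, mul_one]
        have hfin := eq_one_of_shift ho (x := f (a i) 1) (w := w) hxw hgw hww
        rw [hfin, mul_one] at hxw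
        exact hxw
  rw [hfix (k + 1) i hx (two_pow_mul_eq_zero i)]
  exact ⟨_, rfl⟩

end TQQ

section

variable {G : Type*} [Group G] [Finite G] {P : Sylow 2 G} {k : ℕ} {f : Q k → Q k → G}

/-- `Q1` is strongly closed in `P` if `t` is central in `G`. -/
theorem strongly_closed (h : TQQ (P : Subgroup G) k f)
    (hZ : ∀ g : G, g * f (z k) 1 = f (z k) 1 * g) {x g : G} (hx : x ∈ h.Q1)
    (hg : g * x * g⁻¹ ∈ (P : Subgroup G)) : g * x * g⁻¹ ∈ h.Q1 := by
  let F : Subgroup G → Prop := fun X => f (z k) 1 ∈ X ∧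
    ¬ 2 ∣ ((P : Subgroup G) ⊓ normalizer (X : Set G)).relIndex (normalizer (X : Set G))
  have htZ : ∀ X : Subgroup G, f (z k) 1 ∈ centralizer (X : Set G) := by
    intro X
    rw [mem_centralizer_iff]
    intro y _
    exact hZ y
  have hP : F P := by
    refine ⟨h.f_mem _ _, ?_⟩
    rw [inf_eq_left.2 le_normalizer]
    intro hd
    exact P.not_dvd_index (hd.trans (relIndex_dvd_index_of_le le_normalizer))
  have hgen := gen_of_conj P F hP (fun X _ h1 h2 _ => ⟨h2 ⟨htZ X, h.f_mem _ _⟩, h1⟩)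
    (A := zpowers x) ((zpowers_le).2 (h.Q1_le hx)) (g := g) (zpowers_map_conj_le hg)
  have hinv := hgen.invariant (fun y => y ∈ h.Q1) (by
    rintro X hX ⟨htX, hXi⟩ n hn y hy
    -- the subgroup of `N_G(X)` preserving `X ∩ Q1`
    let N := normalizer (X : Set G)
    let H : Subgroup N :=
      { carrier := {n | ∀ y ∈ X, ((n : G) * y * (n : G)⁻¹ ∈ h.Q1 ↔ y ∈ h.Q1)}
        mul_mem' := by
          intro a b ha hb y hy
          have hby : (b : G) * y * (b : G)⁻¹ ∈ X := (mem_normalizer_iff.1 b.2 y).1 hy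
          rw [← hb y hy, ← ha _ hby]
          have : ((a * b : N) : G) * y * ((a * b : N) : G)⁻¹ = (a : G) * ((b : G) * y * (b : G)⁻¹) * (a : G)⁻¹ := by
            rw [Subgroup.coe_mul]; group
          rw [this]
        one_mem' := by intro y _; simp
        inv_mem' := by
          intro a ha y hy
          have hay : (a : G)⁻¹ * y * ((a : G)⁻¹)⁻¹ ∈ X := (mem_normalizer_iff.1 (inv_mem a.2) y).1 hy
          have h5 := ha _ hay
          have e : (a : G) * ((a : G)⁻¹ * y * ((a : G)⁻¹)⁻¹) * (a : G)⁻¹ = y := by group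
          rw [e] at h5
          exact h5.symm }
    have hHodd : Odd H.index := by
      have h3 : ((P : Subgroup G) ⊓ N).subgroupOf N ≤ H := by
        intro a ha y hy
        rw [mem_subgroupOf] at ha
        constructor
        · intro h5
          have := h.conj_mem_Q1 (inv_mem ha.1) h5
          have e : (a : G)⁻¹ * ((a : G) * y * (a : G)⁻¹) * ((a : G)⁻¹)⁻¹ = y := by group
          rwa [e] at this
        · intro h5
          exact h.conj_mem_Q1 ha.1 h5
      have h4 : H.index ∣ ((P : Subgroup G) ⊓ N).relIndex N := Subgroup.index_dvd_of_le h3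
      have h5 : Odd (((P : Subgroup G) ⊓ N).relIndex N) := by
        rw [← Nat.not_even_iff_odd, even_iff_two_dvd]
        exact hXi
      exact Odd.of_dvd_nat h5 h4
    have hHtop : H = ⊤ := by
      refine eq_top_of_odd_mem H hHodd ?_
      intro a ha y hy
      have ha' : Odd (orderOf (a : G)) := by rwa [Subgroup.orderOf_coe]
      constructor
      · intro h5
        have h6 : Odd (orderOf ((a : G)⁻¹)) := by rwa [orderOf_inv]
        have h7 := h.key_two hZ hX (inv_mem a.2) h6 ((mem_normalizer_iff.1 a.2 y).1 hy) h5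
        have e : (a : G)⁻¹ * ((a : G) * y * (a : G)⁻¹) * ((a : G)⁻¹)⁻¹ = y := by group
        rwa [e] at h7
      · intro h5
        exact h.key_two hZ hX a.2 ha' hy h5
    have hnH : (⟨n, hn⟩ : N) ∈ H := by rw [hHtop]; exact Subgroup.mem_top _
    exact propext (hnH y hy))
  have := hinv x (mem_zpowers x)
  simp only [eq_iff_iff] at this
  exact this.2 hx

/-- `Q2` is strongly closed in `P` if `t` is central in `G`. -/
theorem strongly_closed' (h : TQQ (P : Subgroup G) k f)
    (hZ : ∀ g : G, g * f (z k) 1 = f (z k) 1 * g) {x g : G} (hx : x ∈ h.Q2)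
    (hg : g * x * g⁻¹ ∈ (P : Subgroup G)) : g * x * g⁻¹ ∈ h.Q2 := by
  refine strongly_closed h.swap ?_ hx hg
  intro g
  change g * f 1 (z k) = f 1 (z k) * g
  rw [h.f_one_z]
  exact hZ g

end

/-- (C) In the normal subgroup `K` of index two with Sylow subgroup the base group, both factors are strongly closed. -/
theorem closed_in {G : Type*} [Group G] [Finite G] {P : Sylow 2 G} {k : ℕ} {f : Q k → Q k → G} {s : G}
    (h : TSp (P : Subgroup G) k f s) (hZ : ∀ g : G, g * f (z k) 1 = f (z k) 1 * g) {K : Subgroup G}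
    (hKi : K.index = 2) (hKP : K ⊓ (P : Subgroup G) = Base.base h) {α : Q k} {g : G} (hg : g ∈ K) :
    (g * f α 1 * g⁻¹ ∈ (P : Subgroup G) → ∃ β, g * f α 1 * g⁻¹ = f β 1) ∧
    (g * f 1 α * g⁻¹ ∈ (P : Subgroup G) → ∃ β, g * f 1 α * g⁻¹ = f 1 β) := by
  have hR := ofTSp h
  have hfK : ∀ a b, f a b ∈ K := by
    intro a b
    have : f a b ∈ K ⊓ (P : Subgroup G) := by rw [hKP]; exact (Base.mem_base h).2 ⟨a, b, rfl⟩
    exact this.1
  have hRK := hR.restrict hfK
  -- Sylow subgroup of `K`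
  have hp : IsPGroup 2 ((Base.base h).subgroupOf K) :=
    (P.isPGroup'.to_le (Base.base_le h)).comap_of_injective K.subtype K.subtype_injective
  have hi : ¬ 2 ∣ ((Base.base h).subgroupOf K).index := by
    intro hd
    have h1 : (Base.base h).relIndex K * K.index = (Base.base h).relIndex (P : Subgroup G) * (P : Subgroup G).index := by
      rw [relIndex_mul_index, relIndex_mul_index (Base.base_le h)]
      rw [← hKP]
      exact inf_le_left
    rw [hKi, Base.relIndex_base h, mul_comm] at h1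
    have h2 : (Base.base h).relIndex K = (P : Subgroup G).index := Nat.eq_of_mul_eq_mul_left (by norm_num) h1
    apply P.not_dvd_index
    rw [← h2]
    exact hd
  let PK : Sylow 2 K := hp.toSylow hi
  have hPK : TQQ (PK : Subgroup K) k (fun a b => (⟨f a b, hfK a b⟩ : K)) := hRK
  have hZK : ∀ g : K, g * (⟨f (z k) 1, hfK _ _⟩ : K) = ⟨f (z k) 1, hfK _ _⟩ * g := fun g => Subtype.ext (hZ g)
  have hin : ∀ {x : G} (hx : x ∈ K), x ∈ (P : Subgroup G) → (⟨x, hx⟩ : K) ∈ (PK : Subgroup K) := by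
    intro x hx hxP
    change x ∈ Base.base h
    rw [← hKP]
    exact ⟨hx, hxP⟩
  constructor
  · intro hgP
    have h1 := strongly_closed hPK hZK (x := ⟨f α 1, hfK _ _⟩) (g := ⟨g, hg⟩) ⟨α, rfl⟩
      (hin (K.mul_mem (K.mul_mem hg (hfK _ _)) (K.inv_mem hg)) hgP)
    obtain ⟨β, hβ⟩ := h1
    exact ⟨β, congrArg Subtype.val hβ⟩
  · intro hgP
    have h1 := strongly_closed' hPK hZK (x := ⟨f 1 α, hfK _ _⟩) (g := ⟨g, hg⟩) ⟨α, rfl⟩
      (hin (K.mul_mem (K.mul_mem hg (hfK _ _)) (K.inv_mem hg)) hgP)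
    obtain ⟨β, hβ⟩ := h1
    exact ⟨β, congrArg Subtype.val hβ⟩

end Cfsg.Agent.SylowSp4.Closed
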