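import Cfsg.Agent.SpFourOdd.LnLine_m3
import Cfsg.Agent.Prune
set_option linter.all false
prune_inst 0x7f00000000000000000000000000000000000000000000000000000000000000000000000000000000000000000000000000000000000000000000000000000000000000000000000000000000000000003fffffffffffffffffffffffffffbeffbdffffffff
open scoped Cfsg.Agent.FastGrp

/-!
# Fast kernel decision of statements on `M64`

Scoped `Decidable` instances which evaluate products on numbers `< 64` by a table:
`open scoped Cfsg.Agent.SylowSp4.Fast64 in decide +kernel`.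
-/

set_option autoImplicit false

noncomputable section

namespace Cfsg.Agent.SylowSp4.Fast64

open Cfsg.Agent.SylowSp4.AltModel

set_option genSizeOf false in
set_option genInjectivity false in
/-- the model on Booleans -/
structure B6 where
  (a b c d e m : Bool)

def z (b : Bool) : ZMod 2 := cond b 1 0
def xr (a b : Bool) : Bool := Bool.rec b (Bool.rec true false b) a
def an (a b : Bool) : Bool := Bool.rec false b a
theorem z_add : ∀ a b : Bool, z a + z b = z (xr a b) := by decide +kernel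
theorem z_mul : ∀ a b : Bool, z a * z b = z (an a b) := by decide +kernel
def toM (p : B6) : M64 := ⟨z p.a, z p.b, z p.c, z p.d, z p.e, p.m⟩

def mulB (p q : B6) : B6 := Bool.rec
  ⟨xr p.a q.a, xr p.b q.b, xr p.c q.c, xr p.d q.d, xr (xr (xr p.e q.e) (xr (xr (an p.a q.a) (an p.b q.b)) (an p.b q.a)))
    (xr (xr (an p.c q.c) (an p.d q.d)) (an p.d q.c)), q.m⟩
  ⟨xr p.a q.c, xr p.b q.d, xr p.c q.a, xr p.d q.b, xr (xr (xr p.e q.e) (xr (xr (an p.a q.c) (an p.b q.d)) (an p.b q.c)))
    (xr (xr (an p.c q.a) (an p.d q.b)) (an p.d q.a)), !q.m⟩ p.m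

theorem toM_mul : ∀ p q : B6, toM p * toM q = toM (mulB p q)
  | ⟨a, b, c, d, e, false⟩, q => (M64.mul_false ..).trans (by delta toM; simp only [z_add, z_mul]; rfl)
  | ⟨a, b, c, d, e, true⟩, q => (M64.mul_true ..).trans (by delta toM; simp only [z_add, z_mul]; rfl)

def neB (p q : B6) : Bool := xr p.a q.a || (xr p.b q.b || (xr p.c q.c || (xr p.d q.d || (xr p.e q.e || xr p.m q.m))))

theorem eq_of_neB {p q : B6} (h : neB p q = false) : p = q := by
  have hx : ∀ a b : Bool, xr a b = false → a = b := by decide +kernel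
  obtain ⟨a, b, c, d, e, m⟩ := p
  obtain ⟨a', b', c', d', e', m'⟩ := q
  delta neB at h
  simp only [Bool.or_eq_false_iff] at h
  rw [hx a a' h.1, hx b b' h.2.1, hx c c' h.2.2.1, hx d d' h.2.2.2.1, hx e e' h.2.2.2.2.1, hx m m' h.2.2.2.2.2]

def tb (n i : ℕ) : Bool := Nat.beq (Nat.land (Nat.shiftRight n i) 1) 1
def bits (n : ℕ) : B6 := ⟨tb n 0, tb n 1, tb n 2, tb n 3, tb n 4, tb n 5⟩
/-- decoding -/
def dec (n : ℕ) : M64 := toM (bits n)
/-- coding -/
def cod (x : M64) : ℕ := Nat.add x.a.val (Nat.add (Nat.mul 2 x.b.val) (Nat.add (Nat.mul 4 x.c.val)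
  (Nat.add (Nat.mul 8 x.d.val) (Nat.add (Nat.mul 16 x.e.val) (Bool.rec 0 32 x.m)))))
/-- decoding of any number -/
def dm (n : ℕ) : M64 := dec (Nat.mod n 64)

theorem dec_cod : ∀ x : M64, dec (cod x) = x ∧ cod x < 64 := by decide +kernel
theorem cod_dec : ∀ n < 64, cod (dec n) = n := by decide +kernel
theorem dm_cod (x : M64) : dm (cod x) = x :=
  (congrArg dec (Nat.mod_eq_of_lt (dec_cod x).2)).trans (dec_cod x).1

/-- decision by a Boolean -/
@[reducible] def ofB {P : Prop} (b : Bool) (h : b = true ↔ P) : Decidable P :=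
  @Bool.rec (fun c => (c = true ↔ P) → Decidable P) (fun h => isFalse fun p => Bool.noConfusion (h.2 p))
    (fun h => isTrue (h.1 rfl)) b h

/-- the value of a decision -/
def dc (p : Prop) (d : Decidable p) : Bool := @Decidable.rec p (fun _ => Bool) (fun _ => false) (fun _ => true) d

theorem dc_iff (p : Prop) (d : Decidable p) : dc p d = true ↔ p := by
  cases d with
  | isFalse h => exact ⟨fun e => Bool.noConfusion e, fun e => absurd e h⟩
  | isTrue h => exact ⟨fun _ => h, fun _ => rfl⟩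

def allB (f : ℕ → Bool) (n : ℕ) : Bool := Nat.rec true (fun n ih => Bool.rec false ih (f n)) n
def cnt (f : ℕ → Bool) (n : ℕ) : ℕ := Nat.rec 0 (fun n ih => Bool.rec ih (Nat.succ ih) (f n)) n

theorem allB_iff (f : ℕ → Bool) (n : ℕ) : allB f n = true ↔ ∀ m, m < n → f m = true := by
  induction n with
  | zero => exact ⟨fun _ j hj => absurd hj (Nat.not_lt_zero _), fun _ => rfl⟩
  | succ k ih =>
    show Bool.rec false (allB f k) (f k) = true ↔ _
    cases h : f k
    · exact ⟨fun e => Bool.noConfusion e, fun a => absurd (h ▸ a k (Nat.lt_succ_self k)) Bool.false_ne_true⟩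
    · exact ih.trans ⟨fun a j hj => (Nat.lt_succ_iff_lt_or_eq.1 hj).elim (a j) fun e => e ▸ h,
        fun a j hj => a j (Nat.lt_succ_of_lt hj)⟩

theorem cnt_eq (f : ℕ → Bool) (n : ℕ) : cnt f n = ((Finset.range n).filter fun m => f m = true).card := by
  rw [← Nat.count_eq_card_filter_range]
  induction n with
  | zero => rfl
  | succ k ih =>
    rw [Nat.count_succ, ← ih]
    show @Bool.rec (fun _ => ℕ) (cnt f k) (Nat.succ (cnt f k)) (f k) = _
    cases f k <;> rfl

def MT : ℕ := 0x461c04565d49628e4d72cf41420c45524d08669e0c76df824e3c865e7dcb6aaecf7aefc34a2cc75a6d8a6ebe8e7eff45524d00461c0c76df49628e04565d41420c4d72cf08669ec75a6d824e3c8e7effcb6aae865e7dc34a2ccf7aef8a6ebe08669e4d72cf00461c45524d49628e0c76df41420c04565d8a6ebecf7aef824e3cc75a6dcb6aae8e7effc34a2c865e7d4d72cf49628e45524d41420c0c76df08669e04565d00461ccf7aefcb6aaec75a6dc34a2c8e7eff8a6ebe865e7d824e3c50031854135919278a1d37cb11070815174958239a5c33dbd20b38d61b799b2faa9f3feb930f28971f69da2bbade3bfb1517495003185c33db192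78a5413591107081d37cb58239a971f69d20b38de3bfb9b2faad61b79930f289f3febda2bba58239a1d37cb50031815174919278a5c33db110708541359da2bba9f3febd20b38971f699b2faade3bfb930f28d61b791d37cb19278a1517491107085c33db58239a5413595003189f3feb9b2faa971f69930f28de3bfbda2bbad61b79d20b3821c01425d05568e4866cf4c760c40464d44529e0962df0d7a3c834a7d875eaeca6eefce7e2cc24e6dc65abe8b6aff8f764d44521c0142df0d768e48625d05560c4046cf4c729e096e6dc65a3c834aff8f7eaeca6a7d875e2cc24eefce7abe8b629e0966cf4c721c01464d44568e4862df0d760c40425d055abe8b6eefce7a3c834e6dc65eaeca6aff8f7e2cc24a7d8756cf4c768e48664d44560c4042df0d729e09625d05521c014eefce7eaeca6e6dc65e2cc24aff8f7abe8b6a7d875a3c83471851075955138a1823cb1c330810034914179a5927db5d3f38d30f79d71baa9a2beb9e3b28920b69961fbadb2ffbdf33491417185107db5d338a1827595513081003cb1c379a592b69961f38d30ffbdf3baa9a2f79d71b28920beb9e3fbadb279a5923cb1c371851034914138a1827db5d3308100759551fbadb2beb9e3f38d30b69961baa9a2ffbdf3b28920f79d713cb1c338a1823491413081007db5d379a592759551718510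beb9e3baa9a2b69961b28920ffbdf3fbadb2f79d71f38d3041420c45524d08669e0c76df00461c04565d49628e4d72cfc34a2cc75a6d8a6ebe8e7eff824e3c865e7dcb6aaecf7aef04565d41420c4d72cf08669e45524d00461c0c76df49628e865e7dc34a2ccf7aef8a6ebec75a6d824e3c8e7effcb6aae49628e0c76df41420c04565d08669e4d72cf00461c45524dcb6aae8e7effc34a2c865e7d8a6ebecf7aef824e3cc75a6d0c76df08669e04565d00461c4d72cf49628e45524d41420c8e7eff8a6ebe865e7d824e3ccf7aefcb6aaec75a6dc34a2c11070815174958239a5c33db50031854135919278a1d37cb930f28971f69da2bbade3bfbd20b38d61b799b2faa9f3feb5413591107081d37cb58239a1517495003185c33db19278ad61b79930f289f3febda2bba971f69d20b38de3bfb9b2faa19278a5c33db11070854135958239a1d37cb5003181517499b2faade3bfb930f28d61b79da2bba9f3febd20b38971f695c33db58239a5413595003181d37cb19278a151749110708de3bfbda2bbad61b79d20b389f3feb9b2faa971f69930f2860c40464d44529e0962df0d721c01425d05568e4866cf4c7e2cc24e6dc65abe8b6aff8f7a3c834a7d875eaeca6eefce725d05560c4046cf4c729e09664d44521c0142df0d768e486a7d875e2cc24eefce7abe8b6e6d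c65a3c834aff8f7eaeca668e4862df0d760c40425d05529e0966cf4c721c01464d445eaeca6aff8f7e2cc24a7d875abe8b6eefce7a3c834e6dc652df0d729e09625d05521c0146cf4c768e48664d44560c404aff8f7abe8b6a7d875a3c834eefce7eaeca6e6dc65e2cc2430810034914179a5927db5d371851075955138a1823cb1c3b28920b69961fbadb2ffbdf3f38d30f79d71baa9a2beb9e37595513081003cb1c379a5923491417185107db5d338a182f79d71b28920beb9e3fbadb2b69961f38d30ffbdf3baa9a238a1827db5d330810075955179a5923cb1c3718510349141baa9a2ffbdf3b28920f79d71fbadb2beb9e3f38d30b699617db5d379a5927595517185103cb1c338a182349141308100ffbdf3fbadb2f79d71f38d30beb9e3baa9a2b69961b28920821cb3925db7e39aabf3dbafc318a3d359a7a29ebbb2dfbf00149310559761928b71d38f41108351518720969b30d79fc608f2d649f6a78eeab7cfee870ce2974de6e68afaf6cbfe4400d25441d62586ca35c7ce0504c21545c66482da74c3de8b38319b7935eabe29faff2dca3c21da7d25abba39bbfb3d09301119711568b60978f70d48340158750529b21939f31dcf2c70df6d74aeaa68beeb6c8e28609e6964efae78ffef7c4d24505d65542ca2483ce34c0c20401c61446da6587de75cd359a7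821cb3b2dfbfe39aab925db7c318a3f3dbafa29ebb51518700149330d79f61928b10559741108371d38f20969b974de6c608f2f6cbfea78eead649f6870ce2b7cfeee68afa1545c64400d274c3de2586ca5441d60504c235c7ce6482dada7d258b3831bbfb3deabe299b7935ca3c21faff2dabba3958750509301139f31d68b60919711548340178f70d29b2199e6964cf2c70ffef7caeaa68df6d748e2860beeb6cefae781c61444d24507de75c2ca2485d65540c20403ce34c6da658a29ebbf3dbaf821cb3d359a7e39aabb2dfbfc318a3925db720969b71d38f00149351518761928b30d79f411083105597e68afab7cfeec608f2974de6a78eeaf6cbfe870ce2d649f66482da35c7ce4400d21545c62586ca74c3de0504c25441d6abba39faff2d8b3831da7d25eabe29bbfb3dca3c219b793529b21978f70d09301158750568b60939f31d483401197115efae78beeb6ccf2c709e6964aeaa68ffef7c8e2860df6d746da6583ce34c4d24501c61442ca2487de75c0c20405d6554f3dbafe39aabd359a7c318a3b2dfbfa29ebb925db7821cb371d38f61928b51518741108330d79f20969b105597001493b7cfeea78eea974de6870ce2f6cbfee68afad649f6c608f235c7ce2586ca1545c60504c274c3de6482da5441d64400d2faff2deabe29da7d25ca3c21bbfb3dabb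a399b79358b383178f70d68b60958750548340139f31d29b219197115093011beeb6caeaa689e69648e2860ffef7cefae78df6d74cf2c703ce34c2ca2481c61440c20407de75c6da6585d65544d2450c318a3d359a7a29ebbb2dfbf821cb3925db7e39aabf3dbaf41108351518720969b30d79f00149310559761928b71d38f870ce2974de6e68afaf6cbfec608f2d649f6a78eeab7cfee0504c21545c66482da74c3de4400d25441d62586ca35c7ceca3c21da7d25abba39bbfb3d8b38319b7935eabe29faff2d48340158750529b21939f31d09301119711568b60978f70d8e28609e6964efae78ffef7ccf2c70df6d74aeaa68beeb6c0c20401c61446da6587de75c4d24505d65542ca2483ce34c925db7c318a3f3dbafa29ebbd359a7821cb3b2dfbfe39aab10559741108371d38f20969b51518700149330d79f61928bd649f6870ce2b7cfeee68afa974de6c608f2f6cbfea78eea5441d60504c235c7ce6482da1545c64400d274c3de2586ca9b7935ca3c21faff2dabba39da7d258b3831bbfb3deabe2919711548340178f70d29b21958750509301139f31d68b609df6d748e2860beeb6cefae789e6964cf2c70ffef7caeaa685d65540c20403ce34c6da6581c61444d24507de75c2ca248e39aabb2dfbfc318a3925db7a29ebbf3dbaf821cb3d359a761928b30d79f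41108310559720969b71d38f001493515187a78eeaf6cbfe870ce2d649f6e68afab7cfeec608f2974de62586ca74c3de0504c25441d66482da35c7ce4400d21545c6eabe29bbfb3dca3c219b7935abba39faff2d8b3831da7d2568b60939f31d48340119711529b21978f70d093011587505aeaa68ffef7c8e2860df6d74efae78beeb6ccf2c709e69642ca2487de75c0c20405d65546da6583ce34c4d24501c6144b2dfbfa29ebb925db7821cb3f3dbafe39aabd359a7c318a330d79f20969b10559700149371d38f61928b515187411083f6cbfee68afad649f6c608f2b7cfeea78eea974de6870ce274c3de6482da5441d64400d235c7ce2586ca1545c60504c2bbfb3dabba399b79358b3831faff2deabe29da7d25ca3c2139f31d29b21919711509301178f70d68b609587505483401ffef7cefae78df6d74cf2c70beeb6caeaa689e69648e28607de75c6da6585d65544d24503ce34c2ca2481c61440c2040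
def mulN (a b : ℕ) : ℕ := Nat.land (Nat.shiftRight MT (Nat.mul 6 (Nat.add (Nat.mul 64 a) b))) 63
def invN (a : ℕ) : ℕ := Nat.land (Nat.shiftRight 0xffbde3fbada2f79d61b28930beb9f3baa9b2b69971f38d207de74c6da6485d65440c20503ce35c2ca2581c61544d2440 (Nat.mul 6 a)) 63
def omN (a : ℕ) : ℕ := Nat.land (Nat.shiftRight 0xe7beb8d77db4f7ffbcc73cb0a6baa89679a4b6fbac8638a065b69855759475f79c45349024b28814718434f38c043080 (Nat.mul 6 a)) 63

theorem land_lt (a : ℕ) : Nat.land a 63 < 64 := Nat.lt_succ_of_le Nat.and_le_right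

theorem mul_chk : allB (fun a => allB (fun b => !neB (bits (mulN a b)) (mulB (bits a) (bits b))) 64) 64 = true := by
  decide +kernel

theorem dec_mul {a b : ℕ} (ha : a < 64) (hb : b < 64) : dec (mulN a b) = dec a * dec b := by
  have h := (allB_iff _ _).1 ((allB_iff _ _).1 mul_chk a ha) b hb
  rw [Bool.not_eq_true'] at h
  exact (congrArg toM (eq_of_neB h)).trans (toM_mul _ _).symm

theorem dec_inv {a : ℕ} (ha : a < 64) : dec (invN a) = (dec a)⁻¹ := by
  have h : ∀ a < 64, mulN (invN a) a = 0 := by decide +kernel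
  refine eq_inv_of_mul_eq_one_left ?_
  exact (dec_mul (a := invN a) (land_lt _) ha).symm.trans (congrArg dec (h a ha))

theorem dec_om : ∀ a < 64, dec (omN a) = om (dec a) := by decide +kernel

/-- evaluation on numbers -/
class Ev (x : M64) where
  n : ℕ
  lt : n < 64
  eq : dec n = x

scoped instance (priority := 100) evAny (x : M64) : Ev x := ⟨cod x, (dec_cod x).2, (dec_cod x).1⟩
scoped instance evDm (n : ℕ) : Ev (dm n) := ⟨Nat.mod n 64, Nat.mod_lt _ (by decide), rfl⟩
scoped instance evOne : Ev 1 := ⟨0, by decide, rfl⟩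
scoped instance evMul (x y : M64) [a : Ev x] [b : Ev y] : Ev (x * y) :=
  ⟨mulN a.n b.n, land_lt _, by rw [dec_mul a.lt b.lt, a.eq, b.eq]⟩
scoped instance evInv (x : M64) [a : Ev x] : Ev x⁻¹ := ⟨invN a.n, land_lt _, by rw [dec_inv a.lt, a.eq]⟩
scoped instance evOm (x : M64) [a : Ev x] : Ev (om x) := ⟨omN a.n, land_lt _, by rw [dec_om _ a.lt, a.eq]⟩

def omI (m a : ℕ) : ℕ := Nat.rec a (fun _ r => omN r) m

theorem omI_spec (m : ℕ) {a : ℕ} (ha : a < 64) : omI m a < 64 ∧ dec (omI m a) = om^[m] (dec a) := by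
  induction m with
  | zero => exact ⟨ha, rfl⟩
  | succ k ih => exact ⟨land_lt _, by rw [Function.iterate_succ_apply', ← ih.2]; exact dec_om _ ih.1⟩

scoped instance evOmI (m : ℕ) (x : M64) [a : Ev x] : Ev (om^[m] x) :=
  ⟨omI m a.n, (omI_spec m a.lt).1, by rw [(omI_spec m a.lt).2, a.eq]⟩

scoped instance (priority := 5000) decEq (x y : M64) [a : Ev x] [b : Ev y] : Decidable (x = y) :=
  ofB (Nat.beq a.n b.n) ⟨fun h => by rw [← a.eq, ← b.eq, Nat.eq_of_beq_eq_true h], fun h => by
    have h1 : a.n = b.n := by rw [← cod_dec _ a.lt, ← cod_dec _ b.lt, a.eq, b.eq, h]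
    rw [h1]; exact Nat.beq_refl _⟩

def frc (v : ℕ) (k : ℕ → Bool) : Bool := Nat.rec (k 0) (fun n _ => k (Nat.succ n)) v
theorem frc_eq (v : ℕ) (k : ℕ → Bool) : frc v k = k v := by cases v <;> rfl

/-- a predicate is evaluated once for each of the 64 elements -/
@[reducible] def via (P : M64 → Prop) (d : DecidablePred P) (x : M64) [a : Ev x] : Decidable (P x) :=
  ofB (frc a.n fun n => dc (P (dec n)) (d (dec n))) (by rw [frc_eq, dc_iff, a.eq])

scoped instance (priority := 5000) decR (x : M64) [Ev x] : Decidable (InR x) := via InR inferInstance x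
scoped instance (priority := 5000) decA (x : M64) [Ev x] : Decidable (InA x) := via InA inferInstance x
scoped instance (priority := 5000) decF1 (x : M64) [Ev x] : Decidable (InF1 x) := via InF1 inferInstance x
scoped instance (priority := 5000) decF2 (x : M64) [Ev x] : Decidable (InF2 x) := via InF2 inferInstance x
scoped instance (priority := 5000) decF3 (x : M64) [Ev x] : Decidable (InF3 x) := via InF3 inferInstance x
scoped instance (priority := 5000) decTT (x : M64) [Ev x] : Decidable (TT x) := via TT inferInstance x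
scoped instance (priority := 5000) decUU (x : M64) [Ev x] : Decidable (UU x) := via UU inferInstance x

theorem all_iff (P : M64 → Prop) (d : ∀ n, Decidable (P (dm n))) :
    allB (fun n => dc (P (dm n)) (d n)) 64 = true ↔ ∀ x, P x := by
  rw [allB_iff]
  exact ⟨fun h x => dm_cod x ▸ (dc_iff _ _).1 (h _ (dec_cod x).2), fun h n _ => (dc_iff _ _).2 (h _)⟩

scoped instance (priority := 5000) decAll (P : M64 → Prop) [d : ∀ n, Decidable (P (dm n))] : Decidable (∀ x, P x) :=
  ofB (allB (fun n => dc (P (dm n)) (d n)) 64) (all_iff P d)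

scoped instance (priority := 5000) decEx (P : M64 → Prop) [d : ∀ n, Decidable (P (dm n))] : Decidable (∃ x, P x) :=
  ofB (!allB (fun n => !dc (P (dm n)) (d n)) 64) (by
    rw [Bool.not_eq_true', ← Bool.not_eq_true, allB_iff]
    refine ⟨fun h => by_contra fun h1 => h fun n _ => ?_, fun ⟨x, hx⟩ h => ?_⟩
    · rw [Bool.not_eq_true', ← Bool.not_eq_true, dc_iff]
      exact fun h2 => h1 ⟨_, h2⟩
    · have h1 := h _ (dec_cod x).2
      rw [Bool.not_eq_true', ← Bool.not_eq_true, dc_iff, dm_cod] at h1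
      exact h1 hx)

theorem card_eq (P : M64 → Prop) (d : ∀ n, Decidable (P (dm n))) :
    Nat.card {x // P x} = cnt (fun n => dc (P (dm n)) (d n)) 64 := by
  classical
  rw [cnt_eq, Nat.card_eq_fintype_card, Fintype.card_subtype]
  refine (Finset.card_nbij' dm cod ?_ ?_ ?_ ?_).symm
  · intro n hn
    simpa [dc_iff] using (Finset.mem_filter.1 hn).2
  · intro x hx
    refine Finset.mem_filter.2 ⟨Finset.mem_range.2 (dec_cod x).2, (dc_iff _ _).2 ?_⟩
    rw [dm_cod]
    exact (Finset.mem_filter.1 hx).2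
  · intro n hn
    have h := Finset.mem_range.1 (Finset.mem_filter.1 hn).1
    show cod (dec (n % 64)) = n
    rw [Nat.mod_eq_of_lt h, cod_dec n h]
  · intro x _
    exact dm_cod x

scoped instance (priority := 5000) decCardLe (P : M64 → Prop) [d : ∀ n, Decidable (P (dm n))]
    (k : ℕ) : Decidable (Nat.card {x // P x} ≤ k) :=
  ofB (Nat.ble (cnt (fun n => dc (P (dm n)) (d n)) 64) k) (by rw [card_eq P d]; exact Nat.ble_eq.to_iff)
scoped instance (priority := 5000) decCardGe (P : M64 → Prop) [d : ∀ n, Decidable (P (dm n))]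
    (k : ℕ) : Decidable (k ≤ Nat.card {x // P x}) :=
  ofB (Nat.ble k (cnt (fun n => dc (P (dm n)) (d n)) 64)) (by rw [card_eq P d]; exact Nat.ble_eq.to_iff)
scoped instance (priority := 5000) decCardLt (P : M64 → Prop) [d : ∀ n, Decidable (P (dm n))]
    (k : ℕ) : Decidable (Nat.card {x // P x} < k) :=
  ofB (Nat.blt (cnt (fun n => dc (P (dm n)) (d n)) 64) k) (by rw [card_eq P d]; exact Nat.blt_eq.to_iff)
scoped instance (priority := 5000) decCardEq (P : M64 → Prop) [d : ∀ n, Decidable (P (dm n))]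
    (k : ℕ) : Decidable (Nat.card {x // P x} = k) :=
  ofB (Nat.beq (cnt (fun n => dc (P (dm n)) (d n)) 64) k) (by rw [card_eq P d]; exact Nat.beq_eq.to_iff)

end Cfsg.Agent.SylowSp4.Fast64
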