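import Mathlib
import Cfsg.Agent.SylowSp4.Facts
import Cfsg.Agent.Lib.EssBridge
import Cfsg.Agent.Transfer.FrobeniusFusion
import Cfsg.Agent.Transfer.NormalPComplement
import Cfsg.Agent.Walter.Cover_m3
import Cfsg.Prelude.Def_TwoFusion
import Cfsg.Agent.SylowG2.Closed
import Cfsg.Agent.Transfer.ThompsonReduction
import Cfsg.Prelude.Def_CaseTheorems
import Cfsg.Agent.SpFourOdd.LnLine_m3
import Cfsg.Agent.S0270
import Cfsg.Agent.S1225
import Cfsg.Agent.S1077
import Cfsg.Agent.S1056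
import Cfsg.Agent.ChevalleyStructure.StBasic
import Cfsg.Agent.ChevalleyStructure.B2Sp4
import Cfsg.Agent.ProdFusion.FunctorComplete_m3
import Cfsg.Agent.SylowSp4.LargeC
import Cfsg.Agent.S0215
import Cfsg.Agent.SylowSp4.Extremal
import Cfsg.Agent.Lib.SylowNormalInf
import Cfsg.Agent.SylowSp4.Fast64
import Cfsg.Prelude.Def_Involutions
import Cfsg.Agent.TwoFusion.StronglyEmbeddedBasic
import Cfsg.Agent.SignalizersComponents.CentralizerCore
import Cfsg.Agent.Lib.Cores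
import Cfsg.Agent.FastGrp
import Cfsg.Agent.Prune
set_option linter.all false

section
prune_inst 0x7ffcfcfbaff82ddfdfff7e7ffffddffdfdfcffffffdffbcbffe0e9ffafdf6b0affc5fb8d9fe858ff1ef662b430f87b53fdffeeffef6bdc7ffffd5ff41ffbff9fedf7b58851f488340fbc0fff03f07fce7f3fffffffffffffffffffffffffffbeffffffffffff

-- part: SylowSp4/CentUData_mg
section
prune_inst 0x200400000000000000000000000000000000000001000280000000000000000000000000000000000000000000000000080080000000000000000000000000000000000000000000000000000000000000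
set_option linter.all false
open scoped Cfsg.Agent.FastGrp

-- part: SylowSp4/CentUCoord
section
/-!
# Type `PSp_4(q)`: coordinates on `C_S(e)`, `e = (x₀, x₀)`

`A i = (x^i, x^{-i})`, `B i = (x^i, z x^{-i}) s` (the group `DE`), `Cc i = (x^i, x^i)`, `D i = (y_i, y_i⁻¹) s` (the
group `Dc`), where `y_i = xa i` are the elements outside `⟨x⟩`.
-/

set_option autoImplicit false

namespace Cfsg.Agent.SylowSp4.CentUCoord

open QuaternionGroup Cfsg.Agent.SylowSp4.Coord Cfsg.Agent.SylowSp4.Facts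

section Quat

variable {k : ℕ}

theorem a_congr {i j : ZMod (2 * 2 ^ k)} (h : i = j) : (a i : Q k) = a j := by rw [h]

theorem xa_congr {i j : ZMod (2 * 2 ^ k)} (h : i = j) : (xa i : Q k) = xa j := by rw [h]

theorem a_inv (i : ZMod (2 * 2 ^ k)) : (a i : Q k)⁻¹ = a (-i) := by
  apply inv_eq_of_mul_eq_one_left
  rw [a_mul_a, neg_add_cancel, one_def]

theorem xa_inv (i : ZMod (2 * 2 ^ k)) : (xa i : Q k)⁻¹ = xa (i + hh k) := by
  apply inv_eq_of_mul_eq_one_left
  rw [xa_mul_xa', one_def]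
  exact a_congr (by linear_combination)

theorem c_def : c k = a (qq k) := rfl

/-- `c` commutes exactly with the cyclic subgroup -/
theorem comm_c {g : Q k} (hk : 1 ≤ k) (h : g * c k = c k * g) : ∃ i, g = a i := by
  rcases g with i | j
  · exact ⟨i, rfl⟩
  · exfalso
    rcases of_a_comm_xa (i := qq k) (j := j) h.symm with h1 | h1
    · exact ne_one_of_sq_z (c_sq hk) h1
    · exact ne_z_of_sq_z (c_sq hk) h1

theorem comm_c' {g : Q k} (h : g * c k = z k * (c k * g)) : ∃ j, g = xa j := by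
  rcases g with i | j
  · exfalso
    rw [c_def, a_comm_a] at h
    exact ne_z_mul _ h
  · exact ⟨j, rfl⟩

theorem two_qq (hk : 1 ≤ k) : qq k + qq k = hh k := c_add hk

theorem xa_c (hk : 1 ≤ k) (j : ZMod (2 * 2 ^ k)) : (xa j : Q k) * c k = z k * (c k * xa j) := by
  rw [c_def, xa_mul_a, a_mul_xa, z_mul_xa]
  exact xa_congr (by linear_combination two_qq hk)

end Quat

section

variable {G : Type*} [Group G] {S : Subgroup G} {k : ℕ} {f : Q k → Q k → G} {s : G} (h : TSp S k f s)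

/-- `(x^i, x^{-i})` -/
def A (f : Q k → Q k → G) (i : ZMod (2 * 2 ^ k)) : G := f (a i) (a (-i))

/-- `(x^i, z x^{-i}) s` -/
def B (f : Q k → Q k → G) (s : G) (i : ZMod (2 * 2 ^ k)) : G := f (a i) (a (hh k - i)) * s

/-- `(x^i, x^i)` -/
def Cc (f : Q k → Q k → G) (i : ZMod (2 * 2 ^ k)) : G := f (a i) (a i)

/-- `(y_i, y_i⁻¹) s` -/
def D (f : Q k → Q k → G) (s : G) (i : ZMod (2 * 2 ^ k)) : G := f (xa i) (xa (i + hh k)) * s

include h

theorem A_mul_A (i j : ZMod (2 * 2 ^ k)) : A f i * A f j = A f (i + j) := by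
  rw [A, A, A, h.f_mul, a_mul_a, a_mul_a, a_congr (show -i + -j = -(i + j) by ring)]

theorem A_mul_B (i j : ZMod (2 * 2 ^ k)) : A f i * B f s j = B f s (i + j) := by
  rw [A, B, B, h.f_mul_fs, a_mul_a, a_mul_a, a_congr (show -i + (hh k - j) = hh k - (i + j) by ring)]

theorem B_mul_A (i j : ZMod (2 * 2 ^ k)) : B f s i * A f j = B f s (i - j) := by
  rw [B, A, B, h.fs_mul_f, a_mul_a, a_mul_a, a_congr (show i + -j = i - j by ring),
    a_congr (show hh k - i + j = hh k - (i - j) by ring)]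

theorem B_mul_B (i j : ZMod (2 * 2 ^ k)) : B f s i * B f s j = A f (i - j) := by
  rw [B, B, A, h.fs_mul_fs, a_mul_a, a_mul_a, ← h.f_z_mul, z_mul_a, z_mul_a]
  have H := hh_add (k := k)
  rw [a_congr (show hh k + (i + (hh k - j)) = i - j by linear_combination H),
    a_congr (show hh k + (hh k - i + j) = -(i - j) by linear_combination H)]

theorem C_mul_C (i j : ZMod (2 * 2 ^ k)) : Cc f i * Cc f j = Cc f (i + j) := by
  rw [Cc, Cc, Cc, h.f_mul, a_mul_a]

theorem C_mul_D (i j : ZMod (2 * 2 ^ k)) : Cc f i * D f s j = D f s (j - i) := by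
  rw [Cc, D, D, h.f_mul_fs, a_mul_xa, a_mul_xa, xa_congr (show j + hh k - i = j - i + hh k by ring)]

theorem D_mul_C (i j : ZMod (2 * 2 ^ k)) : D f s i * Cc f j = D f s (i + j) := by
  rw [Cc, D, D, h.fs_mul_f, xa_mul_a, xa_mul_a, xa_congr (show i + hh k + j = i + j + hh k by ring)]

theorem D_mul_D (i j : ZMod (2 * 2 ^ k)) : D f s i * D f s j = Cc f (j - i) := by
  rw [D, D, Cc, h.fs_mul_fs, xa_mul_xa', xa_mul_xa']
  have H := hh_add (k := k)
  rw [a_congr (show hh k + (j + hh k) - i = j - i by linear_combination H),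
    a_congr (show hh k + j - (i + hh k) = j - i by ring)]

theorem A_comm_C (i j : ZMod (2 * 2 ^ k)) : A f i * Cc f j = Cc f j * A f i := by
  rw [A, Cc, h.f_mul, h.f_mul, a_comm_a, a_comm_a (-i)]

theorem A_comm_D (i j : ZMod (2 * 2 ^ k)) : A f i * D f s j = D f s j * A f i := by
  rw [A, D, h.f_mul_fs, h.fs_mul_f, a_mul_xa, a_mul_xa, xa_mul_a, xa_mul_a,
    xa_congr (show j - i = j + -i by ring), xa_congr (show j + hh k - -i = j + hh k + i by ring)]

theorem B_comm_C (i j : ZMod (2 * 2 ^ k)) : B f s i * Cc f j = Cc f j * B f s i := by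
  rw [B, Cc, h.fs_mul_f, h.f_mul_fs, a_comm_a, a_comm_a (hh k - i)]

theorem B_comm_D (i j : ZMod (2 * 2 ^ k)) : B f s i * D f s j = D f s j * B f s i := by
  rw [B, D, h.fs_mul_fs, h.fs_mul_fs, a_mul_xa, a_mul_xa, xa_mul_a, xa_mul_a,
    xa_congr (show j + hh k - i = j + (hh k - i) by ring)]
  have H := hh_add (k := k)
  rw [xa_congr (show j - (hh k - i) = j + hh k + i by linear_combination -H)]

theorem A_eq_iff {i j : ZMod (2 * 2 ^ k)} : A f i = A f j ↔ i = j ∨ i = j + hh k := by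
  rw [A, A, h.f_eq_iff, z_mul_a, z_mul_a]
  constructor
  · rintro (⟨h1, -⟩ | ⟨h1, -⟩)
    · exact Or.inl (a.inj h1)
    · exact Or.inr (by rw [a.inj h1]; ring)
  · rintro (rfl | rfl)
    · exact Or.inl ⟨rfl, rfl⟩
    · right
      have H := hh_add (k := k)
      exact ⟨a_congr (by ring), a_congr (by linear_combination -H)⟩

theorem C_eq_iff {i j : ZMod (2 * 2 ^ k)} : Cc f i = Cc f j ↔ i = j ∨ i = j + hh k := by
  rw [Cc, Cc, h.f_eq_iff, z_mul_a]
  constructor
  · rintro (⟨h1, -⟩ | ⟨h1, -⟩)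
    · exact Or.inl (a.inj h1)
    · exact Or.inr (by rw [a.inj h1]; ring)
  · rintro (rfl | rfl)
    · exact Or.inl ⟨rfl, rfl⟩
    · right
      exact ⟨a_congr (by ring), a_congr (by ring)⟩

theorem A_zero : A f 0 = 1 := by
  rw [A, neg_zero, ← one_def, h.f_one]

theorem C_zero : Cc f 0 = 1 := by
  rw [Cc, ← one_def, h.f_one]

theorem A_eq_one_iff {i : ZMod (2 * 2 ^ k)} : A f i = 1 ↔ i + i = 0 := by
  rw [← A_zero h, A_eq_iff h, zero_add]
  constructor
  · rintro (rfl | rfl)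
    · rw [add_zero]
    · exact hh_add
  · exact eq_of_add_self'

theorem C_eq_one_iff {i : ZMod (2 * 2 ^ k)} : Cc f i = 1 ↔ i + i = 0 := by
  rw [← C_zero h, C_eq_iff h, zero_add]
  constructor
  · rintro (rfl | rfl)
    · rw [add_zero]
    · exact hh_add
  · exact eq_of_add_self'

theorem A_inv (i : ZMod (2 * 2 ^ k)) : (A f i)⁻¹ = A f (-i) := by
  apply inv_eq_of_mul_eq_one_left
  rw [A_mul_A h, neg_add_cancel, A_zero h]

theorem C_inv (i : ZMod (2 * 2 ^ k)) : (Cc f i)⁻¹ = Cc f (-i) := by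
  apply inv_eq_of_mul_eq_one_left
  rw [C_mul_C h, neg_add_cancel, C_zero h]

theorem B_sq (i : ZMod (2 * 2 ^ k)) : B f s i * B f s i = 1 := by
  rw [B_mul_B h, sub_self, A_zero h]

theorem D_sq (i : ZMod (2 * 2 ^ k)) : D f s i * D f s i = 1 := by
  rw [D_mul_D h, sub_self, C_zero h]

theorem B_inv (i : ZMod (2 * 2 ^ k)) : (B f s i)⁻¹ = B f s i := inv_eq_of_mul_eq_one_left (B_sq h i)

theorem D_inv (i : ZMod (2 * 2 ^ k)) : (D f s i)⁻¹ = D f s i := inv_eq_of_mul_eq_one_left (D_sq h i)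

theorem B_ne_A (i j : ZMod (2 * 2 ^ k)) : B f s i ≠ A f j := h.fs_ne _ _ _ _

theorem D_ne_C (i j : ZMod (2 * 2 ^ k)) : D f s i ≠ Cc f j := h.fs_ne _ _ _ _

theorem B_ne_one (i : ZMod (2 * 2 ^ k)) : B f s i ≠ 1 := by rw [← A_zero h]; exact B_ne_A h i 0

theorem D_ne_one (i : ZMod (2 * 2 ^ k)) : D f s i ≠ 1 := by rw [← C_zero h]; exact D_ne_C h i 0

omit [Group G] h in
theorem e_eq : f (c k) (c k) = Cc f (qq k) := rfl

theorem te_eq : f (z k) 1 * f (c k) (c k) = A f (qq k) := by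
  rw [h.f_mul, one_mul, A, c_def, z_mul_a, ← h.f_z_mul, z_mul_a, z_mul_a]
  have H := hh_add (k := k)
  have H2 := two_qq h.hk
  rw [a_congr (show hh k + (hh k + qq k) = qq k by linear_combination H),
    a_congr (show hh k + qq k = -qq k by linear_combination H2 + H)]

/-- The group `DE`. -/
def DE : Subgroup G where
  carrier := {g | (∃ i, g = A f i) ∨ ∃ i, g = B f s i}
  mul_mem' := by
    rintro _ _ (⟨i, rfl⟩ | ⟨i, rfl⟩) (⟨j, rfl⟩ | ⟨j, rfl⟩)
    · exact Or.inl ⟨_, A_mul_A h i j⟩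
    · exact Or.inr ⟨_, A_mul_B h i j⟩
    · exact Or.inr ⟨_, B_mul_A h i j⟩
    · exact Or.inl ⟨_, B_mul_B h i j⟩
  one_mem' := Or.inl ⟨0, (A_zero h).symm⟩
  inv_mem' := by
    rintro _ (⟨i, rfl⟩ | ⟨i, rfl⟩)
    · exact Or.inl ⟨_, A_inv h i⟩
    · exact Or.inr ⟨_, B_inv h i⟩

/-- The group `Dc`. -/
def Dc : Subgroup G where
  carrier := {g | (∃ i, g = Cc f i) ∨ ∃ i, g = D f s i}
  mul_mem' := by
    rintro _ _ (⟨i, rfl⟩ | ⟨i, rfl⟩) (⟨j, rfl⟩ | ⟨j, rfl⟩)
    · exact Or.inl ⟨_, C_mul_C h i j⟩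
    · exact Or.inr ⟨_, C_mul_D h i j⟩
    · exact Or.inr ⟨_, D_mul_C h i j⟩
    · exact Or.inl ⟨_, D_mul_D h i j⟩
  one_mem' := Or.inl ⟨0, (C_zero h).symm⟩
  inv_mem' := by
    rintro _ (⟨i, rfl⟩ | ⟨i, rfl⟩)
    · exact Or.inl ⟨_, C_inv h i⟩
    · exact Or.inr ⟨_, D_inv h i⟩

theorem DE_le : DE h ≤ S := by
  rintro _ (⟨i, rfl⟩ | ⟨i, rfl⟩)
  · exact h.f_mem _ _
  · exact h.fs_mem _ _

theorem Dc_le : Dc h ≤ S := by
  rintro _ (⟨i, rfl⟩ | ⟨i, rfl⟩)
  · exact h.f_mem _ _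
  · exact h.fs_mem _ _

theorem comm {x y : G} (hx : x ∈ DE h) (hy : y ∈ Dc h) : x * y = y * x := by
  rcases hx with ⟨i, rfl⟩ | ⟨i, rfl⟩ <;> rcases hy with ⟨j, rfl⟩ | ⟨j, rfl⟩
  · exact A_comm_C h i j
  · exact A_comm_D h i j
  · exact B_comm_C h i j
  · exact B_comm_D h i j

theorem e_mem : f (c k) (c k) ∈ Dc h := Or.inl ⟨_, rfl⟩

theorem te_mem : f (z k) 1 * f (c k) (c k) ∈ DE h := Or.inl ⟨_, te_eq h⟩

/-- the elements of the two groups commute with `e` -/
theorem DE_e {x : G} (hx : x ∈ DE h) : x * f (c k) (c k) = f (c k) (c k) * x := comm h hx (e_mem h)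

theorem Dc_e {x : G} (hx : x ∈ Dc h) : x * f (c k) (c k) = f (c k) (c k) * x := by
  have H2 := two_qq h.hk
  have H := hh_add (k := k)
  rcases hx with ⟨j, rfl⟩ | ⟨j, rfl⟩
  · rw [e_eq (f := f), C_mul_C h, C_mul_C h, add_comm]
  · rw [e_eq (f := f), D_mul_C h, C_mul_D h, D, D]
    congr 1
    rw [h.f_eq_iff]
    right
    rw [z_mul_xa, z_mul_xa]
    exact ⟨xa_congr (by linear_combination H2), xa_congr (by linear_combination H2)⟩

theorem disj {x : G} (hx : x ∈ DE h) (hy : x ∈ Dc h) : x = 1 := by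
  have H := hh_add (k := k)
  rcases hx with ⟨i, rfl⟩ | ⟨i, rfl⟩
  · rcases hy with ⟨j, hj⟩ | ⟨j, hj⟩
    · rw [A, Cc, h.f_eq_iff, z_mul_a] at hj
      rw [A_eq_one_iff h]
      rcases hj with ⟨h1, h2⟩ | ⟨h1, h2⟩
      · linear_combination a.inj h1 - a.inj h2
      · linear_combination a.inj h1 - a.inj h2
    · exact absurd hj.symm (h.fs_ne _ _ _ _)
  · exfalso
    rcases hy with ⟨j, hj⟩ | ⟨j, hj⟩
    · exact h.fs_ne _ _ _ _ hj
    · have h1 : f (a i) (a (hh k - i)) = f (xa j) (xa (j + hh k)) := mul_right_cancel hj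
      rw [h.f_eq_iff, z_mul_xa] at h1
      rcases h1 with ⟨h2, -⟩ | ⟨h2, -⟩ <;> exact absurd h2 (by simp)

/-! ### The elements of `C_S(e)` -/

/-- the elements of `S` commuting with `e` -/
theorem cases_e {x : G} (hx : x ∈ S) (hxe : x * f (c k) (c k) = f (c k) (c k) * x) :
    (∃ p q, x = f (a p) (a q)) ∨ (∃ p q, x = f (xa p) (xa q)) ∨ (∃ p q, x = f (a p) (a q) * s) ∨
      ∃ p q, x = f (xa p) (xa q) * s := by
  have key : ∀ α β : Q k, f α β * f (c k) (c k) = f (c k) (c k) * f α β →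
      (∃ p q, f α β = f (a p) (a q)) ∨ ∃ p q, f α β = f (xa p) (xa q) := by
    intro α β hc
    rcases (comm_iff h).1 hc with ⟨h1, h2⟩ | ⟨h1, h2⟩
    · obtain ⟨p, rfl⟩ := comm_c h.hk h1
      obtain ⟨q, rfl⟩ := comm_c h.hk h2
      exact Or.inl ⟨p, q, rfl⟩
    · obtain ⟨p, rfl⟩ := comm_c' h1
      obtain ⟨q, rfl⟩ := comm_c' h2
      exact Or.inr ⟨p, q, rfl⟩
  rcases (h.mem_iff x).1 hx with ⟨α, β, rfl⟩ | ⟨α, β, rfl⟩
  · rcases key α β hxe with h1 | h1
    · exact Or.inl h1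
    · exact Or.inr (Or.inl h1)
  · have h1 : f α β * f (c k) (c k) = f (c k) (c k) * f α β := by
      have h2 : f α β * s * f (c k) (c k) = f α β * f (c k) (c k) * s := by
        rw [mul_assoc, h.s_f, ← mul_assoc]
      rw [h2, ← mul_assoc] at hxe
      exact mul_right_cancel hxe
    rcases key α β h1 with ⟨p, q, h2⟩ | ⟨p, q, h2⟩
    · exact Or.inr (Or.inr (Or.inl ⟨p, q, by rw [h2]⟩))
    · exact Or.inr (Or.inr (Or.inr ⟨p, q, by rw [h2]⟩))

/-! ### Facts on `DE` -/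

theorem qq_cases {i : ZMod (2 * 2 ^ k)} (h4 : (i + i) + (i + i) = 0) :
    i + i = 0 ∨ i = qq k ∨ i = qq k + hh k := by
  rcases eq_of_add_self' h4 with h1 | h1
  · exact Or.inl h1
  · right
    have H2 := two_qq h.hk
    rcases eq_of_add_self' (i := i - qq k) (by linear_combination h1 - H2) with h2 | h2
    · left; linear_combination h2
    · right; linear_combination h2

theorem A_sq_one {i : ZMod (2 * 2 ^ k)} (hi : A f i * A f i = 1) : A f i = 1 ∨ A f i = A f (qq k) := by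
  rw [A_mul_A h, A_eq_one_iff h] at hi
  rcases qq_cases h hi with h1 | h1 | h1
  · exact Or.inl ((A_eq_one_iff h).2 h1)
  · exact Or.inr (by rw [h1])
  · exact Or.inr ((A_eq_iff h).2 (Or.inr h1))

theorem C_sq_one {i : ZMod (2 * 2 ^ k)} (hi : Cc f i * Cc f i = 1) : Cc f i = 1 ∨ Cc f i = Cc f (qq k) := by
  rw [C_mul_C h, C_eq_one_iff h] at hi
  rcases qq_cases h hi with h1 | h1 | h1
  · exact Or.inl ((C_eq_one_iff h).2 h1)
  · exact Or.inr (by rw [h1])
  · exact Or.inr ((C_eq_iff h).2 (Or.inr h1))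

theorem A_pow (i : ZMod (2 * 2 ^ k)) (m : ℕ) : (A f i) ^ m = A f ((m : ZMod (2 * 2 ^ k)) * i) := by
  induction m with
  | zero => rw [pow_zero, Nat.cast_zero, zero_mul, A_zero h]
  | succ m ih =>
    rw [pow_succ, ih, A_mul_A h]
    congr 1
    push_cast; ring

theorem E_pow {x : G} (hx : x ∈ DE h) (hxx : x * x ≠ 1) :
    ∃ m : ℕ, x ^ m * x ^ m = f (z k) 1 * f (c k) (c k) := by
  rcases hx with ⟨i, rfl⟩ | ⟨i, rfl⟩
  · rw [A_mul_A h, Ne, A_eq_one_iff h] at hxx
    have h1 : (a (i + i) : Q k) ≠ 1 := by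
      rw [one_def]
      intro h2
      apply hxx
      rw [a.inj h2, add_zero]
    have h2 : (a (i + i) : Q k) ≠ z k := by
      intro h2
      apply hxx
      rw [a.inj h2]
      exact hh_add
    obtain ⟨m, hm⟩ := exists_pow_sq h1 h2
    refine ⟨m, ?_⟩
    rw [te_eq h, A_pow h, A_mul_A h]
    rw [Facts.a_pow, a_mul_a] at hm
    have h3 : (m : ZMod (2 * 2 ^ k)) * (i + i) + (m : ZMod (2 * 2 ^ k)) * (i + i) = hh k := a.inj hm
    have H2 := two_qq h.hk
    rw [A_eq_iff h]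
    rcases eq_of_add_self' (i := (m : ZMod (2 * 2 ^ k)) * (i + i) - qq k) (by linear_combination h3 - H2) with h4 | h4
    · left; linear_combination h4
    · right; linear_combination h4
  · exact absurd (B_sq h i) hxx

theorem E_sq {x : G} (hx : x ∈ DE h) (hxx : (x * x) * (x * x) = 1) :
    x * x = 1 ∨ x * x = f (z k) 1 * f (c k) (c k) := by
  rcases hx with ⟨i, rfl⟩ | ⟨i, rfl⟩
  · rw [te_eq h]
    rw [A_mul_A h] at hxx ⊢
    exact A_sq_one h hxx
  · exact Or.inl (B_sq h i)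

theorem E_refl {x d : G} (hx : x ∈ DE h) (hd : d ∈ DE h) (hxx : x * x ≠ 1) (hdd : d * d = 1) (hd1 : d ≠ 1)
    (hdt : d ≠ f (z k) 1 * f (c k) (c k)) : (x * d) * (x * d) = 1 := by
  rcases hx with ⟨i, rfl⟩ | ⟨i, rfl⟩
  · rcases hd with ⟨j, rfl⟩ | ⟨j, rfl⟩
    · exfalso
      rcases A_sq_one h hdd with h1 | h1
      · exact hd1 h1
      · exact hdt (h1.trans (te_eq h).symm)
    · rw [A_mul_B h]
      exact B_sq h _
  · exact absurd (B_sq h i) hxx

theorem XA_mul_B (p q j : ZMod (2 * 2 ^ k)) : f (a p) (a q) * B f s j = f (a (p + j)) (a (q + (hh k - j))) * s := by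
  rw [B, h.f_mul_fs, a_mul_a, a_mul_a]

theorem B_mul_XA (p q j : ZMod (2 * 2 ^ k)) : B f s j * f (a p) (a q) = f (a (j + q)) (a (hh k - j + p)) * s := by
  rw [B, h.fs_mul_f, a_mul_a, a_mul_a]

theorem XX_mul_B (p q j : ZMod (2 * 2 ^ k)) :
    f (xa p) (xa q) * B f s j = f (xa (p + j)) (xa (q + (hh k - j))) * s := by
  rw [B, h.f_mul_fs, xa_mul_a, xa_mul_a]

theorem B_mul_XX (p q j : ZMod (2 * 2 ^ k)) :
    B f s j * f (xa p) (xa q) = f (xa (q - j)) (xa (p - (hh k - j))) * s := by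
  rw [B, h.fs_mul_f, a_mul_xa, a_mul_xa]

theorem B_mul_D' (j m : ZMod (2 * 2 ^ k)) :
    B f s j * D f s m = f (xa (m + hh k - j)) (xa (m - (hh k - j))) := by
  rw [B, D, h.fs_mul_fs, a_mul_xa, a_mul_xa]

theorem t_mul (α β : Q k) : f (z k) 1 * f α β = f α (z k * β) := by
  rw [h.f_mul, one_mul, f_congr_z h]

/-- `t y = (te)(e y)` -/
theorem t_split (y : G) : f (z k) 1 * y = (f (z k) 1 * f (c k) (c k)) * (f (c k) (c k) * y) := by
  have hee : f (c k) (c k) * f (c k) (c k) = 1 := by rw [h.f_mul, c_sq h.hk, h.f_zz]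
  calc f (z k) 1 * y = f (z k) 1 * (f (c k) (c k) * f (c k) (c k)) * y := by rw [hee, mul_one]
    _ = (f (z k) 1 * f (c k) (c k)) * (f (c k) (c k) * y) := by group

theorem comm_te {x : G} (hx : x ∈ S) (hxe : x * f (c k) (c k) = f (c k) (c k) * x) :
    x * (f (z k) 1 * f (c k) (c k)) = (f (z k) 1 * f (c k) (c k)) * x := by
  rw [← mul_assoc, ← h.t_comm hx, mul_assoc, hxe, mul_assoc]

theorem B_te (j : ZMod (2 * 2 ^ k)) :
    B f s j * (f (z k) 1 * f (c k) (c k)) = (f (z k) 1 * f (c k) (c k)) * B f s j :=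
  comm_te h (h.fs_mem _ _) (DE_e h (Or.inr ⟨j, rfl⟩))

/-- centralisers of the noncentral involutions of `DE` -/
theorem E_cent_aux {j : ZMod (2 * 2 ^ k)} {x : G} (hxe : (∃ p q, x = f (a p) (a q)) ∨ ∃ p q, x = f (xa p) (xa q))
    (hxd : x * B f s j = B f s j * x) :
    ∃ v, (v = 1 ∨ v = B f s j ∨ v = f (z k) 1 * f (c k) (c k) ∨ v = B f s j * (f (z k) 1 * f (c k) (c k))) ∧
      ∃ y ∈ Dc h, x = v * y := by
  have H := hh_add (k := k)
  have H2 := two_qq h.hk
  rcases hxe with ⟨p, q, rfl⟩ | ⟨p, q, rfl⟩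
  · rw [XA_mul_B h, B_mul_XA h, mul_left_inj, h.f_eq_iff, z_mul_a, z_mul_a] at hxd
    have h1 : q = p ∨ q = p + hh k := by
      rcases hxd with ⟨h1, -⟩ | ⟨h1, -⟩
      · left; linear_combination -(a.inj h1)
      · right; linear_combination -(a.inj h1) - H
    rcases h1 with h1 | h1
    · exact ⟨1, Or.inl rfl, Cc f p, Or.inl ⟨p, rfl⟩, by rw [one_mul, Cc, h1]⟩
    · refine ⟨_, Or.inr (Or.inr (Or.inl rfl)), f (c k) (c k) * Cc f p, mul_mem (e_mem h) (Or.inl ⟨p, rfl⟩), ?_⟩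
      rw [← t_split h, Cc, t_mul h, z_mul_a, h1, add_comm p]
  · rw [XX_mul_B h, B_mul_XX h, mul_left_inj, h.f_eq_iff, z_mul_xa, z_mul_xa] at hxd
    have h1 : q = p + 2 * j ∨ q = p + 2 * j + hh k := by
      rcases hxd with ⟨h1, -⟩ | ⟨h1, -⟩
      · left; linear_combination -(xa.inj h1)
      · right; linear_combination -(xa.inj h1) - H
    have h2 : B f s j * D f s (p + j + hh k) = f (xa p) (xa (p + 2 * j)) := by
      rw [B_mul_D' h, xa_congr (show p + j + hh k + hh k - j = p by linear_combination H),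
        xa_congr (show p + j + hh k - (hh k - j) = p + 2 * j by ring)]
    rcases h1 with h1 | h1
    · exact ⟨B f s j, Or.inr (Or.inl rfl), D f s (p + j + hh k), Or.inr ⟨_, rfl⟩, by rw [h2, h1]⟩
    · refine ⟨_, Or.inr (Or.inr (Or.inr rfl)), f (c k) (c k) * D f s (p + j + hh k),
        mul_mem (e_mem h) (Or.inr ⟨_, rfl⟩), ?_⟩
      have hBt := B_te h j
      have e1 : B f s j * (f (z k) 1 * f (c k) (c k)) * (f (c k) (c k) * D f s (p + j + hh k)) =
          f (z k) 1 * (B f s j * D f s (p + j + hh k)) := by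
        rw [hBt, t_split h (B f s j * D f s (p + j + hh k))]
        have hBe := DE_e h (x := B f s j) (Or.inr ⟨j, rfl⟩)
        calc f (z k) 1 * f (c k) (c k) * B f s j * (f (c k) (c k) * D f s (p + j + hh k)) =
              f (z k) 1 * f (c k) (c k) * (B f s j * f (c k) (c k)) * D f s (p + j + hh k) := by group
          _ = f (z k) 1 * f (c k) (c k) * (f (c k) (c k) * B f s j) * D f s (p + j + hh k) := by rw [hBe]
          _ = _ := by group
      rw [e1, h2, t_mul h, z_mul_xa, h1]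

theorem te_te : (f (z k) 1 * f (c k) (c k)) * (f (z k) 1 * f (c k) (c k)) = 1 := by
  have H := hh_add (k := k)
  have H2 := two_qq h.hk
  rw [te_eq h, A_mul_A h, A_eq_one_iff h]
  linear_combination 2 * H2 + H

theorem E_cent {d : G} (hd : d ∈ DE h) (hdd : d * d = 1) (hd1 : d ≠ 1) (hdt : d ≠ f (z k) 1 * f (c k) (c k))
    {x : G} (hx : x ∈ S) (hxe : x * f (c k) (c k) = f (c k) (c k) * x) (hxd : x * d = d * x) :
    ∃ v, (v = 1 ∨ v = d ∨ v = f (z k) 1 * f (c k) (c k) ∨ v = d * (f (z k) 1 * f (c k) (c k))) ∧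
      ∃ y ∈ Dc h, x = v * y := by
  rcases hd with ⟨j, rfl⟩ | ⟨j, rfl⟩
  · exfalso
    rcases A_sq_one h hdd with h1 | h1
    · exact hd1 h1
    · exact hdt (h1.trans (te_eq h).symm)
  have hBB := B_sq h (s := s) j
  have hfin : ∀ x : G, ((∃ p q, x = f (a p) (a q) * s) ∨ ∃ p q, x = f (xa p) (xa q) * s) →
      x * B f s j = B f s j * x →
      ∃ v, (v = 1 ∨ v = B f s j ∨ v = f (z k) 1 * f (c k) (c k) ∨ v = B f s j * (f (z k) 1 * f (c k) (c k))) ∧
      ∃ y ∈ Dc h, x = v * y := by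
    intro x hx hxd
    have h1 : (∃ p q, x * B f s j = f (a p) (a q)) ∨ ∃ p q, x * B f s j = f (xa p) (xa q) := by
      rcases hx with ⟨p, q, rfl⟩ | ⟨p, q, rfl⟩
      · left
        exact ⟨p + (hh k - j), q + j, by rw [B, h.fs_mul_fs, a_mul_a, a_mul_a]⟩
      · right
        exact ⟨p + (hh k - j), q + j, by rw [B, h.fs_mul_fs, xa_mul_a, xa_mul_a]⟩
    have h2 : (x * B f s j) * B f s j = B f s j * (x * B f s j) := by
      rw [← mul_assoc, ← hxd]
    obtain ⟨v, hv, y, hy, h3⟩ := E_cent_aux h h1 h2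
    have hBy : B f s j * y = y * B f s j := comm h (Or.inr ⟨j, rfl⟩) hy
    have h4 : x = (v * B f s j) * y := by
      calc x = (x * B f s j) * B f s j := by rw [mul_assoc, hBB, mul_one]
        _ = v * (y * B f s j) := by rw [h3, mul_assoc]
        _ = (v * B f s j) * y := by rw [← hBy, mul_assoc]
    have hBt := B_te h j
    refine ⟨v * B f s j, ?_, y, hy, h4⟩
    rcases hv with rfl | rfl | rfl | rfl
    · exact Or.inr (Or.inl (one_mul _))
    · exact Or.inl hBB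
    · exact Or.inr (Or.inr (Or.inr hBt.symm))
    · refine Or.inr (Or.inr (Or.inl ?_))
      rw [hBt, mul_assoc, hBB, mul_one]
  rcases cases_e h hx hxe with h1 | h1 | h1 | h1
  · exact E_cent_aux h (Or.inl h1) hxd
  · exact E_cent_aux h (Or.inr h1) hxd
  · exact hfin x (Or.inl h1) hxd
  · exact hfin x (Or.inr h1) hxd

/-! ### Facts on `Dc` -/

theorem D_ne_e (i : ZMod (2 * 2 ^ k)) : D f s i ≠ f (c k) (c k) := D_ne_C h i _

theorem c_gen {x : G} (hx : x ∈ Dc h) : ∃ w₁ ∈ Dc h, ∃ w₂ ∈ Dc h,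
    (w₁ * w₁ = 1 ∧ w₁ ≠ 1 ∧ w₁ ≠ f (c k) (c k)) ∧ (w₂ * w₂ = 1 ∧ w₂ ≠ 1 ∧ w₂ ≠ f (c k) (c k)) ∧
    (x = w₁ * w₂ ∨ x = w₁) := by
  have hD : ∀ i, (D f s i * D f s i = 1 ∧ D f s i ≠ 1 ∧ D f s i ≠ f (c k) (c k)) := fun i =>
    ⟨D_sq h i, D_ne_one h i, D_ne_e h i⟩
  rcases hx with ⟨i, rfl⟩ | ⟨i, rfl⟩
  · refine ⟨D f s 0, Or.inr ⟨0, rfl⟩, D f s i, Or.inr ⟨i, rfl⟩, hD 0, hD i, Or.inl ?_⟩
    rw [D_mul_D h, sub_zero]
  · exact ⟨D f s i, Or.inr ⟨i, rfl⟩, D f s i, Or.inr ⟨i, rfl⟩, hD i, hD i, Or.inr rfl⟩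

theorem e_gen {x : G} (hx : x ∈ DE h) : ∃ w₁ ∈ DE h, ∃ w₂ ∈ DE h,
    (w₁ * w₁ = 1 ∧ w₁ ≠ 1) ∧ (w₂ * w₂ = 1 ∧ w₂ ≠ 1) ∧ (x = w₁ * w₂ ∨ x = w₁) := by
  have hD : ∀ i, (B f s i * B f s i = 1 ∧ B f s i ≠ 1) := fun i => ⟨B_sq h i, B_ne_one h i⟩
  rcases hx with ⟨i, rfl⟩ | ⟨i, rfl⟩
  · refine ⟨B f s i, Or.inr ⟨i, rfl⟩, B f s 0, Or.inr ⟨0, rfl⟩, hD i, hD 0, Or.inl ?_⟩
    rw [B_mul_B h, sub_zero]
  · exact ⟨B f s i, Or.inr ⟨i, rfl⟩, B f s i, Or.inr ⟨i, rfl⟩, hD i, hD i, Or.inr rfl⟩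

theorem c_comm {x y : G} (hx : x ∈ Dc h) (hxx : x * x ≠ 1) (hy : y ∈ Dc h) (hyy : y * y ≠ 1) : x * y = y * x := by
  rcases hx with ⟨i, rfl⟩ | ⟨i, rfl⟩
  · rcases hy with ⟨j, rfl⟩ | ⟨j, rfl⟩
    · rw [C_mul_C h, C_mul_C h, add_comm]
    · exact absurd (D_sq h j) hyy
  · exact absurd (D_sq h i) hxx

theorem c_inv {x w : G} (hx : x ∈ Dc h) (hxx : x * x ≠ 1) (hw : w ∈ Dc h) (hww : w * w = 1)
    (hc : w * x = x * w) : w = 1 ∨ w = f (c k) (c k) := by
  rcases hx with ⟨i, rfl⟩ | ⟨i, rfl⟩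
  · rcases hw with ⟨j, rfl⟩ | ⟨j, rfl⟩
    · exact C_sq_one h hww
    · exfalso
      apply hxx
      rw [D_mul_C h, C_mul_D h, D, D, mul_left_inj, h.f_eq_iff, z_mul_xa] at hc
      rw [C_mul_C h, C_eq_one_iff h]
      have H := hh_add (k := k)
      rcases hc with ⟨h1, -⟩ | ⟨h1, -⟩
      · linear_combination 2 * xa.inj h1
      · linear_combination 2 * xa.inj h1 + H
  · exact absurd (D_sq h i) hxx

theorem c_prod {v w : G} (hv : v ∈ Dc h) (hw : w ∈ Dc h) (h1 : v * v = 1 ∧ v ≠ 1 ∧ v ≠ f (c k) (c k))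
    (h2 : w * w = 1 ∧ w ≠ 1 ∧ w ≠ f (c k) (c k)) :
    v * w = 1 ∨ v * w = f (c k) (c k) ∨ (v * w) * (v * w) ≠ 1 := by
  have key : ∀ u ∈ Dc h, (u * u = 1 ∧ u ≠ 1 ∧ u ≠ f (c k) (c k)) → ∃ i, u = D f s i := by
    rintro _ (⟨i, rfl⟩ | ⟨i, rfl⟩) ⟨h3, h4, h5⟩
    · exfalso
      rcases C_sq_one h h3 with h6 | h6
      · exact h4 h6
      · exact h5 h6
    · exact ⟨i, rfl⟩
  obtain ⟨i, rfl⟩ := key v hv h1
  obtain ⟨j, rfl⟩ := key w hw h2
  rw [D_mul_D h]
  by_cases h3 : Cc f (j - i) * Cc f (j - i) = 1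
  · rcases C_sq_one h h3 with h4 | h4
    · exact Or.inl h4
    · exact Or.inr (Or.inl h4)
  · exact Or.inr (Or.inr h3)

/-! ### The root `r` -/

theorem root {x : G} (hx : x ∈ S) (hxe : x * f (c k) (c k) = f (c k) (c k) * x) (hxx : x * x = f (z k) 1) :
    x = f (c k) 1 ∨ x = f (c k) 1 * f (z k) 1 ∨ x = f (c k) 1 * f (c k) (c k) ∨
      x = f (c k) 1 * (f (z k) 1 * f (c k) (c k)) := by
  have hcc := c_sq h.hk
  obtain ⟨α, hα, h1⟩ := root_cases h hx hxx
  have hcα : α * c k = c k * α := by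
    rcases h1 with rfl | rfl
    · rcases (comm_iff h).1 hxe with ⟨h2, -⟩ | ⟨-, h2⟩
      · exact h2
      · rw [one_mul, mul_one] at h2
        exact absurd h2 (ne_z_mul _)
    · rcases (comm_iff h).1 hxe with ⟨-, h2⟩ | ⟨h2, -⟩
      · exact h2
      · rw [one_mul, mul_one] at h2
        exact absurd h2 (ne_z_mul _)
  rcases eq_or_of_comm hcc hα hcα.symm with rfl | rfl
  · rcases h1 with rfl | rfl
    · exact Or.inl rfl
    · right; right; right
      rw [h.f_mul, h.f_mul, one_mul, one_mul, ← mul_assoc, ← z_comm, mul_assoc, hcc, z_mul_z]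
  · rcases h1 with rfl | rfl
    · right; left
      rw [h.f_mul, mul_one, z_comm]
    · right; right; left
      rw [h.f_mul, one_mul, hcc, ← f_congr_z h, mul_one]

theorem cent_r {x : G} (hx : x ∈ S) (hxe : x * f (c k) (c k) = f (c k) (c k) * x)
    (hxr : x * f (c k) 1 = f (c k) 1 * x) : ∃ i j, x = f (a i) (a j) := by
  have hcc := c_sq h.hk
  obtain ⟨γ, δ, h1, rfl⟩ := centralizer_root h hx hcc hxr
  obtain ⟨i, rfl⟩ := comm_c h.hk h1
  rcases (comm_iff h).1 hxe with ⟨-, h2⟩ | ⟨h2, -⟩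
  · obtain ⟨j, rfl⟩ := comm_c h.hk h2
    exact ⟨i, j, rfl⟩
  · exfalso
    rw [h1] at h2
    exact ne_z_mul _ h2

theorem abel {x y : G} (hx : x ∈ S) (hxe : x * f (c k) (c k) = f (c k) (c k) * x)
    (hxr : x * f (c k) 1 = f (c k) 1 * x) (hy : y ∈ S) (hye : y * f (c k) (c k) = f (c k) (c k) * y)
    (hyr : y * f (c k) 1 = f (c k) 1 * y) : x * y = y * x := by
  obtain ⟨i, j, rfl⟩ := cent_r h hx hxe hxr
  obtain ⟨m, n, rfl⟩ := cent_r h hy hye hyr
  rw [h.f_mul, h.f_mul, a_comm_a, a_comm_a j]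

theorem inv {x : G} (hx : x ∈ S) (hxe : x * f (c k) (c k) = f (c k) (c k) * x)
    (hxr : x * f (c k) 1 = f (c k) 1 * x) (hxx : x * x = 1) :
    x = 1 ∨ x = f (z k) 1 ∨ x = f (c k) (c k) ∨ x = f (z k) 1 * f (c k) (c k) := by
  have hcc := c_sq h.hk
  obtain ⟨i, j, rfl⟩ := cent_r h hx hxe hxr
  rcases sq_cases_of_inv h hxx with ⟨h1, -⟩ | ⟨h1, h2⟩
  · rcases one_or_t h hxx (one_or_z_of_sq h1) with h3 | h3
    · exact Or.inl h3
    · exact Or.inr (Or.inl h3)
  · rw [a_mul_a] at h1 h2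
    have h1' := a.inj h1
    have h2' := a.inj h2
    rcases eq_c_of_sq h.hk h1' with h3 | h3 <;> rcases eq_c_of_sq h.hk h2' with h4 | h4 <;> rw [h3, h4]
    · exact Or.inr (Or.inr (Or.inl rfl))
    · right; right; right
      rw [t_mul h]
    · right; right; right
      rw [h.f_mul, one_mul]
    · right; right; left
      rw [h.f_z_mul]

end

end Cfsg.Agent.SylowSp4.CentUCoord
end

-- part: SylowSp4/CentUNil
section
/-!
# A criterion for 2-nilpotency: a root of a central involution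

`P` is a Sylow 2-subgroup of `H`, `t`, `e` are central involutions of `H` (or `1`), `r ∈ P` has square `t` and every
element of `P` with square `t` lies in `r⟨t, e⟩`; `C_P(r)` is abelian and its involutions lie in `⟨t, e⟩`.  Then `P`
controls its own fusion and `H` has a normal 2-complement.
-/

set_option autoImplicit false

namespace Cfsg.Agent.SylowSp4.CentUNil

open Subgroup Cfsg.Agent.Lib.GoldschmidtFusion Cfsg.Agent.Lib.EssBridge

variable {H : Type*} [Group H]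

/-- `g x g⁻¹ = x w` with `w` commuting with `g`, `w` of 2-power order, `g` of odd order, forces `w = 1` -/
theorem eq_one_of_shift {g x w : H} (ho : Odd (orderOf g)) (h : g * x * g⁻¹ = x * w) (hw : g * w * g⁻¹ = w)
    (hw2 : ∃ k : ℕ, w ^ 2 ^ k = 1) : w = 1 := by
  have hk : ∀ k : ℕ, g ^ k * x * (g ^ k)⁻¹ = x * w ^ k := by
    intro k
    induction k with
    | zero => simp
    | succ k ih =>
      have e : g ^ (k + 1) * x * (g ^ (k + 1))⁻¹ = g * (g ^ k * x * (g ^ k)⁻¹) * g⁻¹ := by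
        rw [pow_succ']; group
      have hwk : g * w ^ k * g⁻¹ = w ^ k := by rw [← conj_pow, hw]
      rw [e, ih]
      calc g * (x * w ^ k) * g⁻¹ = (g * x * g⁻¹) * (g * w ^ k * g⁻¹) := by group
        _ = x * w * w ^ k := by rw [h, hwk]
        _ = x * w ^ (k + 1) := by rw [pow_succ', mul_assoc]
  have h1 := hk (orderOf g)
  rw [pow_orderOf_eq_one, inv_one, mul_one, one_mul] at h1
  have h2 : w ^ orderOf g = 1 := mul_eq_left.1 h1.symm
  obtain ⟨k, h3⟩ := hw2
  have h4 : orderOf w ∣ orderOf g := orderOf_dvd_of_pow_eq_one h2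
  have h5 : orderOf w ∣ 2 ^ k := orderOf_dvd_of_pow_eq_one h3
  have h6 : Nat.Coprime (orderOf g) (2 ^ k) := (Nat.coprime_two_right.2 ho).pow_right k
  rw [← orderOf_eq_one_iff]
  exact Nat.eq_one_of_dvd_coprimes h6 h4 h5

/-- The configuration. -/
structure Cfg (P : Subgroup H) (t e r : H) : Prop where
  tt : t * t = 1
  ee : e * e = 1
  t_cen : ∀ x, t * x = x * t
  e_cen : ∀ x, e * x = x * e
  tP : t ∈ P
  eP : e ∈ P
  rP : r ∈ P
  rr : r * r = t
  root : ∀ x ∈ P, x * x = t → x = r ∨ x = r * t ∨ x = r * e ∨ x = r * (t * e)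
  abel : ∀ x ∈ P, x * r = r * x → ∀ y ∈ P, y * r = r * y → x * y = y * x
  inv : ∀ x ∈ P, x * r = r * x → x * x = 1 → x = 1 ∨ x = t ∨ x = e ∨ x = t * e

namespace Cfg

variable {P : Subgroup H} {t e r : H} (h : Cfg P t e r)

include h

/-- the central subgroup `⟨t, e⟩` as a set -/
theorem conj_cen {g w : H} (hw : w = 1 ∨ w = t ∨ w = e ∨ w = t * e) : g * w * g⁻¹ = w := by
  have ht : g * t * g⁻¹ = t := by rw [← h.t_cen, mul_inv_cancel_right]
  have he : g * e * g⁻¹ = e := by rw [← h.e_cen, mul_inv_cancel_right]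
  rcases hw with rfl | rfl | rfl | rfl
  · simp
  · exact ht
  · exact he
  · calc g * (t * e) * g⁻¹ = (g * t * g⁻¹) * (g * e * g⁻¹) := by group
      _ = t * e := by rw [ht, he]

theorem cen_sq {w : H} (hw : w = 1 ∨ w = t ∨ w = e ∨ w = t * e) : w * w = 1 := by
  rcases hw with rfl | rfl | rfl | rfl
  · simp
  · exact h.tt
  · exact h.ee
  · calc t * e * (t * e) = t * (e * t) * e := by group
      _ = t * (t * e) * e := by rw [h.e_cen t]
      _ = (t * t) * (e * e) := by group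
      _ = 1 := by rw [h.tt, h.ee, one_mul]

theorem cen_two {w : H} (hw : w = 1 ∨ w = t ∨ w = e ∨ w = t * e) : ∃ k : ℕ, w ^ 2 ^ k = 1 :=
  ⟨1, by rw [pow_one, pow_two]; exact h.cen_sq hw⟩

theorem cen_comm {w : H} (hw : w = 1 ∨ w = t ∨ w = e ∨ w = t * e) (x : H) : w * x = x * w := by
  have := h.conj_cen (g := x) hw
  exact (mul_inv_eq_iff_eq_mul.1 this).symm

theorem root' {x : H} (hx : x ∈ P) (hxx : x * x = t) :
    ∃ w, (w = 1 ∨ w = t ∨ w = e ∨ w = t * e) ∧ x = r * w := by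
  rcases h.root x hx hxx with h1 | h1 | h1 | h1
  · exact ⟨1, Or.inl rfl, by rw [h1, mul_one]⟩
  · exact ⟨t, Or.inr (Or.inl rfl), h1⟩
  · exact ⟨e, Or.inr (Or.inr (Or.inl rfl)), h1⟩
  · exact ⟨t * e, Or.inr (Or.inr (Or.inr rfl)), h1⟩

theorem conj_sq (g : H) : (g * r * g⁻¹) * (g * r * g⁻¹) = t := by
  calc (g * r * g⁻¹) * (g * r * g⁻¹) = g * (r * r) * g⁻¹ := by group
    _ = t := by rw [h.rr, ← h.t_cen, mul_inv_cancel_right]

/-- commutation with `r` of an odd-order element normalising `X ∋ r` -/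
theorem comm_r {X : Subgroup H} (hX : X ≤ P) (hrX : r ∈ X) {g : H} (hg : g ∈ normalizer (X : Set H))
    (ho : Odd (orderOf g)) : g * r * g⁻¹ = r := by
  have h1 : g * r * g⁻¹ ∈ P := hX ((mem_normalizer_iff.1 hg r).1 hrX)
  obtain ⟨w, hw, h2⟩ := h.root' h1 (h.conj_sq g)
  have h3 := eq_one_of_shift ho h2 (h.conj_cen hw) (h.cen_two hw)
  rw [h2, h3, mul_one]

/-- an odd-order element normalising `X ∋ r` centralises `C_X(r)` -/
theorem comm_B {X : Subgroup H} (hX : X ≤ P) (hrX : r ∈ X) {g : H} (hg : g ∈ normalizer (X : Set H))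
    (ho : Odd (orderOf g)) : ∀ n : ℕ, ∀ b ∈ X, b * r = r * b → b ^ 2 ^ n = 1 → g * b * g⁻¹ = b := by
  have hgr := h.comm_r hX hrX hg ho
  intro n
  induction n with
  | zero =>
    intro b _ _ hb
    rw [pow_zero, pow_one] at hb
    rw [hb]; simp
  | succ n ih =>
    intro b hbX hbr hb
    have hb2 : g * (b * b) * g⁻¹ = b * b := by
      refine ih (b * b) (mul_mem hbX hbX) ?_ ?_
      · rw [mul_assoc, hbr, ← mul_assoc, hbr, mul_assoc]
      · rw [← pow_two, ← pow_mul, ← pow_succ', hb]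
    have h1X : g * b * g⁻¹ ∈ X := (mem_normalizer_iff.1 hg b).1 hbX
    have h1r : g * b * g⁻¹ * r = r * (g * b * g⁻¹) := by
      calc g * b * g⁻¹ * r = g * b * g⁻¹ * (g * r * g⁻¹) := by rw [hgr]
        _ = g * (b * r) * g⁻¹ := by group
        _ = g * (r * b) * g⁻¹ := by rw [hbr]
        _ = (g * r * g⁻¹) * (g * b * g⁻¹) := by group
        _ = r * (g * b * g⁻¹) := by rw [hgr]
    have hc := h.abel b (hX hbX) hbr _ (hX h1X) h1r
    set w := b⁻¹ * (g * b * g⁻¹) with hw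
    have hwX : w ∈ P := hX (mul_mem (inv_mem hbX) h1X)
    have hbr' : b⁻¹ * r = r * b⁻¹ := by
      rw [inv_mul_eq_iff_eq_mul, ← mul_assoc, hbr, mul_inv_cancel_right]
    have hwr : w * r = r * w := by
      rw [hw, mul_assoc, h1r, ← mul_assoc, hbr', mul_assoc]
    have hww : w * w = 1 := by
      have e1 : w * w = b⁻¹ * (b⁻¹ * (g * b * g⁻¹)) * (g * b * g⁻¹) := by
        have hc' : b⁻¹ * (g * b * g⁻¹) = (g * b * g⁻¹) * b⁻¹ := by
          rw [inv_mul_eq_iff_eq_mul, ← mul_assoc, hc, mul_inv_cancel_right]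
        calc w * w = b⁻¹ * ((g * b * g⁻¹) * b⁻¹) * (g * b * g⁻¹) := by rw [hw]; group
          _ = b⁻¹ * (b⁻¹ * (g * b * g⁻¹)) * (g * b * g⁻¹) := by rw [← hc']
      have e2 : b⁻¹ * (b⁻¹ * (g * b * g⁻¹)) * (g * b * g⁻¹) = (b * b)⁻¹ * (g * (b * b) * g⁻¹) := by group
      rw [e1, e2, hb2, inv_mul_cancel]
    have hwc := h.inv w hwX hwr hww
    have h2 : g * b * g⁻¹ = b * w := by rw [hw]; group
    have h3 := eq_one_of_shift ho h2 (h.conj_cen hwc) (h.cen_two hwc)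
    rw [h2, h3, mul_one]

/-- an odd-order element normalising `X ∋ r` centralises `X` -/
theorem comm_X (hP : IsPGroup 2 P) {X : Subgroup H} (hX : X ≤ P) (hrX : r ∈ X) {g : H} (hg : g ∈ normalizer (X : Set H))
    (ho : Odd (orderOf g)) {x : H} (hx : x ∈ X) : g * x * g⁻¹ = x := by
  have hgr := h.comm_r hX hrX hg ho
  have h1X : g * x * g⁻¹ ∈ X := (mem_normalizer_iff.1 hg x).1 hx
  have hxr : x * r * x⁻¹ ∈ P := hX (mul_mem (mul_mem hx hrX) (inv_mem hx))
  obtain ⟨w, hw, h2⟩ := h.root' hxr (h.conj_sq x)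
  have h3 : (g * x * g⁻¹) * r * (g * x * g⁻¹)⁻¹ = r * w := by
    have hgr' : g⁻¹ * r * g = r := by
      nth_rw 1 [← hgr]; group
    calc (g * x * g⁻¹) * r * (g * x * g⁻¹)⁻¹ = g * (x * (g⁻¹ * r * g) * x⁻¹) * g⁻¹ := by group
      _ = g * (r * w) * g⁻¹ := by rw [hgr', h2]
      _ = (g * r * g⁻¹) * (g * w * g⁻¹) := by group
      _ = r * w := by rw [hgr, h.conj_cen hw]
  set c := x⁻¹ * (g * x * g⁻¹) with hc
  have hcX : c ∈ X := mul_mem (inv_mem hx) h1X
  have hcr : c * r = r * c := by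
    have e1 : c * r * c⁻¹ = r := by
      calc c * r * c⁻¹ = x⁻¹ * ((g * x * g⁻¹) * r * (g * x * g⁻¹)⁻¹) * x := by rw [hc]; group
        _ = x⁻¹ * (x * r * x⁻¹) * x := by rw [h3, h2]
        _ = r := by group
    exact mul_inv_eq_iff_eq_mul.1 e1
  obtain ⟨k, hk⟩ := hP ⟨c, hX hcX⟩
  have hck : c ^ 2 ^ k = 1 := by
    have := congrArg Subtype.val hk
    simpa only [_root_.SubmonoidClass.mk_pow, _root_.OneMemClass.coe_one] using this
  have h4 := h.comm_B hX hrX hg ho k c hcX hcr hck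
  have h5 : g * x * g⁻¹ = x * c := by rw [hc]; group
  have h6 := eq_one_of_shift ho h5 h4 ⟨k, hck⟩
  rw [h5, h6, mul_one]

end Cfg

variable [Finite H] {t e r : H}

/-- `r` lies in every essential subgroup. -/
theorem r_mem {P : Sylow 2 H} (h : Cfg (P : Subgroup H) t e r) {X : Subgroup H}
    (hX : Cfsg.Agent.Lib.EssDefs.Ess 2 (P : Subgroup H) X) : r ∈ X := by
  obtain ⟨M, hM⟩ := hX
  have hXP : X ≤ (P : Subgroup H) := hM.lt.le
  have hcen : ∀ w, (w = 1 ∨ w = t ∨ w = e ∨ w = t * e) → w ∈ X := by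
    intro w hw
    refine hM.cent (mem_inf.2 ⟨?_, ?_⟩)
    · rw [mem_centralizer_iff]
      intro x _
      exact (h.cen_comm hw x).symm
    · rcases hw with rfl | rfl | rfl | rfl
      · exact one_mem _
      · exact h.tP
      · exact h.eP
      · exact mul_mem h.tP h.eP
  let Z : Subgroup H :=
    { carrier := {w | w = 1 ∨ w = t ∨ w = e ∨ w = t * e}
      one_mem' := Or.inl rfl
      mul_mem' := by
        rintro a b ha hb
        have te : e * t = t * e := h.e_cen t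
        have tt := h.tt
        have ee := h.ee
        have tte : t * (t * e) = e := by rw [← mul_assoc, tt, one_mul]
        have ete : e * (t * e) = t := by rw [← mul_assoc, te, mul_assoc, ee, mul_one]
        have tet : t * e * t = e := by rw [mul_assoc, te, tte]
        have tee : t * e * e = t := by rw [mul_assoc, ee, mul_one]
        have tete : t * e * (t * e) = 1 := h.cen_sq (Or.inr (Or.inr (Or.inr rfl)))
        rcases ha with rfl | rfl | rfl | rfl <;> rcases hb with rfl | rfl | rfl | rfl <;>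
          simp only [te, tt, ee, tte, ete, tet, tee, tete, _root_.mul_one, _root_.Set.mem_ofPred_eq, _root_.true_or, _root_.one_mul, _root_.left_eq_mul, _root_.or_true, _root_.right_eq_mul, _root_.mul_eq_left, _root_.mul_eq_right]
      inv_mem' := by
        rintro a ha
        have : a⁻¹ = a := inv_eq_of_mul_eq_one_left (h.cen_sq ha)
        change a⁻¹ = 1 ∨ a⁻¹ = t ∨ a⁻¹ = e ∨ a⁻¹ = t * e
        rw [this]
        exact ha }
  have hZmem : ∀ w, w ∈ Z ↔ (w = 1 ∨ w = t ∨ w = e ∨ w = t * e) := fun w => Iff.rfl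
  have hrx : ∀ x ∈ (P : Subgroup H), r * x * r⁻¹ * x⁻¹ ∈ Z := by
    intro x hx
    have h1 : x * r⁻¹ * x⁻¹ ∈ (P : Subgroup H) := mul_mem (mul_mem hx (inv_mem h.rP)) (inv_mem hx)
    have h2 : x * r * x⁻¹ ∈ (P : Subgroup H) := mul_mem (mul_mem hx h.rP) (inv_mem hx)
    obtain ⟨w, hw, h3⟩ := h.root' h2 (h.conj_sq x)
    have h4 : r * x * r⁻¹ * x⁻¹ = w⁻¹ := by
      have e1 : r * x * r⁻¹ * x⁻¹ = r * (x * r * x⁻¹)⁻¹ := by group
      rw [e1, h3, mul_inv_rev, ← mul_assoc]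
      have h5 : r * w⁻¹ = w⁻¹ * r := by
        have h6 : w⁻¹ = w := inv_eq_of_mul_eq_one_left (h.cen_sq hw)
        rw [h6, h.cen_comm hw]
      rw [h5, mul_inv_cancel_right]
    rw [h4]
    exact Z.inv_mem ((hZmem w).2 hw)
  have hrN : r ∈ normalizer (X : Set H) := by
    rw [mem_normalizer_iff]
    intro x
    constructor
    · intro hx
      have h1 := hcen _ ((hZmem _).1 (hrx x (hXP hx)))
      have h2 : r * x * r⁻¹ = (r * x * r⁻¹ * x⁻¹) * x := by group
      rw [h2]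
      exact mul_mem h1 hx
    · intro hx
      have hxP : x ∈ (P : Subgroup H) := by
        have h1 : x = r⁻¹ * (r * x * r⁻¹) * r := by group
        rw [h1]
        exact mul_mem (mul_mem (inv_mem h.rP) (hXP hx)) h.rP
      have h1 := hcen _ ((hZmem _).1 (hrx x hxP))
      have h2 : x = (r * x * r⁻¹ * x⁻¹)⁻¹ * (r * x * r⁻¹) := by group
      rw [h2]
      exact mul_mem (inv_mem h1) hx
  refine mem_of_stab ⟨M, hM⟩ (x := r) ?_ h.rP hrN
  refine Stab.step (B := Z) (fun w hw => hcen w ((hZmem w).1 hw)) le_rfl (fun x hx => hrx x (hXP hx)) ?_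
  refine Stab.step (B := ⊥) bot_le ?_ ?_ Stab.bot
  · intro g _
    rw [mem_normalizer_iff]
    intro w
    constructor
    · intro hw
      rw [h.conj_cen ((hZmem w).1 hw)]
      exact hw
    · intro hw
      have h1 : w = g⁻¹ * (g * w * g⁻¹) * g⁻¹⁻¹ := by group
      rw [h1, h.conj_cen ((hZmem _).1 hw)]
      exact hw
  · intro w hw
    rw [mem_bot]
    have := h.conj_cen (g := r) ((hZmem w).1 hw)
    rw [this, mul_inv_cancel]

/-- The criterion. -/
theorem hasNormalPComplement {P : Sylow 2 H} (h : Cfg (P : Subgroup H) t e r) : Cfsg.HasNormalPComplement 2 H := by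
  have hodd : ∀ n : ℕ, Nat.Coprime n 2 → Odd n := fun n hn => Nat.coprime_two_right.1 hn
  -- an odd-order element of `N(X)` centralises `X`, when `r ∈ X`
  have key : ∀ X : Subgroup H, X ≤ (P : Subgroup H) → r ∈ X → ∀ g ∈ normalizer (X : Set H), Nat.Coprime (orderOf g) 2 →
      g ∈ centralizer (X : Set H) := by
    intro X hX hrX g hg ho
    rw [mem_centralizer_iff]
    intro x hx
    have := h.comm_X P.isPGroup' hX hrX hg (hodd _ ho) hx
    exact (mul_inv_eq_iff_eq_mul.1 this).symm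
  have noEss : ∀ X : Subgroup H, ¬ Cfsg.Agent.Lib.EssDefs.Ess 2 (P : Subgroup H) X := by
    intro X hX
    have hrX := r_mem h hX
    obtain ⟨M, hM⟩ := hX
    apply hM.ne
    refine le_antisymm hM.le ?_
    intro n hn
    obtain ⟨s, hs, c, hc, rfl⟩ := exists_mul_of_pGroup_automizer P hM.not_dvd (key X hM.lt.le hrX) hn
    exact mul_mem (hM.inf_le hs) (hM.sup_le (mem_sup_right hc))
  have hPi : ¬ 2 ∣ ((P : Subgroup H) ⊓ normalizer ((P : Subgroup H) : Set H)).relIndex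
      (normalizer ((P : Subgroup H) : Set H)) := by
    rw [inf_eq_left.2 le_normalizer]
    intro hd
    exact P.not_dvd_index (hd.trans (relIndex_dvd_index_of_le le_normalizer))
  refine Cfsg.Agent.Transfer.FrobeniusFusion.hasNormalPComplement_of_controls_fusion P ?_
  rintro x hx y hy ⟨g, rfl⟩
  have hgen : Gen (P : Subgroup H) (fun X => X = (P : Subgroup H)) (zpowers x) g :=
    Cfsg.Agent.Lib.EssBridge.gen_of_conj P (fun X => X = (P : Subgroup H)) rfl
      (fun X hX => absurd hX (noEss X)) (zpowers_le.2 hx) (zpowers_map_conj_le hy)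
  obtain ⟨n, hn, c, hc, rfl⟩ := hgen.exists_mul (M := normalizer ((P : Subgroup H) : Set H))
    (fun X _ hX => by rw [hX])
  obtain ⟨s, hs, d, hd, rfl⟩ := exists_mul_of_pGroup_automizer P hPi (key _ le_rfl h.rP) hn
  refine ⟨s, hs.1, ?_⟩
  have h1 : c * x * c⁻¹ = x := conj_eq_of_mem_centralizer hc (mem_zpowers x)
  have h2 : d * x * d⁻¹ = x := conj_eq_of_mem_centralizer hd hx
  calc s * x * s⁻¹ = s * (d * (c * x * c⁻¹) * d⁻¹) * s⁻¹ := by rw [h1, h2]
    _ = s * d * c * x * (s * d * c)⁻¹ := by group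

end Cfsg.Agent.SylowSp4.CentUNil
end

-- part: SylowSp4/CentULoc
section
/-!
# The centralizer of an involution of `u`-type: local structure and strong closure

Abstract form: `Y = C(e)` with Sylow 2-subgroup `P ≥ DE × Dc`, `t` an involution of `Z(P)`, `T` the property of being
conjugate to `t` in the big group.
-/

set_option autoImplicit false

namespace Cfsg.Agent.SylowSp4.CentULoc

open Subgroup Cfsg.Agent.Lib.GoldschmidtFusion Cfsg.Agent.SylowSp4.CentUNil

/-- The local configuration in `Y = C(e)`. -/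
structure Loc {Y : Type*} [Group Y] (P DE Dc : Subgroup Y) (t e r : Y) (T : Y → Prop) : Prop where
  ee : e * e = 1
  e_cen : ∀ x, e * x = x * e
  tt : t * t = 1
  t_comm : ∀ x ∈ P, t * x = x * t
  tP : t ∈ P
  rP : r ∈ P
  rr : r * r = t
  root : ∀ x ∈ P, x * x = t → x = r ∨ x = r * t ∨ x = r * e ∨ x = r * (t * e)
  abel : ∀ x ∈ P, x * r = r * x → ∀ y ∈ P, y * r = r * y → x * y = y * x
  inv : ∀ x ∈ P, x * r = r * x → x * x = 1 → x = 1 ∨ x = t ∨ x = e ∨ x = t * e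
  te_mem : t * e ∈ DE
  te_ne : t * e ≠ 1
  e_mem : e ∈ Dc
  DE_le : DE ≤ P
  Dc_le : Dc ≤ P
  comm : ∀ a ∈ DE, ∀ b ∈ Dc, a * b = b * a
  disj : ∀ a ∈ DE, a ∈ Dc → a = 1
  normE : ∀ x ∈ P, ∀ a ∈ DE, x * a * x⁻¹ ∈ DE
  normc : ∀ x ∈ P, ∀ a ∈ Dc, x * a * x⁻¹ ∈ Dc
  T_conj : ∀ g y, T y → T (g * y * g⁻¹)
  cIII : ∀ d ∈ P, d * d = 1 → ¬ T d → T (d * e) → d ∈ DE
  dIII : ∀ d ∈ DE, d * d = 1 → d ≠ 1 → ¬ T d ∧ T (d * e)
  cI : ∀ w ∈ P, w * w = 1 → T w → T (w * e) → w ∈ Dc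
  dI : ∀ w ∈ Dc, w * w = 1 → w ≠ 1 → w ≠ e → T w ∧ T (w * e)
  E_pow : ∀ a ∈ DE, a * a ≠ 1 → ∃ m : ℕ, a ^ m * a ^ m = t * e
  E_sq : ∀ a ∈ DE, (a * a) * (a * a) = 1 → a * a = 1 ∨ a * a = t * e
  E_refl : ∀ a ∈ DE, ∀ d ∈ DE, a * a ≠ 1 → d * d = 1 → d ≠ 1 → d ≠ t * e → (a * d) * (a * d) = 1
  E_cent : ∀ d ∈ DE, d * d = 1 → d ≠ 1 → d ≠ t * e → ∀ x ∈ P, x * d = d * x →
    ∃ v, (v = 1 ∨ v = d ∨ v = t * e ∨ v = d * (t * e)) ∧ ∃ c ∈ Dc, x = v * c
  c_gen : ∀ a ∈ Dc, ∃ w₁ ∈ Dc, ∃ w₂ ∈ Dc, (w₁ * w₁ = 1 ∧ w₁ ≠ 1 ∧ w₁ ≠ e) ∧ (w₂ * w₂ = 1 ∧ w₂ ≠ 1 ∧ w₂ ≠ e) ∧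
    (a = w₁ * w₂ ∨ a = w₁)
  c_comm : ∀ a ∈ Dc, a * a ≠ 1 → ∀ b ∈ Dc, b * b ≠ 1 → a * b = b * a
  c_inv : ∀ a ∈ Dc, a * a ≠ 1 → ∀ w ∈ Dc, w * w = 1 → w * a = a * w → w = 1 ∨ w = e
  c_prod : ∀ w₁ ∈ Dc, ∀ w₂ ∈ Dc, (w₁ * w₁ = 1 ∧ w₁ ≠ 1 ∧ w₁ ≠ e) → (w₂ * w₂ = 1 ∧ w₂ ≠ 1 ∧ w₂ ≠ e) →
    w₁ * w₂ = 1 ∨ w₁ * w₂ = e ∨ (w₁ * w₂) * (w₁ * w₂) ≠ 1

theorem odd_of_coprime {n : ℕ} (h : Nat.Coprime n 2) : Odd n := Nat.coprime_two_right.1 h

/-- an element of 2-power order in a subgroup of odd order -/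
theorem eq_one_of_mem_odd {G : Type*} [Group G] [Finite G] {K X : Subgroup G} (hK : ¬ 2 ∣ Nat.card K) (hX : IsPGroup 2 X)
    {x : G} (h1 : x ∈ K) (h2 : x ∈ X) : x = 1 := by
  obtain ⟨k, hk⟩ := hX ⟨x, h2⟩
  have hk' : x ^ 2 ^ k = 1 := by simpa only [_root_.SubmonoidClass.mk_pow, _root_.OneMemClass.coe_one] using congrArg Subtype.val hk
  have h3 : orderOf x ∣ 2 ^ k := orderOf_dvd_of_pow_eq_one hk'
  have h4 : orderOf x ∣ Nat.card K := by
    have := orderOf_dvd_natCard (⟨x, h1⟩ : K)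
    rwa [orderOf_mk] at this
  obtain ⟨j, -, hj⟩ := (Nat.dvd_prime_pow Nat.prime_two).1 h3
  rcases Nat.eq_zero_or_pos j with rfl | hj0
  · rw [← orderOf_eq_one_iff, hj, pow_zero]
  · exfalso
    apply hK
    refine dvd_trans ?_ h4
    rw [hj]
    exact dvd_pow_self 2 hj0.ne'

namespace Loc

variable {Y : Type*} [Group Y] {P DE Dc : Subgroup Y} {t e r : Y} {T : Y → Prop} (h : Loc P DE Dc t e r T)

include h

theorem eP : e ∈ P := h.Dc_le h.e_mem

theorem te_comm {x : Y} (hx : x ∈ P) : (t * e) * x = x * (t * e) := by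
  rw [mul_assoc, h.e_cen, ← mul_assoc, h.t_comm x hx, mul_assoc]

theorem te_te : (t * e) * (t * e) = 1 := by
  calc (t * e) * (t * e) = t * (e * t) * e := by group
    _ = t * (t * e) * e := by rw [h.e_cen t]
    _ = (t * t) * (e * e) := by group
    _ = 1 := by rw [h.tt, h.ee, one_mul]

/-- commuting with `t e` is commuting with `t` -/
theorem comm_te_iff {y : Y} : y * (t * e) = (t * e) * y ↔ y * t = t * y := by
  constructor
  · intro h1
    have h2 : y * t * e = t * y * e := by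
      rw [mul_assoc, h1, mul_assoc, h.e_cen, ← mul_assoc]
    exact mul_right_cancel h2
  · intro h1
    rw [← mul_assoc, h1, mul_assoc, mul_assoc, h.e_cen]

theorem conj_e (g : Y) : g * e * g⁻¹ = e := by rw [← h.e_cen, mul_inv_cancel_right]

theorem conj_mul_e (g y : Y) : g * (y * e) * g⁻¹ = (g * y * g⁻¹) * e := by
  calc g * (y * e) * g⁻¹ = (g * y * g⁻¹) * (g * e * g⁻¹) := by group
    _ = (g * y * g⁻¹) * e := by rw [h.conj_e]

theorem T_conj_iff (g y : Y) : T (g * y * g⁻¹) ↔ T y := by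
  constructor
  · intro h1
    have := h.T_conj g⁻¹ _ h1
    have e1 : g⁻¹ * (g * y * g⁻¹) * g⁻¹⁻¹ = y := by group
    rwa [e1] at this
  · exact h.T_conj g y

/-- transfer of the class III property -/
theorem conj_III {g d : Y} (hd : d ∈ DE) (hdd : d * d = 1) (hd1 : d ≠ 1) (hg : g * d * g⁻¹ ∈ P) :
    g * d * g⁻¹ ∈ DE := by
  obtain ⟨h1, h2⟩ := h.dIII d hd hdd hd1
  refine h.cIII _ hg ?_ ?_ ?_
  · calc g * d * g⁻¹ * (g * d * g⁻¹) = g * (d * d) * g⁻¹ := by group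
      _ = 1 := by rw [hdd]; group
  · rwa [h.T_conj_iff]
  · rw [← h.conj_mul_e, h.T_conj_iff]; exact h2

theorem conj_I {g w : Y} (hw : w ∈ Dc) (hww : w * w = 1) (hw1 : w ≠ 1) (hwe : w ≠ e) (hg : g * w * g⁻¹ ∈ P) :
    g * w * g⁻¹ ∈ Dc := by
  obtain ⟨h1, h2⟩ := h.dI w hw hww hw1 hwe
  refine h.cI _ hg ?_ ?_ ?_
  · calc g * w * g⁻¹ * (g * w * g⁻¹) = g * (w * w) * g⁻¹ := by group
      _ = 1 := by rw [hww]; group
  · rwa [h.T_conj_iff]
  · rw [← h.conj_mul_e, h.T_conj_iff]; exact h2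

/-- an element conjugating (the generators of) `Dc` into `P` normalises `Dc` -/
theorem conj_Dc {g : Y} (hg : ∀ a ∈ Dc, g * a * g⁻¹ ∈ P) {a : Y} (ha : a ∈ Dc) : g * a * g⁻¹ ∈ Dc := by
  obtain ⟨w₁, hw₁, w₂, hw₂, ⟨a1, a2, a3⟩, ⟨b1, b2, b3⟩, h1⟩ := h.c_gen a ha
  have h2 := h.conj_I hw₁ a1 a2 a3 (hg _ hw₁)
  have h3 := h.conj_I hw₂ b1 b2 b3 (hg _ hw₂)
  rcases h1 with rfl | rfl
  · have e1 : g * (w₁ * w₂) * g⁻¹ = (g * w₁ * g⁻¹) * (g * w₂ * g⁻¹) := by group
    rw [e1]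
    exact mul_mem h2 h3
  · exact h2

end Loc

/-- The 2-nilpotent structure of `C_Y(t)`. -/
structure Nil {Y : Type*} [Group Y] (P K : Subgroup Y) (t : Y) : Prop where
  le : ∀ k ∈ K, k * t = t * k
  odd : ¬ 2 ∣ Nat.card K
  norm : ∀ h : Y, h * t = t * h → ∀ k ∈ K, h * k * h⁻¹ ∈ K
  gen : ∀ h : Y, h * t = t * h → ∃ k ∈ K, ∃ p ∈ P, h = k * p
  mem : ∀ h : Y, h * t = t * h → Odd (orderOf h) → h ∈ K

theorem Loc.exists_nil {Y : Type*} [Group Y] [Finite Y] {P : Sylow 2 Y} {DE Dc : Subgroup Y} {t e r : Y} {T : Y → Prop}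
    (h : Loc (P : Subgroup Y) DE Dc t e r T) : ∃ K : Subgroup Y, Nil (P : Subgroup Y) K t := by
  set H := centralizer ({t} : Set Y) with hH
  have hmem : ∀ x : Y, x ∈ H ↔ x * t = t * x := fun x => mem_centralizer_singleton_iff
  have hPH : (P : Subgroup Y) ≤ H := fun x hx => (hmem x).2 (h.t_comm x hx).symm
  let P' : Sylow 2 H := P.subtype hPH
  have hP' : ∀ x : H, x ∈ (P' : Subgroup H) ↔ (x : Y) ∈ (P : Subgroup Y) := fun x => by
    rw [Sylow.coe_subtype, mem_subgroupOf]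
  have htH : t ∈ H := (hmem t).2 rfl
  have heH : e ∈ H := (hmem e).2 (h.e_cen t)
  have hrH : r ∈ H := hPH h.rP
  have hc : Cfg (P' : Subgroup H) (⟨t, htH⟩ : H) ⟨e, heH⟩ ⟨r, hrH⟩ := by
    refine ⟨?_, ?_, ?_, ?_, ?_, ?_, ?_, ?_, ?_, ?_, ?_⟩
    · exact Subtype.ext h.tt
    · exact Subtype.ext h.ee
    · intro x; exact Subtype.ext ((hmem _).1 x.2).symm
    · intro x; exact Subtype.ext (h.e_cen x)
    · exact (hP' _).2 h.tP
    · exact (hP' _).2 h.eP
    · exact (hP' _).2 h.rP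
    · exact Subtype.ext h.rr
    · intro x hx hxx
      rcases h.root x ((hP' x).1 hx) (congrArg Subtype.val hxx) with h1 | h1 | h1 | h1
      · exact Or.inl (Subtype.ext h1)
      · exact Or.inr (Or.inl (Subtype.ext h1))
      · exact Or.inr (Or.inr (Or.inl (Subtype.ext h1)))
      · exact Or.inr (Or.inr (Or.inr (Subtype.ext h1)))
    · intro x hx hxr y hy hyr
      exact Subtype.ext (h.abel x ((hP' x).1 hx) (congrArg Subtype.val hxr) y ((hP' y).1 hy)
        (congrArg Subtype.val hyr))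
    · intro x hx hxr hxx
      rcases h.inv x ((hP' x).1 hx) (congrArg Subtype.val hxr) (congrArg Subtype.val hxx) with h1 | h1 | h1 | h1
      · exact Or.inl (Subtype.ext h1)
      · exact Or.inr (Or.inl (Subtype.ext h1))
      · exact Or.inr (Or.inr (Or.inl (Subtype.ext h1)))
      · exact Or.inr (Or.inr (Or.inr (Subtype.ext h1)))
  obtain ⟨N, hN, hcomp⟩ := Cfsg.Agent.Transfer.NormalPComplement.exists_of_sylow (hasNormalPComplement hc) P'
  have hcop := Cfsg.Agent.Transfer.NormalPComplement.coprime_of_isComplement' P' hcomp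
  refine ⟨N.map H.subtype, ?_, ?_, ?_, ?_, ?_⟩
  · rintro _ ⟨k, -, rfl⟩
    exact (hmem _).1 k.2
  · rw [Subgroup.card_map_of_injective (Subgroup.subtype_injective _)]
    intro hd
    have := Nat.Coprime.eq_one_of_dvd hcop.symm hd
    omega
  · rintro x hx _ ⟨k, hk, rfl⟩
    exact ⟨(⟨x, (hmem x).2 hx⟩ * k * ⟨x, (hmem x).2 hx⟩⁻¹ :), hN.conj_mem k hk _, rfl⟩
  · intro x hx
    have h1 : (⟨x, (hmem x).2 hx⟩ : H) ∈ (⊤ : Subgroup H) := mem_top _
    obtain ⟨⟨⟨n, hn⟩, ⟨p, hp⟩⟩, hnp⟩ := hcomp.2 ⟨x, (hmem x).2 hx⟩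
    exact ⟨n, ⟨n, hn, rfl⟩, p, (hP' p).1 hp, (congrArg Subtype.val hnp).symm⟩
  · intro x hx ho
    have h1 := (Cfsg.Agent.Transfer.NormalPComplement.mem_iff_coprime_orderOf P' N hcomp ⟨x, (hmem x).2 hx⟩).2 (by
      rw [Subgroup.orderOf_mk]; exact Nat.coprime_two_right.2 ho)
    exact ⟨_, h1, rfl⟩

end Cfsg.Agent.SylowSp4.CentULoc
end

-- part: SylowSp4/CentUClosed
section
/-!
# `DE` and `Dc` are strongly closed in the Sylow 2-subgroup of `C(e)`
-/

set_option autoImplicit false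

namespace Cfsg.Agent.SylowSp4.CentUClosed

open Subgroup Cfsg.Agent.Lib.GoldschmidtFusion Cfsg.Agent.SylowSp4.CentUNil Cfsg.Agent.SylowSp4.CentULoc

variable {Y : Type*} [Group Y] [Finite Y] {P : Sylow 2 Y} {DE Dc : Subgroup Y} {t e r : Y} {T : Y → Prop}

/-- index of a 2-subgroup in the product with a subgroup of odd order -/
theorem not_dvd_relIndex {K Q C : Subgroup Y} (hK : ¬ 2 ∣ Nat.card K) (hQK : Q ≤ normalizer (K : Set Y))
    (hQC : Q ≤ C) (hC : ∀ x ∈ C, ∃ k ∈ K, ∃ q ∈ Q, x = k * q) : ¬ 2 ∣ Q.relIndex C := by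
  intro hd
  apply hK
  have h1 : C ≤ Q ⊔ K := by
    intro x hx
    obtain ⟨k, hk, q, hq, rfl⟩ := hC x hx
    exact mul_mem (mem_sup_right hk) (mem_sup_left hq)
  have h2 := Cfsg.Agent.Walter.OddCoreIn.card_sup_dvd hQK
  have h3 : Nat.card Q * Q.relIndex (Q ⊔ K) = Nat.card (Q ⊔ K : Subgroup Y) := by
    have := card_mul_index (Q.subgroupOf (Q ⊔ K))
    rwa [Nat.card_congr (subgroupOfEquivOfLe (le_sup_left : Q ≤ Q ⊔ K)).toEquiv] at this
  rw [← h3] at h2
  have h4 : Q.relIndex (Q ⊔ K) ∣ Nat.card K := Nat.dvd_of_mul_dvd_mul_left Nat.card_pos h2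
  have h5 : Q.relIndex C ∣ Q.relIndex (Q ⊔ K) := by
    have := relIndex_mul_relIndex Q C (Q ⊔ K) hQC h1
    exact ⟨_, this.symm⟩
  exact (hd.trans h5).trans h4

/-- an element of odd order normalising a centric `X ≤ P` preserves `X ∩ DE` and `X ∩ Dc` -/
theorem step (h : Loc (P : Subgroup Y) DE Dc t e r T) {K : Subgroup Y} (n : Nil (P : Subgroup Y) K t)
    {X : Subgroup Y} (hX : X ≤ (P : Subgroup Y)) (hcent : centralizer (X : Set Y) ⊓ (P : Subgroup Y) ≤ X) {g : Y}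
    (hg : g ∈ normalizer (X : Set Y)) (ho : Odd (orderOf g)) :
    (∀ a ∈ X, a ∈ DE → g * a * g⁻¹ ∈ DE) ∧ (∀ a ∈ X, a ∈ Dc → g * a * g⁻¹ ∈ Dc) := by
  have hgX : ∀ a ∈ X, g * a * g⁻¹ ∈ X := fun a ha => (mem_normalizer_iff.1 hg a).1 ha
  have hXt : ∀ x ∈ X, x * t = t * x := fun x hx => (h.t_comm x (hX hx)).symm
  have hteP : t * e ∈ (P : Subgroup Y) := mul_mem h.tP h.eP
  have hteX : t * e ∈ X := by
    refine hcent (mem_inf.2 ⟨?_, hteP⟩)
    rw [mem_centralizer_iff]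
    intro x hx
    exact (h.te_comm (hX hx)).symm
  -- an element of `K ∩ P` is trivial
  have hKP : ∀ x ∈ K, x ∈ (P : Subgroup Y) → x = 1 := fun x h1 h2 => eq_one_of_mem_odd n.odd P.isPGroup' h1 h2
  by_cases hgt : g * t = t * g
  · have hgK : g ∈ K := n.mem g hgt ho
    have key : ∀ x ∈ X, g * x * g⁻¹ = x := by
      intro x hx
      have h1 : g * x * g⁻¹ * x⁻¹ ∈ K := by
        have e1 : g * x * g⁻¹ * x⁻¹ = g * (x * g⁻¹ * x⁻¹) := by group
        rw [e1]
        exact mul_mem hgK (n.norm x (hXt x hx) _ (inv_mem hgK))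
      have h2 : g * x * g⁻¹ * x⁻¹ ∈ (P : Subgroup Y) := hX (mul_mem (hgX x hx) (inv_mem hx))
      exact mul_inv_eq_one.1 (hKP _ h1 h2)
    exact ⟨fun a ha hE => by rw [key a ha]; exact hE, fun a ha hc => by rw [key a ha]; exact hc⟩
  set d := g * (t * e) * g⁻¹ with hd
  have hdX : d ∈ X := hgX _ hteX
  have hdE : d ∈ DE := h.conj_III h.te_mem h.te_te h.te_ne (hX hdX)
  have hdd : d * d = 1 := by
    calc d * d = g * ((t * e) * (t * e)) * g⁻¹ := by rw [hd]; group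
      _ = 1 := by rw [h.te_te]; group
  have hd1 : d ≠ 1 := by
    intro h1
    apply h.te_ne
    have : t * e = g⁻¹ * d * g := by rw [hd]; group
    rw [this, h1]; group
  have hdte : d ≠ t * e := by
    intro h1
    apply hgt
    rw [← h.comm_te_iff]
    exact mul_inv_eq_iff_eq_mul.1 (hd ▸ h1)
  -- `X ∩ DE` is elementary abelian
  have hel : ∀ a ∈ X, a ∈ DE → a * a = 1 := by
    intro a haX haE
    by_contra haa
    obtain ⟨m, hm⟩ := h.E_pow a haE haa
    set b := a ^ m with hb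
    have hbX : b ∈ X := pow_mem haX m
    have hbE : b ∈ DE := pow_mem haE m
    have hbb : b * b ≠ 1 := by rw [hm]; exact h.te_ne
    have hbd := h.E_refl b hbE d hdE hbb hdd hd1 hdte
    have hbd1 : b * d ≠ 1 := by
      intro h1
      apply hbb
      rw [eq_inv_of_mul_eq_one_left h1, inv_eq_of_mul_eq_one_left hdd, hdd]
    have h1 : g * (b * d) * g⁻¹ ∈ DE := h.conj_III (mul_mem hbE hdE) hbd hbd1 (hX (hgX _ (mul_mem hbX hdX)))
    have h2 : g * d * g⁻¹ ∈ DE := h.conj_III hdE hdd hd1 (hX (hgX _ hdX))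
    have h3 : g * b * g⁻¹ ∈ DE := by
      have e1 : g * b * g⁻¹ = (g * (b * d) * g⁻¹) * (g * d * g⁻¹)⁻¹ := by group
      rw [e1]
      exact mul_mem h1 (inv_mem h2)
    have h4 : (g * b * g⁻¹) * (g * b * g⁻¹) = d := by
      calc (g * b * g⁻¹) * (g * b * g⁻¹) = g * (b * b) * g⁻¹ := by group
        _ = d := by rw [hm]
    rcases h.E_sq _ h3 (by rw [h4, hdd]) with h5 | h5
    · exact hd1 (h4.symm.trans h5)
    · exact hdte (h4.symm.trans h5)
  have hE : ∀ a ∈ X, a ∈ DE → g * a * g⁻¹ ∈ DE := by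
    intro a haX haE
    by_cases ha1 : a = 1
    · rw [ha1, mul_one, mul_inv_cancel]; exact one_mem _
    exact h.conj_III haE (hel a haX haE) ha1 (hX (hgX _ haX))
  refine ⟨hE, ?_⟩
  -- `V = X ∩ DE = {1, te, d, d te}`
  have hV : ∀ a ∈ X, a ∈ DE → (a = 1 ∨ a = d ∨ a = t * e ∨ a = d * (t * e)) := by
    intro a haX haE
    have h1 : (a * d) * (a * d) = 1 := hel _ (mul_mem haX hdX) (mul_mem haE hdE)
    have haa := hel a haX haE
    have h2 : a * d = d * a := by
      have e1 : a * d = (d⁻¹ * a⁻¹) := by rw [← mul_inv_rev]; exact eq_inv_of_mul_eq_one_left h1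
      rw [e1, inv_eq_of_mul_eq_one_left hdd, inv_eq_of_mul_eq_one_left haa]
    obtain ⟨v, hv, c, hc, h3⟩ := h.E_cent d hdE hdd hd1 hdte a (hX haX) h2
    have hvE : v ∈ DE := by
      rcases hv with rfl | rfl | rfl | rfl
      · exact one_mem _
      · exact hdE
      · exact h.te_mem
      · exact mul_mem hdE h.te_mem
    have h4 : c = 1 := by
      refine h.disj c ?_ hc
      have : c = v⁻¹ * a := by rw [h3]; group
      rw [this]
      exact mul_mem (inv_mem hvE) haE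
    rw [h3, h4, mul_one]
    exact hv
  -- `g` preserves `C(V)`
  have hgd : g * d * g⁻¹ = 1 ∨ g * d * g⁻¹ = d ∨ g * d * g⁻¹ = t * e ∨ g * d * g⁻¹ = d * (t * e) :=
    hV _ (hgX _ hdX) (hE _ hdX hdE)
  let C : Subgroup Y := centralizer ({t * e} : Set Y) ⊓ centralizer ({d} : Set Y)
  have hC : ∀ y, y ∈ C ↔ y * (t * e) = (t * e) * y ∧ y * d = d * y := fun y => by
    rw [mem_inf, mem_centralizer_singleton_iff, mem_centralizer_singleton_iff]
  -- elements of `C` commute with `g d g⁻¹`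
  have hCg : ∀ y ∈ C, y * (g * d * g⁻¹) = (g * d * g⁻¹) * y := by
    intro y hy
    obtain ⟨h1, h2⟩ := (hC y).1 hy
    rcases hgd with h3 | h3 | h3 | h3
    · rw [h3]; simp
    · rw [h3, h2]
    · rw [h3, h1]
    · rw [h3]
      calc y * (d * (t * e)) = (y * d) * (t * e) := by group
        _ = (d * y) * (t * e) := by rw [h2]
        _ = d * (y * (t * e)) := by group
        _ = d * ((t * e) * y) := by rw [h1]
        _ = d * (t * e) * y := by group
  -- `g⁻¹ C g ≤ C`, hence `g C g⁻¹ = C`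
  have hCinv : ∀ y ∈ C, g⁻¹ * y * g ∈ C := by
    intro y hy
    obtain ⟨h1, h2⟩ := (hC y).1 hy
    have h3 := hCg y hy
    rw [hC]
    constructor
    · have e1 : t * e = g⁻¹ * d * g := by rw [hd]; group
      calc g⁻¹ * y * g * (t * e) = g⁻¹ * (y * d) * g := by rw [e1]; group
        _ = g⁻¹ * (d * y) * g := by rw [h2]
        _ = t * e * (g⁻¹ * y * g) := by rw [e1]; group
    · calc g⁻¹ * y * g * d = g⁻¹ * (y * (g * d * g⁻¹)) * g := by group
        _ = g⁻¹ * ((g * d * g⁻¹) * y) * g := by rw [h3]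
        _ = d * (g⁻¹ * y * g) := by group
  have hCmap : ∀ y ∈ C, g * y * g⁻¹ ∈ C := by
    have hle : C.map (MulAut.conj g⁻¹).toMonoidHom ≤ C := by
      rintro _ ⟨y, hy, rfl⟩
      have := hCinv y hy
      simpa only [_root_.map_inv, _root_.MulEquiv.toMonoidHom_eq_coe, _root_.MonoidHom.coe_coe, _root_.MulAut.inv_apply, _root_.MulAut.conj_symm_apply] using this
    have heq : C.map (MulAut.conj g⁻¹).toMonoidHom = C :=
      map_conj_le_of_le_normalizer hle
    have hgN : g⁻¹ ∈ normalizer (C : Set Y) := mem_normalizer_iff_map_conj.2 heq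
    have hgN' : g ∈ normalizer (C : Set Y) := by simpa using inv_mem hgN
    exact fun y hy => (mem_normalizer_iff.1 hgN' y).1 hy
  -- the factorization of `C`
  set Q := (P : Subgroup Y) ⊓ C with hQ
  set K₁ := K ⊓ C with hK₁
  have hK₁odd : ¬ 2 ∣ Nat.card K₁ := fun hd' => n.odd (hd'.trans (card_dvd_of_le inf_le_left))
  have hCK : ∀ y ∈ C, ∀ k ∈ K₁, y * k * y⁻¹ ∈ K₁ := by
    intro y hy k hk
    refine mem_inf.2 ⟨n.norm y ?_ k hk.1, mul_mem (mul_mem hy hk.2) (inv_mem hy)⟩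
    exact h.comm_te_iff.1 ((hC y).1 hy).1
  have hCfac : ∀ y ∈ C, ∃ k ∈ K₁, ∃ q ∈ Q, y = k * q := by
    intro y hy
    obtain ⟨h1, h2⟩ := (hC y).1 hy
    obtain ⟨k, hk, p, hp, rfl⟩ := n.gen y (h.comm_te_iff.1 h1)
    have hkt : k * t = t * k := n.le k hk
    have h3 : p * d * p⁻¹ * d⁻¹ = 1 := by
      refine hKP _ ?_ (mul_mem (mul_mem (mul_mem hp (hX hdX)) (inv_mem hp)) (inv_mem (hX hdX)))
      have e1 : p * d * p⁻¹ * d⁻¹ = (k⁻¹ * (d * k * d⁻¹)) := by
        have : k * p * d = d * (k * p) := h2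
        have h4 : p * d * p⁻¹ = k⁻¹ * d * k := by
          calc p * d * p⁻¹ = k⁻¹ * (k * p * d) * p⁻¹ := by group
            _ = k⁻¹ * (d * (k * p)) * p⁻¹ := by rw [this]
            _ = k⁻¹ * d * k := by group
        rw [h4]; group
      rw [e1]
      exact mul_mem (inv_mem hk) (n.norm d (hXt d hdX) k hk)
    have hpC : p ∈ C := by
      rw [hC]
      refine ⟨(h.te_comm hp).symm, ?_⟩
      exact mul_inv_eq_iff_eq_mul.1 (mul_inv_eq_one.1 h3)
    have hkC : k ∈ C := by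
      have : k = (k * p) * p⁻¹ := by group
      rw [this]
      exact mul_mem hy (inv_mem hpC)
    exact ⟨k, mem_inf.2 ⟨hk, hkC⟩, p, mem_inf.2 ⟨hp, hpC⟩, rfl⟩
  have hQi : ¬ 2 ∣ Q.relIndex C := by
    refine not_dvd_relIndex hK₁odd ?_ inf_le_right hCfac
    refine Cfsg.Agent.Walter.OddCoreIn.le_normalizer_iff'.2 ?_
    intro q hq k hk
    exact hCK q hq.2 k hk
  have hQp : IsPGroup 2 Q := P.isPGroup'.to_le inf_le_left
  have hDcC : Dc ≤ C := by
    intro c hc
    rw [hC]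
    exact ⟨(h.comm _ h.te_mem c hc).symm, (h.comm _ hdE c hc).symm⟩
  have hDcQ : Dc ≤ Q := le_inf h.Dc_le hDcC
  obtain ⟨c, hcC, hc⟩ := exists_conj_le_in (p := 2) hQp hQi
    (D := Q.map (MulAut.conj g).toMonoidHom) (by
      rintro _ ⟨q, hq, rfl⟩
      have := hCmap q hq.2
      simpa using this) (hQp.map _)
  have hcg : ∀ q ∈ Q, (c * g) * q * (c * g)⁻¹ ∈ Q := by
    intro q hq
    have h1 : c * (g * q * g⁻¹) * c⁻¹ ∈ Q := hc ⟨_, ⟨q, hq, rfl⟩, by simp⟩
    have e1 : (c * g) * q * (c * g)⁻¹ = c * (g * q * g⁻¹) * c⁻¹ := by group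
    rw [e1]; exact h1
  have hcgDc : ∀ a ∈ Dc, (c * g) * a * (c * g)⁻¹ ∈ Dc := fun a ha =>
    h.conj_Dc (fun b hb => (hcg b (hDcQ hb)).1) ha
  obtain ⟨k, hk, q, hq, rfl⟩ := hCfac c hcC
  -- `q` normalises `Dc`
  intro a haX haDc
  set b := (k * q * g) * a * (k * q * g)⁻¹ with hb
  have hbDc : b ∈ Dc := hcgDc a haDc
  have hgaX : g * a * g⁻¹ ∈ (P : Subgroup Y) := hX (hgX _ haX)
  have h1 : q * (g * a * g⁻¹) * q⁻¹ = k⁻¹ * b * k := by rw [hb]; group
  have h2 : k⁻¹ * b * k * b⁻¹ = 1 := by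
    refine hKP _ ?_ ?_
    · have e1 : k⁻¹ * b * k * b⁻¹ = k⁻¹ * (b * k * b⁻¹) := by group
      rw [e1]
      exact mul_mem (inv_mem hk.1) (hCK b (hDcC hbDc) k hk).1
    · rw [← h1]
      exact mul_mem (mul_mem (mul_mem hq.1 hgaX) (inv_mem hq.1)) (inv_mem (h.Dc_le hbDc))
  have h3 : q * (g * a * g⁻¹) * q⁻¹ = b := by rw [h1]; exact mul_inv_eq_one.1 h2
  have h4 : g * a * g⁻¹ = q⁻¹ * b * q⁻¹⁻¹ := by rw [← h3]; group
  rw [h4]
  exact h.normc _ (inv_mem hq.1) b hbDc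

/-- both subgroups are strongly closed -/
theorem strongly_closed (h : Loc (P : Subgroup Y) DE Dc t e r T) {x g : Y} (hg : g * x * g⁻¹ ∈ (P : Subgroup Y)) :
    (x ∈ DE → g * x * g⁻¹ ∈ DE) ∧ (x ∈ Dc → g * x * g⁻¹ ∈ Dc) := by
  obtain ⟨K, n⟩ := h.exists_nil
  -- normalisers of centric subgroups
  have key : ∀ X : Subgroup Y, X ≤ (P : Subgroup Y) →
      ¬ 2 ∣ ((P : Subgroup Y) ⊓ normalizer (X : Set Y)).relIndex (normalizer (X : Set Y)) →
      centralizer (X : Set Y) ⊓ (P : Subgroup Y) ≤ X → ∀ g ∈ normalizer (X : Set Y),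
      (∀ a ∈ X, (a ∈ DE → g * a * g⁻¹ ∈ DE) ∧ (a ∈ Dc → g * a * g⁻¹ ∈ Dc)) := by
    intro X hX hXi hXc g hg
    have hmap : ∀ D : Subgroup Y, ∀ g ∈ normalizer (X : Set Y), (∀ a ∈ X, a ∈ D → g * a * g⁻¹ ∈ D) →
        g ∈ normalizer ((X ⊓ D : Subgroup Y) : Set Y) := by
      intro D g hg hD
      refine mem_normalizer_iff_map_conj.2 (map_conj_le_of_le_normalizer ?_)
      rintro _ ⟨a, ha, rfl⟩
      have h1 : g * a * g⁻¹ ∈ X ⊓ D := mem_inf.2 ⟨(mem_normalizer_iff.1 hg a).1 ha.1, hD a ha.1 ha.2⟩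
      simpa only [_root_.MulEquiv.toMonoidHom_eq_coe, _root_.MonoidHom.coe_coe, _root_.MulAut.conj_apply, _root_.Subgroup.mem_inf] using h1
    set N := normalizer (X : Set Y) with hN
    let M : Subgroup Y := (normalizer ((X ⊓ DE : Subgroup Y) : Set Y) ⊓ normalizer ((X ⊓ Dc : Subgroup Y) : Set Y)) ⊓ N
    have hM : M.subgroupOf N = ⊤ := by
      refine Cfsg.Agent.SylowG2.Closed.eq_top_of_odd_mem _ ?_ ?_
      · have h1 : (P : Subgroup Y) ⊓ N ≤ M := by
          intro y hy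
          refine mem_inf.2 ⟨mem_inf.2 ⟨?_, ?_⟩, hy.2⟩
          · exact hmap DE y hy.2 fun a _ ha => h.normE y hy.1 a ha
          · exact hmap Dc y hy.2 fun a _ ha => h.normc y hy.1 a ha
        have h2 : M.relIndex N ∣ ((P : Subgroup Y) ⊓ N).relIndex N := relIndex_dvd_of_le_left N h1
        rw [← Nat.not_even_iff_odd, even_iff_two_dvd]
        exact fun hd => hXi (hd.trans h2)
      · intro y hy
        have hy' : Odd (orderOf (y : Y)) := by rwa [Subgroup.orderOf_coe]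
        obtain ⟨h1, h2⟩ := step h n hX hXc y.2 hy'
        rw [mem_subgroupOf]
        exact mem_inf.2 ⟨mem_inf.2 ⟨hmap DE _ y.2 h1, hmap Dc _ y.2 h2⟩, y.2⟩
    have hgM : g ∈ M := by
      have : (⟨g, hg⟩ : N) ∈ M.subgroupOf N := by rw [hM]; exact mem_top _
      exact this
    intro a ha
    constructor
    · intro haD
      exact ((mem_normalizer_iff.1 hgM.1.1 a).1 (mem_inf.2 ⟨ha, haD⟩)).2
    · intro haD
      exact ((mem_normalizer_iff.1 hgM.1.2 a).1 (mem_inf.2 ⟨ha, haD⟩)).2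
  by_cases hxP : x ∈ (P : Subgroup Y)
  swap
  · exact ⟨fun h1 => absurd (h.DE_le h1) hxP, fun h1 => absurd (h.Dc_le h1) hxP⟩
  let F : Subgroup Y → Prop := fun X => ∀ g ∈ normalizer (X : Set Y),
    (∀ a ∈ X, (a ∈ DE → g * a * g⁻¹ ∈ DE) ∧ (a ∈ Dc → g * a * g⁻¹ ∈ Dc))
  have hPi : ¬ 2 ∣ ((P : Subgroup Y) ⊓ normalizer ((P : Subgroup Y) : Set Y)).relIndex
      (normalizer ((P : Subgroup Y) : Set Y)) := by
    rw [inf_eq_left.2 le_normalizer]
    intro hd
    exact P.not_dvd_index (hd.trans (relIndex_dvd_index_of_le le_normalizer))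
  have hgen : Gen (P : Subgroup Y) F (zpowers x) g :=
    gen_of_conj P F (key _ le_rfl hPi inf_le_right) (fun X hX h1 h2 _ => key X hX.le h1 h2) (zpowers_le.2 hxP)
      (zpowers_map_conj_le hg)
  have hfin : ∀ {A : Subgroup Y} {g : Y}, Gen (P : Subgroup Y) F A g →
      ∀ a ∈ A, (a ∈ DE → g * a * g⁻¹ ∈ DE) ∧ (a ∈ Dc → g * a * g⁻¹ ∈ Dc) := by
    intro A g hgen
    induction hgen with
    | cent _ hc =>
      intro a ha
      rw [conj_eq_of_mem_centralizer hc ha]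
      exact ⟨id, id⟩
    | base _ hF hAX hg =>
      intro a ha
      exact hF _ hg a (hAX ha)
    | @mul A g h' _ _ ih1 ih2 =>
      intro a ha
      have e : h' * g * a * (h' * g)⁻¹ = h' * (g * a * g⁻¹) * h'⁻¹ := by group
      rw [e]
      have h1 := ih1 a ha
      have h2 := ih2 _ (conj_mem_map_conj ha g)
      exact ⟨fun h3 => h2.1 (h1.1 h3), fun h3 => h2.2 (h1.2 h3)⟩
  exact hfin hgen x (mem_zpowers x)

theorem strongly_closed_DE (h : Loc (P : Subgroup Y) DE Dc t e r T) :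
    Cfsg.IsStronglyClosed DE (P : Subgroup Y) :=
  ⟨h.DE_le, fun _ hx _ hg => (strongly_closed h hg).1 hx⟩

theorem strongly_closed_Dc (h : Loc (P : Subgroup Y) DE Dc t e r T) :
    Cfsg.IsStronglyClosed Dc (P : Subgroup Y) :=
  ⟨h.Dc_le, fun _ hx _ hg => (strongly_closed h hg).2 hx⟩

end Cfsg.Agent.SylowSp4.CentUClosed
end

-- part: SylowSp4/CentUMain
section
/-!
# The centralizer of an involution of `u`-type: `Dc O(Y)` is normal and centralised by the elements of odd order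

`Prod` is the conclusion of Goldschmidt's product theorem for the strongly closed subgroups `DE`, `Dc`.
-/

set_option autoImplicit false

namespace Cfsg.Agent.SylowSp4.CentUMain

open Subgroup Cfsg.Agent.Lib.GoldschmidtFusion Cfsg.Agent.SylowSp4.CentUNil Cfsg.Agent.SylowSp4.CentULoc
open Cfsg.Agent.SylowSp4.CentUClosed
open Cfsg.Agent.Walter.OddCoreIn
open scoped commutatorElement

section General

variable {Y : Type*} [Group Y] [Finite Y]

theorem oddCore_odd : ¬ 2 ∣ Nat.card (Cfsg.oddCore Y) :=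
  (Nat.Prime.coprime_iff_not_dvd Nat.prime_two).1 (Cfsg.Agent.Lib.Cores.pPrimeCore_coprime 2).symm

/-- an odd order subgroup normalised by a normal subgroup containing it -/
theorem le_oddCore {N D : Subgroup Y} (hN : N.Normal) (hDN : D ≤ N) (hnorm : N ≤ normalizer (D : Set Y))
    (hD : ¬ 2 ∣ Nat.card D) : D ≤ Cfsg.oddCore Y := by
  have h1 : D ≤ OO N := le_OO hDN hnorm hD
  have h2 : OO N = N ⊓ Cfsg.oddCore Y := Cfsg.Agent.Lib.Cores.map_subtype_pPrimeCore 2 hN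
  rw [h2] at h1
  exact h1.trans inf_le_right

/-- Frattini: an element commuting with the 2-element `x` modulo the core is a product of a core element and an element
commuting with `x`. -/
theorem exists_comm {x : Y} (hx : x * x = 1) {y : Y} (hy : y * x * y⁻¹ * x⁻¹ ∈ Cfsg.oddCore Y) :
    ∃ o ∈ Cfsg.oddCore Y, (o * y) * x = x * (o * y) := by
  have hf : Fact (Nat.Prime 2) := ⟨Nat.prime_two⟩
  by_cases hx1 : x = 1
  · exact ⟨1, one_mem _, by rw [hx1]; simp⟩
  set O := Cfsg.oddCore Y with hO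
  have hON : O.Normal := Cfsg.Agent.Lib.Cores.pPrimeCore_normal 2
  have hp : ∀ a : Y, a * a = 1 → IsPGroup 2 (zpowers a) := by
    intro a ha
    rintro ⟨b, hb⟩
    obtain ⟨k, rfl⟩ := mem_zpowers_iff.1 hb
    refine ⟨1, Subtype.ext ?_⟩
    rw [pow_one]
    change (a ^ k) ^ 2 = 1
    rw [← zpow_natCast, ← zpow_mul, mul_comm, zpow_mul, zpow_natCast, pow_two, ha, one_zpow]
  set x' := y * x * y⁻¹ with hx'
  have hx'x' : x' * x' = 1 := by
    calc x' * x' = y * (x * x) * y⁻¹ := by rw [hx']; group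
      _ = 1 := by rw [hx]; group
  have h1 : zpowers x' ⊔ O = zpowers x ⊔ O := by
    have e1 : x' = (x' * x⁻¹) * x := by group
    have e2 : x = (x' * x⁻¹)⁻¹ * x' := by group
    apply le_antisymm
    · refine sup_le ?_ le_sup_right
      rw [zpowers_le, e1]
      exact mul_mem (mem_sup_right hy) (mem_sup_left (mem_zpowers x))
    · refine sup_le ?_ le_sup_right
      rw [zpowers_le, e2]
      exact mul_mem (mem_sup_right (inv_mem hy)) (mem_sup_left (mem_zpowers x'))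
  obtain ⟨o, ho, h2⟩ := Cfsg.Agent.Transfer.ThompsonReduction.exists_conj_of_sup_eq (p := 2) (zpowers x) (zpowers x') O
    (hp x hx) (hp x' hx'x') (Cfsg.Agent.Lib.Cores.pPrimeCore_coprime 2) h1
  refine ⟨o, ho, ?_⟩
  have h3 := (h2 x').1 (mem_zpowers x')
  obtain ⟨k, hk⟩ := mem_zpowers_iff.1 h3
  have h4 : x ^ k = 1 ∨ x ^ k = x := by
    rcases Int.even_or_odd' k with ⟨j, rfl | rfl⟩
    · left
      rw [zpow_mul, zpow_ofNat, pow_two, hx, one_zpow]
    · right
      rw [zpow_add, zpow_mul, zpow_ofNat, pow_two, hx, one_zpow, one_mul, zpow_one]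
  rcases h4 with h4 | h4
  · exfalso
    rw [h4] at hk
    apply hx1
    have : x = (o * y)⁻¹ * (o * x' * o⁻¹) * (o * y) := by rw [hx']; group
    rw [this, ← hk]; group
  · rw [h4] at hk
    have h5 : (o * y) * x * (o * y)⁻¹ = x := by
      refine Eq.trans ?_ hk.symm
      rw [hx']; group
    exact mul_inv_eq_iff_eq_mul.1 h5

end General

section

variable {Y : Type*} [Group Y] [Finite Y] {P : Sylow 2 Y} {DE Dc : Subgroup Y} {t e r : Y} {T : Y → Prop}

/-- The conclusion of the product theorem. -/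
def Prod (DE Dc : Subgroup Y) : Prop :=
  ⁅normalClosure (Dc : Set Y), normalClosure (DE : Set Y)⁆ ≤ Cfsg.oddCore Y

/-- every element commuting with `t e` modulo the core -/
theorem decomp (h : Loc (P : Subgroup Y) DE Dc t e r T) {y : Y}
    (hy : y * (t * e) * y⁻¹ * (t * e)⁻¹ ∈ Cfsg.oddCore Y) : ∃ o ∈ Cfsg.oddCore Y, (o * y) * t = t * (o * y) := by
  obtain ⟨o, ho, h1⟩ := exists_comm h.te_te hy
  exact ⟨o, ho, h.comm_te_iff.1 h1⟩

/-- **`Dc O(Y)` is normal in `Y`.** -/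
theorem conj_mem (h : Loc (P : Subgroup Y) DE Dc t e r T) (hprod : Prod DE Dc) (g : Y) {a : Y} (ha : a ∈ Dc) :
    ∃ b ∈ Dc, ∃ o ∈ Cfsg.oddCore Y, g * a * g⁻¹ = b * o := by
  have hf : Fact (Nat.Prime 2) := ⟨Nat.prime_two⟩
  obtain ⟨K, n⟩ := h.exists_nil
  set O := Cfsg.oddCore Y with hO
  have hON : O.Normal := Cfsg.Agent.Lib.Cores.pPrimeCore_normal 2
  set N := normalClosure (Dc : Set Y) with hN
  have hNn : N.Normal := normalClosure_normal
  have hDcN : Dc ≤ N := le_normalClosure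
  -- `N` commutes with `t e` modulo `O`
  have hNte : ∀ x ∈ N, x * (t * e) * x⁻¹ * (t * e)⁻¹ ∈ O := by
    intro x hx
    have h1 : ⁅x, t * e⁆ ∈ ⁅N, normalClosure (DE : Set Y)⁆ :=
      commutator_mem_commutator hx (le_normalClosure h.te_mem)
    exact hprod h1
  let W : Subgroup Y :=
    { carrier := {y | y * (t * e) * y⁻¹ * (t * e)⁻¹ ∈ O}
      one_mem' := by
        change 1 * (t * e) * 1⁻¹ * (t * e)⁻¹ ∈ O
        rw [one_mul, inv_one, mul_one, mul_inv_cancel]; exact one_mem _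
      mul_mem' := by
        intro a b ha hb
        have e1 : a * b * (t * e) * (a * b)⁻¹ * (t * e)⁻¹ =
            (a * (b * (t * e) * b⁻¹ * (t * e)⁻¹) * a⁻¹) * (a * (t * e) * a⁻¹ * (t * e)⁻¹) := by group
        change a * b * (t * e) * (a * b)⁻¹ * (t * e)⁻¹ ∈ O
        rw [e1]
        exact mul_mem (hON.conj_mem _ hb a) ha
      inv_mem' := by
        intro a ha
        have e1 : a⁻¹ * (t * e) * a⁻¹⁻¹ * (t * e)⁻¹ = a⁻¹ * (a * (t * e) * a⁻¹ * (t * e)⁻¹)⁻¹ * a⁻¹⁻¹ := by group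
        change a⁻¹ * (t * e) * a⁻¹⁻¹ * (t * e)⁻¹ ∈ O
        rw [e1]
        exact hON.conj_mem _ (inv_mem ha) _ }
  have hW : ∀ y, y ∈ W ↔ y * (t * e) * y⁻¹ * (t * e)⁻¹ ∈ O := fun y => Iff.rfl
  have hNW : N ≤ W := fun x hx => hNte x hx
  have hPW : (P : Subgroup Y) ≤ W := by
    intro x hx
    rw [hW, ← h.te_comm hx, mul_inv_cancel_right, mul_inv_cancel]
    exact one_mem _
  have hWdec : ∀ y ∈ W, ∃ o ∈ O, ∃ c : Y, c * t = t * c ∧ y = o * c := by
    intro y hy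
    obtain ⟨o, ho, h1⟩ := decomp h ((hW y).1 hy)
    exact ⟨o⁻¹, inv_mem ho, o * y, h1, by group⟩
  -- `N ∩ (O K) ≤ O`
  have hOK : ¬ 2 ∣ Nat.card (K ⊔ O : Subgroup Y) :=
    not_dvd_sup Nat.prime_two (by
      intro x _
      rw [mem_normalizer_iff]
      intro y
      exact ⟨fun hy => hON.conj_mem y hy x, fun hy => by
        have := hON.conj_mem _ hy x⁻¹
        have e1 : x⁻¹ * (x * y * x⁻¹) * x⁻¹⁻¹ = y := by group
        rwa [e1] at this⟩) n.odd oddCore_odd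
  have hNOK : N ⊓ (K ⊔ O) ≤ O := by
    refine le_oddCore hNn inf_le_left ?_ ?_
    · rw [le_normalizer_iff']
      intro x hx y hy
      refine mem_inf.2 ⟨hNn.conj_mem y hy.1 x, ?_⟩
      obtain ⟨o, ho, c, hc, rfl⟩ := hWdec x (hNW hx)
      have h1 : ∀ y ∈ K ⊔ O, c * y * c⁻¹ ∈ K ⊔ O := by
        have : K ⊔ O ≤ (K ⊔ O).comap (MulAut.conj c).toMonoidHom := by
          refine sup_le ?_ ?_
          · intro y hy
            have : c * y * c⁻¹ ∈ K ⊔ O := mem_sup_left (n.norm c hc y hy)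
            simpa only [_root_.MulEquiv.toMonoidHom_eq_coe, _root_.Subgroup.mem_comap, _root_.MonoidHom.coe_coe, _root_.MulAut.conj_apply] using this
          · intro y hy
            have : c * y * c⁻¹ ∈ K ⊔ O := mem_sup_right (hON.conj_mem y hy c)
            simpa only [_root_.MulEquiv.toMonoidHom_eq_coe, _root_.Subgroup.mem_comap, _root_.MonoidHom.coe_coe, _root_.MulAut.conj_apply] using this
        intro y hy
        have := this hy
        simpa only [_root_.MulEquiv.toMonoidHom_eq_coe, _root_.Subgroup.mem_comap, _root_.MonoidHom.coe_coe, _root_.MulAut.conj_apply] using this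
      have e1 : o * c * y * (o * c)⁻¹ = o * (c * y * c⁻¹) * o⁻¹ := by group
      rw [e1]
      exact mul_mem (mul_mem (mem_sup_right ho) (h1 y hy.2)) (mem_sup_right (inv_mem ho))
    · exact not_dvd_of_le inf_le_right hOK
  -- conjugation inside `W`
  have hPWi : ¬ 2 ∣ (P : Subgroup Y).relIndex W := by
    intro hd
    exact P.not_dvd_index (hd.trans (relIndex_dvd_index_of_le hPW))
  obtain ⟨w, hwW, hw⟩ := exists_conj_le_in (p := 2) P.isPGroup' hPWi (D := Dc.map (MulAut.conj g).toMonoidHom) (by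
      rintro _ ⟨b, hb, rfl⟩
      have : g * b * g⁻¹ ∈ W := hNW (hNn.conj_mem b (hDcN hb) g)
      simpa using this) ((P.isPGroup'.to_le h.Dc_le).map _)
  have hwg : ∀ b ∈ Dc, (w * g) * b * (w * g)⁻¹ ∈ (P : Subgroup Y) := by
    intro b hb
    have h1 : w * (g * b * g⁻¹) * w⁻¹ ∈ (P : Subgroup Y) := hw ⟨_, ⟨b, hb, rfl⟩, by simp⟩
    have e1 : (w * g) * b * (w * g)⁻¹ = w * (g * b * g⁻¹) * w⁻¹ := by group
    rw [e1]; exact h1
  have hb := h.conj_Dc hwg ha
  set b := (w * g) * a * (w * g)⁻¹ with hbdef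
  have hga : g * a * g⁻¹ = w⁻¹ * b * w := by rw [hbdef]; group
  obtain ⟨o, ho, c, hc, rfl⟩ := hWdec w hwW
  obtain ⟨k, hk, p, hp, rfl⟩ := n.gen c hc
  -- `o⁻¹ b o = b o₁`
  have h1 : b⁻¹ * (o⁻¹ * b * o) ∈ O := by
    have e1 : b⁻¹ * (o⁻¹ * b * o) = (b⁻¹ * o⁻¹ * b⁻¹⁻¹) * o := by group
    rw [e1]
    exact mul_mem (hON.conj_mem _ (inv_mem ho) _) ho
  -- `k⁻¹ b k = b o₂`
  have hbt : b * t = t * b := (h.t_comm b (h.Dc_le hb)).symm
  have h2 : b⁻¹ * (k⁻¹ * b * k) ∈ O := by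
    refine hNOK (mem_inf.2 ⟨?_, mem_sup_left ?_⟩)
    · refine mul_mem (inv_mem (hDcN hb)) ?_
      have := hNn.conj_mem b (hDcN hb) k⁻¹
      simpa using this
    · have e1 : b⁻¹ * (k⁻¹ * b * k) = (b⁻¹ * k⁻¹ * b⁻¹⁻¹) * k := by group
      rw [e1]
      refine mul_mem (n.norm b⁻¹ ?_ _ (inv_mem hk)) hk
      rw [inv_mul_eq_iff_eq_mul, ← mul_assoc, hbt, mul_inv_cancel_right]
  refine ⟨p⁻¹ * b * p⁻¹⁻¹, h.normc _ (inv_mem hp) b hb, p⁻¹ * ((b⁻¹ * (k⁻¹ * b * k)) *
    (k⁻¹ * (b⁻¹ * (o⁻¹ * b * o)) * k⁻¹⁻¹)) * p⁻¹⁻¹, ?_, ?_⟩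
  · exact hON.conj_mem _ (mul_mem h2 (hON.conj_mem _ h1 _)) _
  · rw [hga]; group

/-- Frattini argument for `Dc`. -/
theorem exists_normalizer (h : Loc (P : Subgroup Y) DE Dc t e r T) (hprod : Prod DE Dc) (y : Y) :
    ∃ o ∈ Cfsg.oddCore Y, o * y ∈ normalizer (Dc : Set Y) := by
  have hf : Fact (Nat.Prime 2) := ⟨Nat.prime_two⟩
  set O := Cfsg.oddCore Y with hO
  have hON : O.Normal := Cfsg.Agent.Lib.Cores.pPrimeCore_normal 2
  have key : ∀ g : Y, Dc.map (MulAut.conj g).toMonoidHom ≤ Dc ⊔ O := by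
    rintro g _ ⟨a, ha, rfl⟩
    obtain ⟨b, hb, o, ho, h1⟩ := conj_mem h hprod g ha
    have : g * a * g⁻¹ ∈ Dc ⊔ O := by
      rw [h1]
      exact mul_mem (mem_sup_left hb) (mem_sup_right ho)
    simpa only [_root_.MulEquiv.toMonoidHom_eq_coe, _root_.MonoidHom.coe_coe, _root_.MulAut.conj_apply] using this
  have hsup : Dc.map (MulAut.conj y).toMonoidHom ⊔ O = Dc ⊔ O := by
    apply le_antisymm (sup_le (key y) le_sup_right)
    refine sup_le ?_ le_sup_right
    intro a ha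
    obtain ⟨b, hb, o, ho, h1⟩ := conj_mem h hprod y⁻¹ ha
    have e1 : a = (y * b * y⁻¹) * (y * o * y⁻¹) := by
      have : a = y * (y⁻¹ * a * y⁻¹⁻¹) * y⁻¹ := by group
      rw [this, h1]; group
    rw [e1]
    exact mul_mem (mem_sup_left ⟨b, hb, by simp⟩) (mem_sup_right (hON.conj_mem o ho y))
  have hDp : IsPGroup 2 Dc := P.isPGroup'.to_le h.Dc_le
  obtain ⟨o, ho, h2⟩ := Cfsg.Agent.Transfer.ThompsonReduction.exists_conj_of_sup_eq (p := 2) Dc
    (Dc.map (MulAut.conj y).toMonoidHom) O hDp (hDp.map _) (Cfsg.Agent.Lib.Cores.pPrimeCore_coprime 2) hsup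
  refine ⟨o, ho, mem_normalizer_iff_map_conj.2 (map_conj_le_of_le_normalizer ?_)⟩
  rintro _ ⟨a, ha, rfl⟩
  have h3 := (h2 (y * a * y⁻¹)).1 ⟨a, ha, by simp⟩
  have e1 : o * y * a * (o * y)⁻¹ = o * (y * a * y⁻¹) * o⁻¹ := by group
  have h4 : o * y * a * (o * y)⁻¹ ∈ Dc := by rw [e1]; exact h3
  exact h4

omit [Finite Y] in
/-- an odd-order element normalising `Dc` centralises it -/
theorem centralizes (h : Loc (P : Subgroup Y) DE Dc t e r T) {g : Y} (hg : g ∈ normalizer (Dc : Set Y))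
    (ho : Odd (orderOf g)) : g ∈ centralizer (Dc : Set Y) := by
  have hgD : ∀ a ∈ Dc, g * a * g⁻¹ ∈ Dc := fun a ha => (mem_normalizer_iff.1 hg a).1 ha
  have h2 : ∀ a ∈ Dc, ∃ k : ℕ, a ^ 2 ^ k = 1 := by
    intro a ha
    obtain ⟨k, hk⟩ := P.isPGroup' ⟨a, h.Dc_le ha⟩
    exact ⟨k, by simpa only [_root_.SubmonoidClass.mk_pow, _root_.OneMemClass.coe_one] using congrArg Subtype.val hk⟩
  have hconj2 : ∀ a, (g * a * g⁻¹) * (g * a * g⁻¹) = g * (a * a) * g⁻¹ := fun a => by group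
  have hge : g * e * g⁻¹ = e := h.conj_e g
  -- the cyclic part
  have c1 : ∀ m : ℕ, ∀ a ∈ Dc, a ^ 2 ^ m = 1 → (a * a ≠ 1 ∨ a = 1 ∨ a = e) → g * a * g⁻¹ = a := by
    intro m
    induction m with
    | zero =>
      intro a _ ha _
      rw [pow_zero, pow_one] at ha
      rw [ha]; group
    | succ m ih =>
      intro a haD ha hcase
      rcases hcase with haa | rfl | rfl
      · have hsq : g * (a * a) * g⁻¹ = a * a := by
          refine ih (a * a) (mul_mem haD haD) ?_ ?_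
          · rw [← pow_two, ← pow_mul, ← pow_succ', ha]
          · by_cases h4 : (a * a) * (a * a) = 1
            · right
              exact h.c_inv a haD haa (a * a) (mul_mem haD haD) h4 (mul_assoc a a a)
            · exact Or.inl h4
        set b := g * a * g⁻¹ with hb
        have hbD : b ∈ Dc := hgD a haD
        have hbb : b * b = a * a := by rw [hb, hconj2, hsq]
        have hcom : a * b = b * a := h.c_comm a haD haa b hbD (by rw [hbb]; exact haa)
        have hw : (a⁻¹ * b) * (a⁻¹ * b) = 1 := by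
          have e0 : b * a⁻¹ = a⁻¹ * b := by
            rw [eq_inv_mul_iff_mul_eq, ← mul_assoc, hcom, mul_inv_cancel_right]
          calc (a⁻¹ * b) * (a⁻¹ * b) = a⁻¹ * (b * a⁻¹) * b := by group
            _ = a⁻¹ * (a⁻¹ * b) * b := by rw [e0]
            _ = (a * a)⁻¹ * (b * b) := by group
            _ = 1 := by rw [hbb, inv_mul_cancel]
        have hwa : (a⁻¹ * b) * a = a * (a⁻¹ * b) := by
          rw [mul_assoc, ← hcom]; group
        have hwc := h.c_inv a haD haa (a⁻¹ * b) (mul_mem (inv_mem haD) hbD) hw hwa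
        have hgw : g * (a⁻¹ * b) * g⁻¹ = a⁻¹ * b := by
          rcases hwc with h5 | h5
          · rw [h5]; group
          · rw [h5, hge]
        have h6 := eq_one_of_shift (g := g) (x := a) (w := a⁻¹ * b) ho (by rw [← hb]; group) hgw ⟨1, by
          rw [pow_one, pow_two]; exact hw⟩
        exact (eq_of_inv_mul_eq_one h6).symm
      · group
      · exact hge
  -- the involutions
  have c2 : ∀ w ∈ Dc, w * w = 1 → w ≠ 1 → w ≠ e → g * w * g⁻¹ = w := by
    intro w hw hww hw1 hwe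
    set w' := g * w * g⁻¹ with hw'
    have hw'D := hgD w hw
    have hw'w' : w' * w' = 1 := by rw [hw', hconj2, hww]; group
    have hw'1 : w' ≠ 1 := by
      intro h1
      apply hw1
      have : w = g⁻¹ * w' * g := by rw [hw']; group
      rw [this, h1]; group
    have hw'e : w' ≠ e := by
      intro h1
      apply hwe
      have : w = g⁻¹ * w' * g⁻¹⁻¹ := by rw [hw']; group
      rw [this, h1, h.conj_e]
    have h3 := h.c_prod w hw w' hw'D ⟨hww, hw1, hwe⟩ ⟨hw'w', hw'1, hw'e⟩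
    have hcD : w * w' ∈ Dc := mul_mem hw hw'D
    obtain ⟨m, hm⟩ := h2 _ hcD
    have h4 : g * (w * w') * g⁻¹ = w * w' := by
      refine c1 m _ hcD hm ?_
      rcases h3 with h3 | h3 | h3
      · exact Or.inr (Or.inl h3)
      · exact Or.inr (Or.inr h3)
      · exact Or.inl h3
    have h5 : g * w * g⁻¹ = w * (w * w') := by
      rw [← mul_assoc, hww, one_mul]
    have h6 := eq_one_of_shift ho h5 h4 ⟨m, hm⟩
    exact h5.trans (by rw [h6, mul_one])
  rw [mem_centralizer_iff]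
  intro a ha
  refine (mul_inv_eq_iff_eq_mul.1 ?_).symm
  by_cases haa : a * a = 1
  · by_cases ha1 : a = 1
    · rw [ha1]; group
    by_cases hae : a = e
    · rw [hae]; exact hge
    exact c2 a ha haa ha1 hae
  · obtain ⟨m, hm⟩ := h2 a ha
    exact c1 m a ha hm (Or.inl haa)

/-- `Y = O(Y) C(Dc) P` -/
theorem gen (h : Loc (P : Subgroup Y) DE Dc t e r T) (hprod : Prod DE Dc) (y : Y) :
    ∃ o ∈ Cfsg.oddCore Y, ∃ c ∈ centralizer (Dc : Set Y), ∃ s ∈ (P : Subgroup Y), y = o * c * s := by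
  have hf : Fact (Nat.Prime 2) := ⟨Nat.prime_two⟩
  obtain ⟨o, ho, h1⟩ := exists_normalizer h hprod y
  have hPN : (P : Subgroup Y) ≤ normalizer (Dc : Set Y) := le_normalizer_iff'.2 fun s hs a ha => h.normc s hs a ha
  obtain ⟨s, hs, c, hc, h2⟩ := exists_mul_of_pGroup_automizer P (B := Dc) (by
      rw [inf_eq_left.2 hPN]
      intro hd
      exact P.not_dvd_index (hd.trans (relIndex_dvd_index_of_le hPN)))
    (fun g hg hg2 => centralizes h hg (odd_of_coprime hg2)) h1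
  refine ⟨o⁻¹, inv_mem ho, s * c * s⁻¹, ?_, s, hs.1, ?_⟩
  · rw [mem_centralizer_iff]
    intro a ha
    have h3 : s⁻¹ * a * s⁻¹⁻¹ ∈ Dc := h.normc s⁻¹ (inv_mem hs.1) a ha
    have h4 := mem_centralizer_iff.1 hc _ h3
    calc a * (s * c * s⁻¹) = s * ((s⁻¹ * a * s⁻¹⁻¹) * c) * s⁻¹ := by group
      _ = s * (c * (s⁻¹ * a * s⁻¹⁻¹)) * s⁻¹ := by rw [h4]
      _ = s * c * s⁻¹ * a := by group
  · have h3 : y = o⁻¹ * (o * y) := by group
    rw [h3, h2]; group

/-- The centraliser of `Dc` modulo the core. -/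
def C0 (Dc : Subgroup Y) : Subgroup Y :=
  (centralizer ((Dc.map (QuotientGroup.mk' (Cfsg.oddCore Y)) : Subgroup (Y ⧸ Cfsg.oddCore Y)) :
    Set (Y ⧸ Cfsg.oddCore Y))).comap (QuotientGroup.mk' (Cfsg.oddCore Y))

omit [Finite Y] in
theorem mem_C0 {Dc : Subgroup Y} {y : Y} : y ∈ C0 Dc ↔ ∀ a ∈ Dc, y * a * y⁻¹ * a⁻¹ ∈ Cfsg.oddCore Y := by
  have key : ∀ a : Y, (QuotientGroup.mk' (Cfsg.oddCore Y) a * QuotientGroup.mk' (Cfsg.oddCore Y) y =
      QuotientGroup.mk' (Cfsg.oddCore Y) y * QuotientGroup.mk' (Cfsg.oddCore Y) a) ↔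
      y * a * y⁻¹ * a⁻¹ ∈ Cfsg.oddCore Y := by
    intro a
    have h0 : y * a * y⁻¹ * a⁻¹ ∈ Cfsg.oddCore Y ↔ QuotientGroup.mk' (Cfsg.oddCore Y) (y * a * y⁻¹ * a⁻¹) = 1 := by
      rw [← MonoidHom.mem_ker, QuotientGroup.ker_mk']
    rw [h0, map_mul, map_mul, map_mul, map_inv, map_inv, mul_inv_eq_one, mul_inv_eq_iff_eq_mul]
    exact eq_comm
  rw [C0, mem_comap, mem_centralizer_iff]
  constructor
  · intro h1 a ha
    exact (key a).1 (h1 _ ⟨a, ha, rfl⟩)
  · rintro h1 _ ⟨a, ha, rfl⟩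
    exact (key a).2 (h1 a ha)

theorem C0_normal (h : Loc (P : Subgroup Y) DE Dc t e r T) (hprod : Prod DE Dc) : (C0 Dc).Normal := by
  have hON : (Cfsg.oddCore Y).Normal := Cfsg.Agent.Lib.Cores.pPrimeCore_normal 2
  refine ⟨fun x hx g => ?_⟩
  rw [mem_C0] at hx ⊢
  intro a ha
  obtain ⟨b, hb, o, ho, h1⟩ := conj_mem h hprod g⁻¹ ha
  -- `g⁻¹ a g = b o`
  have h2 := hx b hb
  have h3 : a = g * (b * o) * g⁻¹ := by rw [← h1]; group
  have e1 : g * x * g⁻¹ * a * (g * x * g⁻¹)⁻¹ * a⁻¹ =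
      g * ((x * b * x⁻¹ * b⁻¹) * (b * (x * o * x⁻¹) * b⁻¹) * (b * o⁻¹ * b⁻¹)) * g⁻¹ := by
    rw [h3]; group
  rw [e1]
  exact hON.conj_mem _ (mul_mem (mul_mem h2 (hON.conj_mem _ (hON.conj_mem _ ho _) _))
    (hON.conj_mem _ (inv_mem ho) _)) _

/-- **(star)** elements of odd order centralise `Dc` modulo the core -/
theorem star (h : Loc (P : Subgroup Y) DE Dc t e r T) (hprod : Prod DE Dc) {y : Y} (hy : Odd (orderOf y)) :
    y ∈ C0 Dc := by
  have hf : Fact (Nat.Prime 2) := ⟨Nat.prime_two⟩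
  have hON : (Cfsg.oddCore Y).Normal := Cfsg.Agent.Lib.Cores.pPrimeCore_normal 2
  have hn := C0_normal h hprod
  have hOC : ∀ o ∈ Cfsg.oddCore Y, o ∈ C0 Dc := by
    intro o ho
    rw [mem_C0]
    intro a _
    have e1 : o * a * o⁻¹ * a⁻¹ = o * (a * o⁻¹ * a⁻¹) := by group
    rw [e1]
    exact mul_mem ho (hON.conj_mem _ (inv_mem ho) a)
  have hcC : ∀ c ∈ centralizer (Dc : Set Y), c ∈ C0 Dc := by
    intro c hc
    rw [mem_C0]
    intro a ha
    rw [← mem_centralizer_iff.1 hc a ha, mul_inv_cancel_right, mul_inv_cancel]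
    exact one_mem _
  have hp : IsPGroup 2 (Y ⧸ C0 Dc) := by
    intro q
    obtain ⟨y, rfl⟩ := QuotientGroup.mk_surjective q
    obtain ⟨o, ho, c, hc, s, hs, rfl⟩ := gen h hprod y
    obtain ⟨k, hk⟩ := P.isPGroup' ⟨s, hs⟩
    refine ⟨k, ?_⟩
    have h1 : ((o * c * s : Y) : Y ⧸ C0 Dc) = (s : Y ⧸ C0 Dc) := by
      rw [QuotientGroup.mk_mul, (QuotientGroup.eq_one_iff _).2 (mul_mem (hOC o ho) (hcC c hc)), one_mul]
    rw [h1, ← QuotientGroup.mk_pow]
    have h2 : s ^ 2 ^ k = 1 := by simpa only [_root_.SubmonoidClass.mk_pow, _root_.OneMemClass.coe_one] using congrArg Subtype.val hk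
    rw [h2, QuotientGroup.mk_one]
  have h1 := Cfsg.Agent.Transfer.NormalPComplement.map_eq_one_of_coprime hp (QuotientGroup.mk' (C0 Dc)) (g := y)
    (Nat.coprime_two_right.2 hy)
  rw [← MonoidHom.mem_ker, QuotientGroup.ker_mk'] at h1
  exact h1

/-- cores of centralisers of involutions of `Dc` lie in the core -/
theorem core_le (h : Loc (P : Subgroup Y) DE Dc t e r T) (hprod : Prod DE Dc) {w : Y} (hw : w ∈ Dc) (hww : w * w = 1)
    {D : Subgroup Y} (hD : ¬ 2 ∣ Nat.card D)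
    (hnorm : ∀ c : Y, c * w = w * c → ∀ x ∈ D, c * x * c⁻¹ ∈ D) : D ≤ Cfsg.oddCore Y := by
  have hON : (Cfsg.oddCore Y).Normal := Cfsg.Agent.Lib.Cores.pPrimeCore_normal 2
  have hn := C0_normal h hprod
  have hDC : D ≤ C0 Dc := by
    intro x hx
    refine star h hprod ?_
    rw [← Nat.not_even_iff_odd, even_iff_two_dvd]
    intro h2
    apply hD
    have := orderOf_dvd_natCard (⟨x, hx⟩ : D)
    rw [orderOf_mk] at this
    exact h2.trans this
  have hOC : Cfsg.oddCore Y ≤ C0 Dc := by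
    intro o ho
    rw [mem_C0]
    intro a _
    have e1 : o * a * o⁻¹ * a⁻¹ = o * (a * o⁻¹ * a⁻¹) := by group
    rw [e1]
    exact mul_mem ho (hON.conj_mem _ (inv_mem ho) a)
  have hle : D ⊔ Cfsg.oddCore Y ≤ Cfsg.oddCore Y := by
    refine le_oddCore hn (sup_le hDC hOC) ?_ ?_
    · rw [le_normalizer_iff']
      intro y hy x hx
      obtain ⟨o, ho, h1⟩ := exists_comm hww (mem_C0.1 hy w hw)
      -- `y = o⁻¹ c`
      have h2 : D ⊔ Cfsg.oddCore Y ≤ (D ⊔ Cfsg.oddCore Y).comap (MulAut.conj (o * y)).toMonoidHom := by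
        refine sup_le ?_ ?_
        · intro z hz
          have : (o * y) * z * (o * y)⁻¹ ∈ D ⊔ Cfsg.oddCore Y := mem_sup_left (hnorm _ h1 z hz)
          exact this
        · intro z hz
          have : (o * y) * z * (o * y)⁻¹ ∈ D ⊔ Cfsg.oddCore Y := mem_sup_right (hON.conj_mem z hz _)
          exact this
      have h3 : (o * y) * x * (o * y)⁻¹ ∈ D ⊔ Cfsg.oddCore Y := by
        exact h2 hx
      have e1 : y * x * y⁻¹ = o⁻¹ * ((o * y) * x * (o * y)⁻¹) * o := by group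
      rw [e1]
      exact mul_mem (mul_mem (mem_sup_right (inv_mem ho)) h3) (mem_sup_right ho)
    · refine not_dvd_sup Nat.prime_two ?_ hD oddCore_odd
      exact le_normalizer_iff'.2 fun x _ o ho => hON.conj_mem o ho x
  exact le_sup_left.trans hle

end

end Cfsg.Agent.SylowSp4.CentUMain
end

-- part: SylowSp4/CentUInst
section
/-!
# The centralizer of an involution of `u`-type: the local configuration of `C(e)`

`PY p` : a Sylow 2-subgroup of `C(e)` with underlying subgroup `P ∩ C(e)`; `loc p` : the configuration of `CentULoc`.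
-/

set_option autoImplicit false

namespace Cfsg.Agent.SylowSp4.CentUInst

open QuaternionGroup Cfsg.Agent.SylowSp4.Coord Cfsg.Agent.SylowSp4.Facts Cfsg.Agent.SylowSp4.Pat Subgroup
open Cfsg.Agent.Walter.OddCoreIn Cfsg.Agent.SylowSp4.Pairs Cfsg.Agent.SylowSp4.CentUCoord
open Cfsg.Agent.SylowSp4.CentULoc

section Sylow

variable {G : Type*} [Group G] {S : Subgroup G} {k : ℕ} {f : Q k → Q k → G} {s : G} (h : TSp S k f s)

include h

theorem ee_sq : ee f * ee f = 1 := by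
  rw [h.f_mul, c_sq h.hk, h.f_zz]

theorem conj_e_cases {b : G} (hb : b ∈ S) : b * ee f = ee f * b ∨ b * ee f = (tt f * ee f) * b := by
  have key : ∀ α : Q k, α * c k = c k * α ∨ α * c k = z k * (c k * α) := by
    rintro (i | j)
    · left; rw [c_def, a_comm_a]
    · right; exact xa_c h.hk j
  have key2 : ∀ α β : Q k, f α β * ee f = ee f * f α β ∨ f α β * ee f = (tt f * ee f) * f α β := by
    intro α β
    have e1 : tt f * ee f * f α β = f (z k * (c k * α)) (c k * β) := by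
      rw [h.f_mul, h.f_mul, one_mul, mul_assoc]
    rw [e1, h.f_mul, h.f_mul]
    rcases key α with h1 | h1 <;> rcases key β with h2 | h2 <;> rw [h1, h2]
    · exact Or.inl rfl
    · right; rw [f_congr_z h]
    · exact Or.inr rfl
    · left; rw [h.f_z_mul]
  rcases (h.mem_iff b).1 hb with ⟨α, β, rfl⟩ | ⟨α, β, rfl⟩
  · exact key2 α β
  · have e1 : f α β * s * ee f = f α β * ee f * s := by
      rw [mul_assoc, h.s_f, ← mul_assoc]
    rw [e1, ← mul_assoc, ← mul_assoc, mul_left_inj, mul_left_inj]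
    exact key2 α β

theorem y0_e : f (xa 0) 1 * ee f = (tt f * ee f) * f (xa 0) 1 := by
  rw [h.f_mul, h.f_mul, h.f_mul, one_mul, mul_one, xa_c h.hk, mul_assoc]

theorem te_ne_one : tt f * ee f ≠ 1 := by
  intro h1
  rw [te_eq h, A_eq_one_iff h, two_qq h.hk] at h1
  exact z_ne_one (k := k) (by rw [z_def, h1, one_def])

theorem t_sq' : tt f * tt f = 1 := by rw [h.f_mul, z_mul_z, one_mul, h.f_one]

theorem te_mul_t : tt f * ee f * ee f = tt f := by rw [mul_assoc, ee_sq h, mul_one]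

theorem relIndex_e : (S ⊓ Cn (ee f)).relIndex S = 2 := by
  rw [relIndex_eq_two_iff]
  refine ⟨f (xa 0) 1, h.f_mem _ _, fun b hb => ?_⟩
  have ht : ∀ x ∈ S, tt f * x = x * tt f := fun x hx => h.t_comm hx
  have hy := y0_e h
  have hte : tt f * ee f ≠ ee f := by
    intro h1
    exact h.t_ne_one (mul_eq_right.1 h1)
  have hm : ∀ x ∈ S, x ∈ S ⊓ Cn (ee f) ↔ x * ee f = ee f * x := fun x hx => by
    rw [mem_inf, mem_Cn]
    exact ⟨fun h1 => h1.2, fun h1 => ⟨hx, h1⟩⟩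
  rw [hm b hb, hm _ (mul_mem hb (h.f_mem _ _))]
  have h2 : b * f (xa 0) 1 * ee f = tt f * (b * ee f) * f (xa 0) 1 := by
    rw [mul_assoc, hy]
    calc b * (tt f * ee f * f (xa 0) 1) = (b * tt f) * ee f * f (xa 0) 1 := by group
      _ = _ := by rw [← ht b hb]; group
  rw [h2]
  rcases conj_e_cases h hb with h1 | h1 <;> rw [h1]
  · right
    refine ⟨rfl, fun h3 => hte ?_⟩
    have h4 : tt f * ee f * (b * f (xa 0) 1) = ee f * (b * f (xa 0) 1) := by
      rw [← h3]; group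
    exact mul_right_cancel h4
  · left
    refine ⟨?_, fun h3 => hte (mul_right_cancel h3)⟩
    calc tt f * (tt f * ee f * b) * f (xa 0) 1 = (tt f * tt f) * ee f * b * f (xa 0) 1 := by group
      _ = _ := by rw [t_sq' h]; group

/-- involutions of the centre -/
theorem center_inv {x : G} (hx : x ∈ S) (hxc : ∀ y ∈ S, x * y = y * x) (hxx : x * x = 1) : x = 1 ∨ x = tt f := by
  have hte : tt f * ee f ≠ ee f := by
    intro h1
    exact h.t_ne_one (mul_eq_right.1 h1)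
  have hy := y0_e h
  have hyS : f (xa 0) 1 ∈ S := h.f_mem _ _
  rcases CentUCoord.inv h hx (hxc _ (h.f_mem _ _)) (hxc _ (h.f_mem _ _)) hxx with h1 | h1 | h1 | h1
  · exact Or.inl h1
  · exact Or.inr h1
  · exfalso
    have h2 := hxc _ hyS
    rw [h1] at h2
    exact hte (mul_right_cancel (hy.symm.trans h2.symm))
  · exfalso
    have h2 := hxc _ hyS
    rw [h1] at h2
    have h3 : f (xa 0) 1 * (tt f * ee f) = ee f * f (xa 0) 1 := by
      calc f (xa 0) 1 * (tt f * ee f) = (f (xa 0) 1 * tt f) * ee f := by group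
        _ = tt f * (f (xa 0) 1 * ee f) := by rw [← h.t_comm hyS]; group
        _ = (tt f * tt f) * ee f * f (xa 0) 1 := by rw [hy]; group
        _ = _ := by rw [t_sq' h, one_mul]
    exact hte (mul_right_cancel (h2.trans h3))

end Sylow

variable {G : Type*} [Group G] {P : Sylow 2 G} {k : ℕ} {f : Q k → Q k → G} {s : G} (p : Pat P k f s)

include p

/-- `P ∩ C(e)` is a Sylow 2-subgroup of `C(e)`. -/
theorem exists_PY [Finite G] : ∃ R : Sylow 2 (Cn (ee f)), (R : Subgroup (Cn (ee f))) = (P : Subgroup G).subgroupOf (Cn (ee f)) := by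
  have hf : Fact (Nat.Prime 2) := ⟨Nat.prime_two⟩
  have h := p.h
  set E := Cn (ee f) with hE
  have hX : IsPGroup 2 ((P : Subgroup G).subgroupOf E) := P.isPGroup'.comap_of_injective E.subtype E.subtype_injective
  obtain ⟨R, hR⟩ := hX.exists_le_sylow
  refine ⟨R, le_antisymm ?_ hR⟩
  by_contra hcon
  -- `R` is a Sylow 2-subgroup of `G`
  set R' : Subgroup G := (R : Subgroup E).map E.subtype with hR'
  have hR'p : IsPGroup 2 R' := R.isPGroup'.map _
  have hXR : (P : Subgroup G) ⊓ E ≤ R' := by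
    intro x hx
    exact ⟨⟨x, hx.2⟩, hR (mem_subgroupOf.2 hx.1), rfl⟩
  obtain ⟨g, hg⟩ := hR'p.exists_le_sylow
  have hcardR : Nat.card R' = Nat.card R := card_map_of_injective (subtype_injective _)
  have hlt : ((P : Subgroup G) ⊓ E) < R' := by
    refine lt_of_le_of_ne hXR fun h1 => hcon ?_
    intro x hx
    have h2 : (x : G) ∈ R' := ⟨x, hx, rfl⟩
    rw [← h1] at h2
    exact mem_subgroupOf.2 h2.1
  have hcard : Nat.card ((P : Subgroup G) ⊓ E : Subgroup G) * 2 = Nat.card (P : Subgroup G) := by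
    have h1 := relIndex_mul_relIndex (⊥ : Subgroup G) ((P : Subgroup G) ⊓ E) (P : Subgroup G) bot_le inf_le_left
    rw [relIndex_bot_left, relIndex_bot_left, relIndex_e h] at h1
    exact h1
  have hge : Nat.card (P : Subgroup G) ≤ Nat.card R' := by
    obtain ⟨m, hm⟩ := Subgroup.card_dvd_of_le hlt.le
    have h1 : Nat.card ((P : Subgroup G) ⊓ E : Subgroup G) ≠ Nat.card R' := by
      intro h2
      exact hlt.ne (Subgroup.eq_of_le_of_card_ge hlt.le h2.ge)
    have hpos : 0 < Nat.card ((P : Subgroup G) ⊓ E : Subgroup G) := Nat.card_pos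
    have hm2 : 2 ≤ m := by
      by_contra hm1
      have : m = 0 ∨ m = 1 := by omega
      rcases this with rfl | rfl
      · rw [mul_zero] at hm
        have : 0 < Nat.card R' := Nat.card_pos
        omega
      · rw [mul_one] at hm
        exact h1 hm.symm
    rw [← hcard, hm]
    exact Nat.mul_le_mul_left _ hm2
  have hgR : R' = (g : Subgroup G) := by
    refine Subgroup.eq_of_le_of_card_ge hg ?_
    have h1 : Nat.card (g : Subgroup G) = Nat.card (P : Subgroup G) := Nat.card_congr (g.equiv P).toEquiv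
    rw [h1]; exact hge
  obtain ⟨x, hx⟩ := MulAction.exists_smul_eq G g P
  have hxg : ∀ y ∈ R', x * y * x⁻¹ ∈ (P : Subgroup G) := by
    intro y hy
    rw [hgR] at hy
    have := Subgroup.smul_mem_pointwise_smul _ (MulAut.conj x) _ hy
    rw [← hx, Sylow.coe_subgroup_smul]
    simpa only [_root_.MulAut.smul_def, _root_.MulAut.conj_apply] using this
  have hxg' : ∀ y ∈ (P : Subgroup G), x⁻¹ * y * x ∈ R' := by
    intro y hy
    rw [← hx, Sylow.coe_subgroup_smul, mem_pointwise_smul_iff_inv_smul_mem] at hy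
    rw [hgR]
    have : (MulAut.conj x)⁻¹ • y = x⁻¹ * y * x := by
      rw [← map_inv]; simp
    rwa [this] at hy
  have heP : ee f ∈ (P : Subgroup G) := h.f_mem _ _
  have heR : ee f ∈ R' := hXR ⟨heP, mem_Cn.2 rfl⟩
  have h1 := center_inv h (hxg _ heR) (by
    intro y hy
    obtain ⟨w, -, hw⟩ := hxg' y hy
    have h2 : (w : G) * ee f = ee f * w := mem_Cn.1 w.2
    have h3 : x⁻¹ * y * x * ee f = ee f * (x⁻¹ * y * x) := by
      rw [← hw]; exact h2
    calc x * ee f * x⁻¹ * y = x * (ee f * (x⁻¹ * y * x)) * x⁻¹ := by group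
      _ = x * (x⁻¹ * y * x * ee f) * x⁻¹ := by rw [h3]
      _ = _ := by group) (by
    calc x * ee f * x⁻¹ * (x * ee f * x⁻¹) = x * (ee f * ee f) * x⁻¹ := by group
      _ = 1 := by rw [ee_sq h]; group)
  rcases h1 with h1 | h1
  · have h2 : ee f = 1 := by
      have : ee f = x⁻¹ * (x * ee f * x⁻¹) * x := by group
      rw [this, h1]; group
    have h3 : f (c k) (c k) ≠ 1 := by
      rw [← h.f_one, Ne, h.f_eq_iff]
      rintro (⟨h3, -⟩ | ⟨h3, -⟩)
      · exact ne_one_of_sq_z (c_sq h.hk) h3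
      · rw [mul_one] at h3
        exact ne_z_of_sq_z (c_sq h.hk) h3
    exact h3 h2
  · exact p.tu (isConj_iff.2 ⟨x, h1⟩).symm

/-! ### Types of the involutions -/

/-- `B i` is of `u`-type. -/
theorem B_u (i : ZMod (2 * 2 ^ k)) : IsConj (ee f) (B f s i) := by
  have h1 := p.u_conj' (z k * a i)
  have h2 : f (z k * (z k * a i)) (z k * a i)⁻¹ * s = B f s i := by
    rw [B, zz_mul, z_mul_a, a_inv]
    rw [a_congr (show -(hh k + i) = hh k - i by linear_combination -hh_add (k := k))]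
  rwa [h2] at h1

/-- `A i s` -/
theorem A_t (i : ZMod (2 * 2 ^ k)) : IsConj (tt f) (f (a i) (a (-i)) * s) := by
  have h1 := p.t_conj (a i)
  rwa [a_inv] at h1

theorem D_t (i : ZMod (2 * 2 ^ k)) : IsConj (tt f) (D f s i) := by
  have h1 := p.t_conj (xa i)
  rw [xa_inv] at h1
  exact h1

theorem D_e (i : ZMod (2 * 2 ^ k)) : D f s i * ee f = D f s (i + qq k) := D_mul_C p.h i (qq k)

theorem B_e (i : ZMod (2 * 2 ^ k)) : B f s i * ee f = f (a (i + qq k)) (a (-(i + qq k))) * s := by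
  rw [B, p.h.fs_mul_f, c_def, a_mul_a, a_mul_a,
    a_congr (show hh k - i + qq k = -(i + qq k) by linear_combination two_qq p.h.hk + hh_add (k := k))]

theorem te_u : IsConj (ee f) (tt f * ee f) := by
  have h1 := p.u_conj (c k) (z k * c k) (c_sq p.h.hk) (mul_sq_z (c_sq p.h.hk))
  rwa [← t_mul p.h] at h1

theorem not_t_of_u {x : G} (hx : IsConj (ee f) x) : ¬ IsConj (tt f) x := fun h1 => p.tu (h1.trans hx.symm)

/-- `(y z, y⁻¹) s` commuting with `e`: product with `e` is of `u`-type. -/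
theorem DD_e (i : ZMod (2 * 2 ^ k)) : IsConj (ee f) (f (z k * xa i) (xa i)⁻¹ * s * ee f) := by
  have h1 := p.u_conj' (xa (i + qq k))
  have h2 : f (z k * xa (i + qq k)) (xa (i + qq k))⁻¹ * s = f (z k * xa i) (xa i)⁻¹ * s * ee f := by
    rw [p.h.fs_mul_f, xa_inv, xa_inv, c_def, z_mul_xa, z_mul_xa, xa_mul_a,
      xa_congr (show i + qq k + hh k = i + hh k + qq k by ring)]
  rwa [h2] at h1

theorem tT_e (i : ZMod (2 * 2 ^ k)) : IsConj (ee f) (f (a i) (a i)⁻¹ * s * ee f) := by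
  have h1 := p.u_conj' (a (i + qq k))
  have h2 : f (z k * a (i + qq k)) (a (i + qq k))⁻¹ * s = f (a i) (a i)⁻¹ * s * ee f := by
    rw [p.h.fs_mul_f, a_inv, a_inv, c_def, z_mul_a, a_mul_a, a_mul_a, ← p.h.f_z_mul, z_mul_a, z_mul_a]
    have H := hh_add (k := k)
    have H2 := two_qq p.h.hk
    rw [a_congr (show hh k + (hh k + (i + qq k)) = i + qq k by linear_combination H),
      a_congr (show hh k + -(i + qq k) = -i + qq k by linear_combination -H2)]
  rwa [h2] at h1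

/-! ### The four class conditions -/

omit p in
theorem conj_mul_e {g x : G} (hg : g * ee f = ee f * g) : g * x * g⁻¹ * ee f = g * (x * ee f) * g⁻¹ := by
  calc g * x * g⁻¹ * ee f = g * x * (g⁻¹ * (ee f * g)) * g⁻¹ := by group
    _ = g * x * (g⁻¹ * (g * ee f)) * g⁻¹ := by rw [hg]
    _ = _ := by group

theorem cIII {d : G} (hd : d ∈ P) (hde : d * ee f = ee f * d) (hdd : d * d = 1) (h1 : ¬ IsConj (tt f) d)
    (h2 : IsConj (tt f) (d * ee f)) : d ∈ DE p.h := by
  have h := p.h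
  rcases Facts.inv_cases h hd hdd with h3 | h3 | ⟨α, β, hα, hβ, h3⟩ | ⟨α, h3⟩ | ⟨α, h3⟩
  · rw [h3]; exact one_mem _
  · exact absurd (by rw [h3]) h1
  · have h4 : d * ee f ∈ (P : Subgroup G) := mul_mem hd (h.f_mem _ _)
    have h5 : (d * ee f) * (d * ee f) = 1 := by
      calc (d * ee f) * (d * ee f) = d * (ee f * d) * ee f := by group
        _ = (d * d) * (ee f * ee f) := by rw [← hde]; group
        _ = 1 := by rw [hdd, ee_sq h, one_mul]
    have h6 : d * ee f ≠ 1 := ne_one_of_conj p h2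
    rcases (p.t_iff h4 h5 h6).1 h2 with h7 | ⟨γ, h7⟩
    · have h8 : d = tt f * ee f := by
        rw [← h7, mul_assoc, ee_sq h, mul_one]
      rw [h8]; exact te_mem h
    · exfalso
      rw [h3, h.f_mul] at h7
      exact h.fs_ne _ _ _ _ h7.symm
  · exact absurd (h3 ▸ p.t_conj α) h1
  · rcases α with i | j
    · refine Or.inr ⟨hh k + i, ?_⟩
      rw [h3, B, z_mul_a, a_inv]
      have H := hh_add (k := k)
      rw [a_congr (show -i = hh k - (hh k + i) by ring)]
    · exfalso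
      refine not_t_of_u p ?_ h2
      rw [h3]
      exact DD_e p j

theorem dIII {d : G} (hd : d ∈ DE p.h) (hdd : d * d = 1) (hd1 : d ≠ 1) :
    ¬ IsConj (tt f) d ∧ IsConj (tt f) (d * ee f) := by
  have h := p.h
  rcases hd with ⟨i, rfl⟩ | ⟨i, rfl⟩
  · rcases A_sq_one h hdd with h1 | h1
    · exact absurd h1 hd1
    · rw [h1, ← te_eq h]
      refine ⟨not_t_of_u p (te_u p), ?_⟩
      rw [te_mul_t h]
  · refine ⟨not_t_of_u p (B_u p i), ?_⟩
    rw [B_e p]
    exact A_t p _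

theorem cI {w : G} (hw : w ∈ P) (hww : w * w = 1) (h1 : IsConj (tt f) w)
    (h2 : IsConj (tt f) (w * ee f)) : w ∈ Dc p.h := by
  have h := p.h
  rcases (p.t_iff hw hww (ne_one_of_conj p h1)).1 h1 with h3 | ⟨α, h3⟩
  · exfalso
    rw [h3] at h2
    exact not_t_of_u p (te_u p) h2
  · rcases α with i | j
    · exfalso
      refine not_t_of_u p ?_ h2
      rw [h3]
      exact tT_e p i
    · refine Or.inr ⟨j, ?_⟩
      rw [h3, D, xa_inv]

theorem dI {w : G} (hw : w ∈ Dc p.h) (hww : w * w = 1) (hw1 : w ≠ 1) (hwe : w ≠ ee f) :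
    IsConj (tt f) w ∧ IsConj (tt f) (w * ee f) := by
  have h := p.h
  rcases hw with ⟨i, rfl⟩ | ⟨i, rfl⟩
  · exfalso
    rcases C_sq_one h hww with h1 | h1
    · exact hw1 h1
    · exact hwe h1
  · exact ⟨D_t p i, by rw [D_e p]; exact D_t p _⟩

theorem normE {x : G} (hx : x ∈ P) (hxe : x * ee f = ee f * x) {a : G} (ha : a ∈ DE p.h) : x * a * x⁻¹ ∈ DE p.h := by
  have h := p.h
  have key : ∀ w ∈ DE p.h, w * w = 1 → w ≠ 1 → x * w * x⁻¹ ∈ DE p.h := by
    intro w hw hww hw1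
    obtain ⟨h1, h2⟩ := dIII p hw hww hw1
    have hwe := DE_e h hw
    refine cIII p (mul_mem (mul_mem hx (DE_le h hw)) (inv_mem hx)) ?_ ?_ ?_ ?_
    · calc x * w * x⁻¹ * ee f = x * (w * ee f) * x⁻¹ := conj_mul_e hxe
        _ = (x * ee f) * w * x⁻¹ := by rw [hwe]; group
        _ = _ := by rw [hxe]; group
    · calc x * w * x⁻¹ * (x * w * x⁻¹) = x * (w * w) * x⁻¹ := by group
        _ = 1 := by rw [hww]; group
    · exact fun h3 => h1 (h3.trans (isConj_iff.2 ⟨x⁻¹, by group⟩))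
    · rw [conj_mul_e hxe]
      exact h2.trans (isConj_iff.2 ⟨x, rfl⟩)
  obtain ⟨w₁, hw₁, w₂, hw₂, ⟨a1, a2⟩, ⟨b1, b2⟩, h1⟩ := e_gen h ha
  rcases h1 with rfl | rfl
  · have e1 : x * (w₁ * w₂) * x⁻¹ = (x * w₁ * x⁻¹) * (x * w₂ * x⁻¹) := by group
    rw [e1]
    exact mul_mem (key _ hw₁ a1 a2) (key _ hw₂ b1 b2)
  · exact key _ hw₁ a1 a2

theorem normc {x : G} (hx : x ∈ P) (hxe : x * ee f = ee f * x) {a : G} (ha : a ∈ Dc p.h) : x * a * x⁻¹ ∈ Dc p.h := by
  have h := p.h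
  have key : ∀ w ∈ Dc p.h, w * w = 1 → w ≠ 1 → w ≠ ee f → x * w * x⁻¹ ∈ Dc p.h := by
    intro w hw hww hw1 hwe
    obtain ⟨h1, h2⟩ := dI p hw hww hw1 hwe
    refine cI p (mul_mem (mul_mem hx (Dc_le h hw)) (inv_mem hx)) ?_ ?_ ?_
    · calc x * w * x⁻¹ * (x * w * x⁻¹) = x * (w * w) * x⁻¹ := by group
        _ = 1 := by rw [hww]; group
    · exact h1.trans (isConj_iff.2 ⟨x, rfl⟩)
    · rw [conj_mul_e hxe]
      exact h2.trans (isConj_iff.2 ⟨x, rfl⟩)
  obtain ⟨w₁, hw₁, w₂, hw₂, ⟨a1, a2, a3⟩, ⟨b1, b2, b3⟩, h1⟩ := c_gen h ha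
  rcases h1 with rfl | rfl
  · have e1 : x * (w₁ * w₂) * x⁻¹ = (x * w₁ * x⁻¹) * (x * w₂ * x⁻¹) := by group
    rw [e1]
    exact mul_mem (key _ hw₁ a1 a2 a3) (key _ hw₂ b1 b2 b3)
  · exact key _ hw₁ a1 a2 a3

omit p in
/-- the elements of `Y = C(e)` -/
theorem Y_e (y : Cn (ee f)) : (y : G) * ee f = ee f * (y : G) := mem_Cn.1 y.2

omit p in
/-- `t` as an element of `Y` -/
abbrev tY (p : Pat P k f s) : Cn (ee f) := ⟨tt f, mem_Cn.2 (by rw [p.h.t_comm (p.h.f_mem _ _)])⟩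

omit p in
/-- `e` as an element of `Y` -/
abbrev eY (_p : Pat P k f s) : Cn (ee f) := ⟨ee f, mem_Cn.2 rfl⟩

omit p in
/-- `r = (x₀, 1)` as an element of `Y` -/
abbrev rY (p : Pat P k f s) : Cn (ee f) := ⟨f (c k) 1, mem_Cn.2 (by rw [p.h.f_mul, p.h.f_mul, one_mul, mul_one])⟩

/-- **The local configuration of `Y = C(e)`.** -/
theorem loc {R : Subgroup (Cn (ee f))} (hR : R = (P : Subgroup G).subgroupOf (Cn (ee f))) :
    Loc R ((DE p.h).subgroupOf (Cn (ee f))) ((Dc p.h).subgroupOf (Cn (ee f))) (tY p) (eY p) (rY p)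
      (fun y => IsConj (tt f) (y : G)) := by
  subst hR
  have h := p.h
  refine ⟨?_, ?_, ?_, ?_, ?_, ?_, ?_, ?_, ?_, ?_, ?_, ?_, ?_, ?_, ?_, ?_, ?_, ?_, ?_, ?_, ?_, ?_, ?_, ?_, ?_, ?_, ?_, ?_, ?_, ?_, ?_, ?_⟩
  · exact Subtype.ext (ee_sq h)
  · exact fun x => Subtype.ext (Y_e x).symm
  · exact Subtype.ext (t_sq' h)
  · exact fun x hx => Subtype.ext (h.t_comm hx)
  · exact h.f_mem _ _
  · exact h.f_mem _ _
  · exact Subtype.ext (root_sq h (c_sq h.hk))
  · intro x hx hxx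
    rcases CentUCoord.root h hx (Y_e x) (congrArg Subtype.val hxx) with h1 | h1 | h1 | h1
    · exact Or.inl (Subtype.ext h1)
    · exact Or.inr (Or.inl (Subtype.ext h1))
    · exact Or.inr (Or.inr (Or.inl (Subtype.ext h1)))
    · exact Or.inr (Or.inr (Or.inr (Subtype.ext h1)))
  · intro x hx hxr y hy hyr
    exact Subtype.ext (CentUCoord.abel h hx (Y_e x) (congrArg Subtype.val hxr) hy (Y_e y) (congrArg Subtype.val hyr))
  · intro x hx hxr hxx
    rcases CentUCoord.inv h hx (Y_e x) (congrArg Subtype.val hxr) (congrArg Subtype.val hxx) with h1 | h1 | h1 | h1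
    · exact Or.inl (Subtype.ext h1)
    · exact Or.inr (Or.inl (Subtype.ext h1))
    · exact Or.inr (Or.inr (Or.inl (Subtype.ext h1)))
    · exact Or.inr (Or.inr (Or.inr (Subtype.ext h1)))
  · exact te_mem h
  · intro h1
    exact te_ne_one h (congrArg Subtype.val h1)
  · exact e_mem h
  · exact fun x hx => DE_le h hx
  · exact fun x hx => Dc_le h hx
  · exact fun x hx y hy => Subtype.ext (comm h hx hy)
  · exact fun x hx hy => Subtype.ext (disj h hx hy)
  · exact fun x hx a ha => normE p hx (Y_e x) ha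
  · exact fun x hx a ha => normc p hx (Y_e x) ha
  · exact fun g y hy => hy.trans (isConj_iff.2 ⟨(g : G), rfl⟩)
  · exact fun d hd hdd h1 h2 => cIII p hd (Y_e d) (congrArg Subtype.val hdd) h1 h2
  · exact fun d hd hdd hd1 => dIII p hd (congrArg Subtype.val hdd) fun h1 => hd1 (Subtype.ext h1)
  · exact fun w hw hww h1 h2 => cI p hw (congrArg Subtype.val hww) h1 h2
  · exact fun w hw hww hw1 hwe => dI p hw (congrArg Subtype.val hww) (fun h1 => hw1 (Subtype.ext h1))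
      fun h1 => hwe (Subtype.ext h1)
  · intro a ha haa
    obtain ⟨m, hm⟩ := E_pow h ha fun h1 => haa (Subtype.ext h1)
    exact ⟨m, Subtype.ext hm⟩
  · intro a ha haa
    rcases E_sq h ha (congrArg Subtype.val haa) with h1 | h1
    · exact Or.inl (Subtype.ext h1)
    · exact Or.inr (Subtype.ext h1)
  · exact fun a ha d hd haa hdd hd1 hdt => Subtype.ext (E_refl h ha hd (fun h1 => haa (Subtype.ext h1))
      (congrArg Subtype.val hdd) (fun h1 => hd1 (Subtype.ext h1)) fun h1 => hdt (Subtype.ext h1))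
  · intro d hd hdd hd1 hdt x hx hxd
    obtain ⟨v, hv, y, hy, h1⟩ := E_cent h hd (congrArg Subtype.val hdd) (fun h1 => hd1 (Subtype.ext h1))
      (fun h1 => hdt (Subtype.ext h1)) hx (Y_e x) (congrArg Subtype.val hxd)
    have hyY : y ∈ Cn (ee f) := mem_Cn.2 (Dc_e h hy)
    rcases hv with rfl | rfl | rfl | rfl
    · exact ⟨1, Or.inl rfl, ⟨y, hyY⟩, hy, Subtype.ext h1⟩
    · exact ⟨d, Or.inr (Or.inl rfl), ⟨y, hyY⟩, hy, Subtype.ext h1⟩
    · exact ⟨_, Or.inr (Or.inr (Or.inl rfl)), ⟨y, hyY⟩, hy, Subtype.ext h1⟩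
    · exact ⟨_, Or.inr (Or.inr (Or.inr rfl)), ⟨y, hyY⟩, hy, Subtype.ext h1⟩
  · intro a ha
    obtain ⟨w₁, hw₁, w₂, hw₂, ⟨a1, a2, a3⟩, ⟨b1, b2, b3⟩, h1⟩ := c_gen h ha
    refine ⟨⟨w₁, mem_Cn.2 (Dc_e h hw₁)⟩, hw₁, ⟨w₂, mem_Cn.2 (Dc_e h hw₂)⟩, hw₂, ⟨Subtype.ext a1, ?_, ?_⟩,
      ⟨Subtype.ext b1, ?_, ?_⟩, ?_⟩
    · exact fun h2 => a2 (congrArg Subtype.val h2)
    · exact fun h2 => a3 (congrArg Subtype.val h2)
    · exact fun h2 => b2 (congrArg Subtype.val h2)
    · exact fun h2 => b3 (congrArg Subtype.val h2)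
    · rcases h1 with h1 | h1
      · exact Or.inl (Subtype.ext h1)
      · exact Or.inr (Subtype.ext h1)
  · exact fun a ha haa b hb hbb => Subtype.ext (c_comm h ha (fun h1 => haa (Subtype.ext h1)) hb
      fun h1 => hbb (Subtype.ext h1))
  · intro a ha haa w hw hww hwa
    rcases c_inv h ha (fun h1 => haa (Subtype.ext h1)) hw (congrArg Subtype.val hww) (congrArg Subtype.val hwa)
      with h1 | h1
    · exact Or.inl (Subtype.ext h1)
    · exact Or.inr (Subtype.ext h1)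
  · rintro w₁ hw₁ w₂ hw₂ ⟨a1, a2, a3⟩ ⟨b1, b2, b3⟩
    rcases c_prod h hw₁ hw₂ ⟨congrArg Subtype.val a1, fun h1 => a2 (Subtype.ext h1), fun h1 => a3 (Subtype.ext h1)⟩
      ⟨congrArg Subtype.val b1, fun h1 => b2 (Subtype.ext h1), fun h1 => b3 (Subtype.ext h1)⟩ with h1 | h1 | h1
    · exact Or.inl (Subtype.ext h1)
    · exact Or.inr (Or.inl (Subtype.ext h1))
    · exact Or.inr (Or.inr fun h2 => h1 (congrArg Subtype.val h2))

end Cfsg.Agent.SylowSp4.CentUInst
end

-- part: SylowSp4/CentUData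
section
/-!
# The centralizer of an involution of `u`-type: exports, from the product theorem in `C(e)`

`PD p` is the conclusion of the product theorem for the strongly closed subgroups `DE`, `Dc` of `C(e)`.
-/

set_option autoImplicit false

namespace Cfsg.Agent.SylowSp4.CentUData

open QuaternionGroup Cfsg.Agent.SylowSp4.Coord Cfsg.Agent.SylowSp4.Facts Cfsg.Agent.SylowSp4.Pat Subgroup
open Cfsg.Agent.Walter.OddCoreIn Cfsg.Agent.SylowSp4.Pairs Cfsg.Agent.SylowSp4.CentUCoord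
open Cfsg.Agent.SylowSp4.CentULoc Cfsg.Agent.SylowSp4.CentUInst Cfsg.Agent.SylowSp4.CentUMain
open Cfsg.Agent.SylowSp4.FieldPart

section General

variable {G : Type*} [Group G] {M : Subgroup G}

theorem coe_mem_OO {x : M} : (x : G) ∈ OO M ↔ x ∈ Cfsg.oddCore M := by
  constructor
  · rintro ⟨y, hy, h1⟩
    have : y = x := Subtype.ext h1
    rwa [← this]
  · intro hx
    exact ⟨x, hx, rfl⟩

theorem mem_inf_conj [Finite G] {a b x g : G} :
    g * x * g⁻¹ ∈ OO (Cn (g * a * g⁻¹) ⊓ Cn (g * b * g⁻¹)) ↔ x ∈ OO (Cn a ⊓ Cn b) := by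
  rw [Cn_conj, Cn_conj, ← Subgroup.map_inf _ _ _ (MulAut.conj g).injective, OO_conj]
  constructor
  · rintro ⟨y, hy, h1⟩
    have : y = x := (MulAut.conj g).injective h1
    rwa [← this]
  · intro hx
    exact ⟨x, hx, rfl⟩

end General

variable {G : Type*} [Group G] [Finite G] {P : Sylow 2 G} {k : ℕ} {f : Q k → Q k → G} {s : G} (p : Pat P k f s)

include p

omit [Finite G] in
/-- The conclusion of the product theorem in `C(e)`. -/
def PD (p : Pat P k f s) : Prop :=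
  Prod ((DE p.h).subgroupOf (Cn (ee f))) ((Dc p.h).subgroupOf (Cn (ee f)))

omit [Finite G] in
theorem t1_eq : t1 f s = D f s 0 := by
  rw [t1, mul_assoc, p.h.s_f, ← mul_assoc, t_mul p.h, D, z_mul_xa]

omit [Finite G] in
theorem t1_Dc : t1 f s ∈ Dc p.h := by rw [t1_eq p]; exact Or.inr ⟨0, rfl⟩

omit [Finite G] in
theorem t1e_eq : t1 f s * ee f = D f s (qq k) := by
  rw [t1_eq p, D_e p, zero_add]

omit [Finite G] in
theorem t1_e : t1 f s * ee f = ee f * t1 f s := Dc_e p.h (t1_Dc p)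

omit [Finite G] in
theorem t1e_conj : IsConj (tt f) (t1 f s * ee f) := by rw [t1e_eq p]; exact D_t p _

omit [Finite G] in
theorem t1_t1e : t1 f s * (t1 f s * ee f) = ee f := by rw [← mul_assoc, t1_sq p, one_mul]

variable (hp : PD p)

include hp

/-- elements of odd order of `C(e)` centralise `Dc` modulo `O(C(e))` -/
theorem star_e {y : G} (hy : y ∈ Cn (ee f)) (ho : Odd (orderOf y)) {a : G} (ha : a ∈ Dc p.h) :
    y * a * y⁻¹ * a⁻¹ ∈ OO (Cn (ee f)) := by
  obtain ⟨R, hR⟩ := exists_PY p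
  have L := loc p hR
  have h1 := star L hp (y := ⟨y, hy⟩) (by rw [Subgroup.orderOf_mk]; exact ho)
  have h2 := mem_C0.1 h1 ⟨a, mem_Cn.2 (Dc_e p.h ha)⟩ ha
  exact coe_mem_OO.2 h2

/-- `C(e) = O(C(e)) C(Dc) (P ∩ C(e))` -/
theorem gen_e {y : G} (hy : y ∈ Cn (ee f)) :
    ∃ o ∈ OO (Cn (ee f)), ∃ c ∈ Cn (ee f), (∀ a ∈ Dc p.h, c * a = a * c) ∧ ∃ r ∈ (P : Subgroup G) ⊓ Cn (ee f),
      y = o * c * r := by
  obtain ⟨R, hR⟩ := exists_PY p
  have L := loc p hR
  obtain ⟨o, ho, c, hc, r, hr, h1⟩ := gen L hp ⟨y, hy⟩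
  rw [hR] at hr
  refine ⟨o, coe_mem_OO.2 ho, c, c.2, fun a ha => ?_, r, ⟨mem_subgroupOf.1 hr, r.2⟩, congrArg Subtype.val h1⟩
  have h2 := mem_centralizer_iff.1 hc ⟨a, mem_Cn.2 (Dc_e p.h ha)⟩ ha
  exact (congrArg Subtype.val h2).symm

/-- helper497's form -/
theorem Y_gen_of {y : G} (hy : y ∈ Cn (ee f)) :
    ∃ o ∈ OO (Cn (ee f)), ∃ c ∈ Cn (t1 f s) ⊓ Cn (ee f), ∃ r ∈ (P : Subgroup G) ⊓ Cn (ee f), y = o * c * r := by
  obtain ⟨o, ho, c, hc, h1, r, hr, h2⟩ := gen_e p hp hy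
  exact ⟨o, ho, c, ⟨mem_Cn.2 (h1 _ (t1_Dc p)), hc⟩, r, hr, h2⟩

/-- the standard pair: `O(C(e)) ∩ C(t₁) = O(C(t₁) ∩ C(t₁ e))` -/
theorem core_e : OO (Cn (ee f)) ⊓ Cn (t1 f s) = OO (Cn (t1 f s) ⊓ Cn (t1 f s * ee f)) := by
  obtain ⟨R, hR⟩ := exists_PY p
  have L := loc p hR
  have hinf : Cn (t1 f s) ⊓ Cn (t1 f s * ee f) = Cn (t1 f s) ⊓ Cn (ee f) := by
    ext x
    rw [mem_inf, mem_inf, mem_Cn, mem_Cn, mem_Cn]
    generalize t1 f s = w
    refine and_congr_right fun h1 => ?_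
    rw [← mul_assoc, h1, mul_assoc w x, mul_assoc w (ee f)]
    exact mul_right_inj w
  rw [hinf]
  apply le_antisymm
  · refine le_OO ?_ ?_ (not_dvd_of_le inf_le_left (OO_odd _))
    · exact fun x hx => ⟨hx.2, OO_le _ hx.1⟩
    · rw [le_normalizer_iff']
      intro a ha x hx
      refine ⟨conj_mem (le_normalizer_OO _) ha.2 hx.1, ?_⟩
      exact (Cn (t1 f s)).mul_mem ((Cn (t1 f s)).mul_mem ha.1 hx.2) ((Cn (t1 f s)).inv_mem ha.1)
  · intro x hx
    have hx2 : x ∈ Cn (t1 f s) ⊓ Cn (ee f) := OO_le _ hx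
    refine ⟨?_, hx2.1⟩
    have hle : OO (Cn (t1 f s) ⊓ Cn (ee f)) ≤ Cn (ee f) := (OO_le _).trans inf_le_right
    have h1 := core_le L hp (w := ⟨t1 f s, mem_Cn.2 (t1_e p)⟩) (t1_Dc p) (Subtype.ext (t1_sq p))
      (D := (OO (Cn (t1 f s) ⊓ Cn (ee f))).subgroupOf (Cn (ee f))) (by
        rw [Nat.card_congr (Subgroup.subgroupOfEquivOfLe hle).toEquiv]
        exact OO_odd _) (by
        intro a ha y hy
        have h2 : (a : G) ∈ Cn (t1 f s) ⊓ Cn (ee f) := ⟨mem_Cn.2 (congrArg Subtype.val ha), a.2⟩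
        exact conj_mem (le_normalizer_OO _) h2 hy)
    exact coe_mem_OO.2 (h1 (show (⟨x, hx2.2⟩ : Cn (ee f)) ∈ _ from hx))

omit hp in
/-- all commuting pairs of distinct conjugates of `t` are conjugate to `(t₁, t₁ e)` -/
theorem pairs' {a b : G} (ha : IsConj (tt f) a) (hb : IsConj (tt f) b) (hab : a * b = b * a) (hne : a ≠ b) :
    ∃ g, g * a * g⁻¹ = t1 f s ∧ g * b * g⁻¹ = t1 f s * ee f := by
  obtain ⟨g₁, h1, h2⟩ := pairs p ha hb hab hne
  obtain ⟨g₂, h3, h4⟩ := pairs p (t1_conj p) (t1e_conj p) (by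
    have e1 := t1_e p
    generalize t1 f s = w at e1 ⊢
    rw [mul_assoc w, ← e1]) (by
    intro h5
    have : ee f = 1 := mul_eq_left.1 h5.symm
    apply p.h.t_ne_one
    have h6 := te_u p
    rw [this, mul_one] at h6
    exact (isConj_one_right.1 h6))
  refine ⟨g₂⁻¹ * g₁, ?_, ?_⟩
  · have e1 : g₂⁻¹ * g₁ * a * (g₂⁻¹ * g₁)⁻¹ = g₂⁻¹ * (g₁ * a * g₁⁻¹) * g₂ := by group
    rw [e1, h1]
    have e2 : g₂⁻¹ * (g₂ * t1 f s * g₂⁻¹) * g₂ = t1 f s := by
      generalize t1 f s = w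
      group
    rw [h3] at e2
    exact e2
  · have e1 : g₂⁻¹ * g₁ * b * (g₂⁻¹ * g₁)⁻¹ = g₂⁻¹ * (g₁ * b * g₁⁻¹) * g₂ := by group
    rw [e1, h2]
    have e2 : g₂⁻¹ * (g₂ * (t1 f s * ee f) * g₂⁻¹) * g₂ = t1 f s * ee f := by
      generalize t1 f s * ee f = w
      group
    rw [h4] at e2
    exact e2

/-- **The exports of the centralizer of a `u`-type involution.** -/
theorem udata_of : UData f := by
  constructor
  · intro a b ha hb hab hne y hy ho
    obtain ⟨g, h1, h2⟩ := pairs' p ha hb hab hne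
    have h3 : g * (a * b) * g⁻¹ = ee f := by
      have e1 : g * (a * b) * g⁻¹ = (g * a * g⁻¹) * (g * b * g⁻¹) := by group
      rw [e1, h1, h2, t1_t1e p]
    have h4 := star_e p hp (y := g * y * g⁻¹) (by rw [← h3]; exact mem_Cn_conj hy) (by
      have : orderOf (g * y * g⁻¹) = orderOf y := (MulAut.conj g).orderOf_eq y
      rw [this]; exact ho) (t1_Dc p)
    have e2 : g * y * g⁻¹ * t1 f s * (g * y * g⁻¹)⁻¹ * (t1 f s)⁻¹ = g * (y * a * y⁻¹ * a⁻¹) * g⁻¹ := by
      rw [← h1]; group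
    rw [e2, ← h3] at h4
    exact mem_OO_conj_iff.1 h4
  · intro a b ha hb hab hne
    obtain ⟨g, h1, h2⟩ := pairs' p ha hb hab hne
    have h3 : g * (a * b) * g⁻¹ = ee f := by
      have e1 : g * (a * b) * g⁻¹ = (g * a * g⁻¹) * (g * b * g⁻¹) := by group
      rw [e1, h1, h2, t1_t1e p]
    ext x
    rw [← mem_inf_conj (g := g), h1, h2, ← core_e p hp, mem_inf, mem_inf, ← mem_OO_conj_iff (g := g), h3,
      ← mem_Cn_conj_iff (g := g) (a := a), h1]

end Cfsg.Agent.SylowSp4.CentUData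
end

-- part: SpFourOdd/Closing
section
/-!
# Recognition of `PSp₄(q)`, `q` odd: the closing argument

If `G₀` is a simple subgroup of `G` containing `L₁`, `L₂`, `w` then `G₀ = G`.
-/

set_option autoImplicit false

namespace Cfsg.Agent.SpFourOdd.Closing

section

variable {G F : Type*} [Group G] [Field F] {D : Pair G F}

/-- the pair, in a subgroup -/
def restr (D : Pair G F) (G₀ : Subgroup G) (h₁ : ∀ a, D.φ₁ a ∈ G₀) (h₂ : ∀ a, D.φ₂ a ∈ G₀) (hw : D.w ∈ G₀) :
    Pair G₀ F where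
  φ₁ := D.φ₁.codRestrict G₀ h₁
  φ₂ := D.φ₂.codRestrict G₀ h₂
  z := ⟨D.z, by rw [← D.z₁]; exact h₁ _⟩
  w := ⟨D.w, hw⟩
  comm := fun a b => Subtype.ext (D.comm a b)
  z₁ := Subtype.ext D.z₁
  z₂ := Subtype.ext D.z₂
  ker := fun a b h => D.ker a b (congrArg Subtype.val h)
  ww := Subtype.ext D.ww
  conj := fun a => Subtype.ext (D.conj a)

theorem isConj_val {G₀ : Subgroup G} {x y : G₀} (h : IsConj x y) : IsConj (x : G) (y : G) := by
  obtain ⟨g, hg⟩ := isConj_iff.mp h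
  exact isConj_iff.mpr ⟨g, by rw [← hg]; rfl⟩

theorem weak_restr (W : Weak D) {G₀ : Subgroup G} (h₁ : ∀ a, D.φ₁ a ∈ G₀) (h₂ : ∀ a, D.φ₂ a ∈ G₀) (hw : D.w ∈ G₀) :
    Weak (restr D G₀ h₁ h₂ hw) where
  inv := by
    intro c hc hcc
    obtain ⟨a, b, h⟩ := W.inv c (congrArg Subtype.val hc) (congrArg Subtype.val hcc)
    refine ⟨a, b, ?_⟩
    rcases h with h | h
    · exact Or.inl (Subtype.ext h)
    · exact Or.inr (Subtype.ext h)
  nrm := by
    intro c hc x
    obtain ⟨y, h⟩ := W.nrm c (congrArg Subtype.val hc) x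
    refine ⟨y, ?_⟩
    rcases h with h | h
    · exact Or.inl (Subtype.ext h)
    · exact Or.inr (Subtype.ext h)
  zu := fun h => W.zu (isConj_val h)
  zk := fun a b ha hb h => W.zk a b ha hb (isConj_val h)

/-- `K₀ O(C(u))` is normal in `C(u)` (field `cu` of `Hyp`) -/
def CU (D : Pair G F) : Prop :=
  ∃ O : Subgroup G, Odd (Nat.card O) ∧ (∀ o ∈ O, o * (D.z * D.w) = (D.z * D.w) * o) ∧
    (∀ c, c * (D.z * D.w) = (D.z * D.w) * c → ∀ o ∈ O, c * o * c⁻¹ ∈ O) ∧
    ∀ c, c * (D.z * D.w) = (D.z * D.w) * c → ∀ a, ∃ b, ∃ o ∈ O,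
      c * (D.φ₁ a * D.φ₂ a) * c⁻¹ = D.φ₁ b * D.φ₂ b * o

theorem CU_of {O : Subgroup G} (h : CUData D O) : CU D := ⟨O, h.odd, h.le, h.norm, h.k0⟩

/-- a subgroup containing `C(z)` and fusing `z`, `w` contains `C(zw)` -/
theorem cent_u_le [Finite G] [Finite F] (hcU : CU D) (h2 : (2 : F) ≠ 0) {G₀ : Subgroup G}
    (hCz : ∀ c, c * D.z = D.z * c → c ∈ G₀) (hzw : ∃ g ∈ G₀, g * D.z * g⁻¹ = D.w) {c : G}
    (hc : c * (D.z * D.w) = (D.z * D.w) * c) : c ∈ G₀ := by
  classical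
  have h₁ : ∀ a, D.φ₁ a ∈ G₀ := fun a => hCz _ (z_comm₁ D a).symm
  have h₂ : ∀ a, D.φ₂ a ∈ G₀ := fun a => hCz _ (z_comm₂ D a).symm
  have hw : D.w ∈ G₀ := hCz _ (wz D)
  have hz : D.z ∈ G₀ := by rw [← D.z₁]; exact h₁ _
  -- centralizers of elements conjugate to `z` in `G₀`
  have hC : ∀ x, (∃ g ∈ G₀, g * D.z * g⁻¹ = x) → ∀ c, c * x = x * c → c ∈ G₀ := by
    rintro x ⟨g, hg, rfl⟩ c hc
    have h3 : g⁻¹ * c * g ∈ G₀ := by
      apply hCz
      have e1 : g⁻¹ * c * g * D.z = g⁻¹ * (c * (g * D.z * g⁻¹)) * g := by group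
      rw [e1, hc]
      group
    have h4 : c = g * (g⁻¹ * c * g) * g⁻¹ := by group
    rw [h4]
    exact mul_mem (mul_mem hg h3) (inv_mem hg)
  have hCw : ∀ a : SL2 F, ∀ c, c * (D.φ₁ a * D.w * (D.φ₁ a)⁻¹) = (D.φ₁ a * D.w * (D.φ₁ a)⁻¹) * c → c ∈ G₀ := by
    intro a
    apply hC
    obtain ⟨g, hg, hgw⟩ := hzw
    refine ⟨D.φ₁ a * g, mul_mem (h₁ _) hg, ?_⟩
    rw [← hgw]
    group
  -- `u k` for an involution `k ∈ K₀`
  have huk : ∀ a : SL2 F, a * a = -1 → D.z * D.w * kk D a = D.φ₁ a * D.w * (D.φ₁ a)⁻¹ := by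
    intro a ha
    have hainv : a⁻¹ = -a := by rw [inv_eq_iff_mul_eq_one, mul_neg, ha, neg_neg]
    rw [conj_w, hainv, neg₂, mul_assoc, kk_w]
    unfold kk
    rw [← mul_assoc, z_form]
    simp only [mul_assoc]
    rw [← mul_assoc D.z, z_comm₂, mul_assoc]
  have hCuk : ∀ a : SL2 F, a * a = -1 → ∀ c, c * (D.z * D.w) = (D.z * D.w) * c → c * kk D a = kk D a * c → c ∈ G₀ := by
    intro a ha c hc1 hc3
    apply hCw a c
    rw [← huk a ha]
    have h3 : c * (D.z * D.w * kk D a) = (c * (D.z * D.w)) * kk D a := by group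
    rw [h3, hc1, mul_assoc, hc3]
    group
  have kk_u : ∀ a, kk D a * (D.z * D.w) = D.z * D.w * kk D a := by
    intro a
    rw [← mul_assoc, ← kk_z, mul_assoc, ← kk_w, mul_assoc]
  have kk_mem : ∀ a, kk D a ∈ G₀ := fun a => mul_mem (h₁ _) (h₂ _)
  obtain ⟨O, hOodd, hOu, hOn, hcu⟩ := hcU
  obtain ⟨i, j, hi, hj, hij⟩ := exists_pair h2
  have hijij : (i * j) * (i * j) = -1 := by
    have h4 : j * i = -(i * j) := by rw [hij, neg_neg]
    have h3 : (i * j) * (i * j) = i * (j * i) * j := by group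
    rw [h3, h4]
    have h5 : i * -(i * j) * j = -((i * i) * (j * j)) := by
      rw [mul_neg, neg_mul]
      congr 1
      group
    rw [h5, hi, hj, neg_mul_neg, one_mul]
  -- `K₀`
  let K₀ : Subgroup G := (kkHom D).range
  have hK₀ : K₀ ≤ G₀ := by
    rintro _ ⟨a, rfl⟩
    exact kk_mem a
  -- the four-group
  have hkij : kk D i * kk D j = kk D j * kk D i := by
    rw [← kk_mul, ← kk_mul, hij, kk_neg]
  have kk_sq : ∀ a : SL2 F, a * a = -1 → kk D a * kk D a = 1 := by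
    intro a ha
    rw [← kk_mul, ha, kk_neg, kk_one]
  have kk_ne : ∀ a : SL2 F, a * a = -1 → kk D a ≠ 1 := by
    intro a ha h
    rcases D.ker _ _ h with h7 | h7
    · rw [h7.1, one_mul] at ha
      exact neg_one_ne_one h2 ha.symm
    · rw [h7.1, neg_mul_neg, one_mul] at ha
      exact neg_one_ne_one h2 ha.symm
  have hOG : O ≤ G₀ := by
    have hne : kk D i ≠ kk D j := by
      intro h
      apply kk_ne _ hijij
      rw [kk_mul, h, kk_sq j hj]
    refine le_of_fours (x := kk D i) (y := kk D j) hkij (kk_sq i hi) (kk_sq j hj) (kk_ne i hi) (kk_ne j hj) hne hOodd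
      (hOn _ (kk_u i)) (hOn _ (kk_u j)) ?_ ?_ ?_
    · intro o ho h
      exact hCuk i hi o (hOu o ho) h
    · intro o ho h
      exact hCuk j hj o (hOu o ho) h
    · intro o ho h
      rw [← kk_mul] at h
      exact hCuk (i * j) hijij o (hOu o ho) h
  -- conclusion
  obtain ⟨b, o, ho, hb⟩ := hcu c hc i
  have hy : c * kk D i * c⁻¹ * (c * kk D i * c⁻¹) = 1 := by
    have : c * kk D i * c⁻¹ * (c * kk D i * c⁻¹) = c * (kk D i * kk D i) * c⁻¹ := by group
    rw [this, kk_sq i hi, mul_one, mul_inv_cancel]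
  have hyKO : c * kk D i * c⁻¹ ∈ K₀ ⊔ O := by
    have : c * kk D i * c⁻¹ = kk D b * o := hb
    rw [this]
    exact mul_mem (le_sup_left (a := K₀) (b := O) ⟨b, rfl⟩) (le_sup_right (a := K₀) (b := O) ho)
  have hnorm : ∀ k ∈ K₀, ∀ o ∈ O, k * o * k⁻¹ ∈ O := by
    rintro _ ⟨a, rfl⟩ o ho
    exact hOn _ (kk_u a) o ho
  obtain ⟨g, hg, hgK⟩ := exists_conj_in K₀ O hOodd hnorm hy hyKO
  have hgG : g ∈ G₀ := (sup_le hK₀ hOG) hg
  have hgu : g * (D.z * D.w) = (D.z * D.w) * g := by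
    have h3 : K₀ ⊔ O ≤ Subgroup.centralizer {D.z * D.w} := by
      rw [sup_le_iff]
      constructor
      · rintro _ ⟨a, rfl⟩
        rw [Subgroup.mem_centralizer_singleton_iff]
        exact kk_u a
      · intro o ho
        rw [Subgroup.mem_centralizer_singleton_iff]
        exact hOu o ho
    exact Subgroup.mem_centralizer_singleton_iff.mp (h3 hg)
  obtain ⟨m, hm⟩ := hgK
  change kk D m = g⁻¹ * (c * kk D i * c⁻¹) * g at hm
  -- `m² = -1`
  have hmm : m * m = -1 := by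
    have h3 : kk D m * kk D m = 1 := by
      rw [hm]
      have h4 : g⁻¹ * (c * kk D i * c⁻¹) * g * (g⁻¹ * (c * kk D i * c⁻¹) * g) =
        g⁻¹ * (c * kk D i * c⁻¹ * (c * kk D i * c⁻¹)) * g := by group
      rw [h4, hy, mul_one, inv_mul_cancel]
    have h4 : kk D m ≠ 1 := by
      intro h
      apply kk_ne i hi
      have : kk D i = c⁻¹ * g * (g⁻¹ * (c * kk D i * c⁻¹) * g) * g⁻¹ * c := by group
      rw [this, ← hm, h]
      group
    rw [← kk_mul] at h3
    have h6 : D.φ₁ (m * m) * D.φ₂ (m * m) = 1 := h3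
    rcases D.ker _ _ h6 with h7 | h7
    · exfalso
      apply h4
      rcases sq_one h2 h7.1 with h8 | h8
      · rw [h8, kk_one]
      · rw [h8, kk_neg, kk_one]
    · exact h7.1
  obtain ⟨x, hx⟩ := conj_of_sq h2 hmm hi
  -- `kk x g⁻¹ c` centralizes `kk i` and `u`
  have h9 : kk D x * g⁻¹ * c ∈ G₀ := by
    apply hCuk i hi
    · have e1 : c * (D.z * D.w) * c⁻¹ = D.z * D.w := by rw [hc, mul_inv_cancel_right]
      have e2 : g⁻¹ * (D.z * D.w) = D.z * D.w * g⁻¹ := by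
        rw [inv_mul_eq_iff_eq_mul, ← mul_assoc, hgu, mul_inv_cancel_right]
      rw [mul_assoc, hc, ← mul_assoc, mul_assoc (kk D x), e2, ← mul_assoc, kk_u]
      simp only [mul_assoc]
    · have e1 : kk D i = kk D x * kk D m * (kk D x)⁻¹ := by
        rw [← kk_inv, ← kk_mul, ← kk_mul, hx]
      have e2 : kk D i * (kk D x * g⁻¹ * c) = kk D x * kk D m * (kk D x)⁻¹ * (kk D x * g⁻¹ * c) := by rw [← e1]
      rw [e2, hm]
      group
  have h10 : c = g * (kk D x)⁻¹ * (kk D x * g⁻¹ * c) := by group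
  rw [h10]
  exact mul_mem (mul_mem hgG (inv_mem (kk_mem x))) h9

/-- **Closing.**  A subgroup of `G` containing `C(z)` and fusing `z` and `w` is the whole group. -/
theorem eq_top [Finite G] [Finite F] (W₀ : Weak D) (hcU : CU D) (h2 : (2 : F) ≠ 0) (G₀ : Subgroup G)
    (hCz : ∀ c, c * D.z = D.z * c → c ∈ G₀) (hzw' : ∃ g ∈ G₀, g * D.z * g⁻¹ = D.w) : G₀ = ⊤ := by
  classical
  have h₁ : ∀ a, D.φ₁ a ∈ G₀ := fun a => hCz _ (z_comm₁ D a).symm
  have h₂ : ∀ a, D.φ₂ a ∈ G₀ := fun a => hCz _ (z_comm₂ D a).symm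
  have hw : D.w ∈ G₀ := hCz _ (wz D)
  have W := weak_restr W₀ h₁ h₂ hw
  have hz : D.z ∈ G₀ := by rw [← D.z₁]; exact h₁ _
  have hzw : IsConj (restr D G₀ h₁ h₂ hw).z (restr D G₀ h₁ h₂ hw).w := by
    obtain ⟨g, hg, hgz⟩ := hzw'
    exact isConj_iff.mpr ⟨⟨g, hg⟩, Subtype.ext hgz⟩
  have hCu : ∀ c, c * (D.z * D.w) = (D.z * D.w) * c → c ∈ G₀ := fun c hc => cent_u_le hcU h2 hCz hzw' hc
  -- two classes
  have hcl : ∀ y ∈ G₀, y * y = 1 → y ≠ 1 → (∃ g ∈ G₀, g * D.z * g⁻¹ = y) ∨ ∃ g ∈ G₀, g * (D.z * D.w) * g⁻¹ = y := by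
    intro y hy hyy hy1
    rcases two_classes W h2 hzw (t := ⟨y, hy⟩) (Subtype.ext hyy) (fun h => hy1 (congrArg Subtype.val h)) with h | h
    · left
      obtain ⟨g, hg⟩ := isConj_iff.mp h
      exact ⟨g, g.2, congrArg Subtype.val hg⟩
    · right
      obtain ⟨g, hg⟩ := isConj_iff.mp h
      exact ⟨g, g.2, congrArg Subtype.val hg⟩
  -- control of `G₀`-conjugation
  have hctl : ∀ y ∈ G₀, y * y = 1 → y ≠ 1 → ∀ g : G, g * y * g⁻¹ ∈ G₀ → g ∈ G₀ := by
    intro y hy hyy hy1 g hg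
    have hgg : g * y * g⁻¹ * (g * y * g⁻¹) = 1 := by
      have : g * y * g⁻¹ * (g * y * g⁻¹) = g * (y * y) * g⁻¹ := by group
      rw [this, hyy, mul_one, mul_inv_cancel]
    have hg1 : g * y * g⁻¹ ≠ 1 := by
      intro h
      apply hy1
      have : y = g⁻¹ * (g * y * g⁻¹) * g := by group
      rw [this, h]
      group
    -- same type
    have key : ∀ x : G, (∀ c, c * x = x * c → c ∈ G₀) → (∃ a ∈ G₀, a * x * a⁻¹ = y) →
        (∃ b ∈ G₀, b * x * b⁻¹ = g * y * g⁻¹) → g ∈ G₀ := by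
      rintro x hx ⟨a, ha, hay⟩ ⟨b, hb, hby⟩
      have h3 : b⁻¹ * g * a ∈ G₀ := by
        apply hx
        have e1 : b⁻¹ * g * a * x = b⁻¹ * g * (a * x * a⁻¹) * a := by group
        have e2 : x * (b⁻¹ * g * a) = b⁻¹ * (b * x * b⁻¹) * g * a := by group
        rw [e1, e2, hay, hby]
        group
      have h4 : g = b * (b⁻¹ * g * a) * a⁻¹ := by group
      rw [h4]
      exact mul_mem (mul_mem hb h3) (inv_mem ha)
    rcases hcl y hy hyy hy1 with h3 | h3 <;> rcases hcl _ hg hgg hg1 with h4 | h4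
    · exact key _ hCz h3 h4
    · exfalso
      obtain ⟨a, -, ha⟩ := h3
      obtain ⟨b, -, hb⟩ := h4
      apply W₀.zu
      have i1 : IsConj D.z y := isConj_iff.mpr ⟨a, ha⟩
      have i2 : IsConj y (g * y * g⁻¹) := isConj_iff.mpr ⟨g, rfl⟩
      have i3 : IsConj (D.z * D.w) (g * y * g⁻¹) := isConj_iff.mpr ⟨b, hb⟩
      exact (i1.trans i2).trans i3.symm
    · exfalso
      obtain ⟨a, -, ha⟩ := h3
      obtain ⟨b, -, hb⟩ := h4
      apply W₀.zu
      have i1 : IsConj (D.z * D.w) y := isConj_iff.mpr ⟨a, ha⟩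
      have i2 : IsConj y (g * y * g⁻¹) := isConj_iff.mpr ⟨g, rfl⟩
      have i3 : IsConj D.z (g * y * g⁻¹) := isConj_iff.mpr ⟨b, hb⟩
      exact (i3.trans i2.symm).trans i1.symm
    · exact key _ hCu h3 h4
  by_contra hne
  have hzord : orderOf D.z = 2 := orderOf_eq_prime (by rw [pow_two, zz]) (z_ne D h2)
  have : Fact (Nat.Prime 2) := ⟨Nat.prime_two⟩
  have hSE : Cfsg.IsStronglyEmbedded G₀ := by
    refine ⟨hne, ?_, ?_⟩
    · have h3 : orderOf (⟨D.z, hz⟩ : G₀) ∣ Nat.card G₀ := orderOf_dvd_natCard _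
      rw [Subgroup.orderOf_mk, hzord] at h3
      exact even_iff_two_dvd.mpr h3
    · intro g hg
      rw [← Nat.not_even_iff_odd]
      intro heven
      obtain ⟨⟨t, ht⟩, ht2⟩ := exists_prime_orderOf_dvd_card' 2 (even_iff_two_dvd.mp heven)
      rw [Subgroup.orderOf_mk] at ht2
      obtain ⟨ht0, t', ht', htt⟩ := ht
      change g * t' * g⁻¹ = t at htt
      have htsq : t * t = 1 := by rw [← pow_two, ← ht2, pow_orderOf_eq_one]
      have ht1 : t ≠ 1 := by
        rintro rfl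
        rw [orderOf_one] at ht2
        omega
      apply hg
      apply hctl t' ht'
      · have e : t' * t' = g⁻¹ * ((g * t' * g⁻¹) * (g * t' * g⁻¹)) * g := by group
        rw [e, htt, htsq]
        group
      · rintro rfl
        apply ht1
        rw [← htt]
        group
      · rw [htt]
        exact ht0
  -- an involution outside `G₀`
  obtain ⟨g, hg⟩ : ∃ g, g ∉ G₀ := by
    by_contra hcon
    push Not at hcon
    exact hne (eq_top_iff.mpr fun x _ => hcon x)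
  have hgz : g * D.z * g⁻¹ ∉ G₀ := fun h => hg (hctl D.z hz (zz D) (z_ne D h2) g h)
  have hgord : orderOf (g * D.z * g⁻¹) = 2 := by
    apply orderOf_eq_prime
    · rw [pow_two]
      have : g * D.z * g⁻¹ * (g * D.z * g⁻¹) = g * (D.z * D.z) * g⁻¹ := by group
      rw [this, zz, mul_one, mul_inv_cancel]
    · intro h
      apply hgz
      rw [h]
      exact one_mem _
  have huord : orderOf (D.z * D.w) = 2 := by
    apply orderOf_eq_prime
    · rw [pow_two]
      have : D.z * D.w * (D.z * D.w) = D.z * (D.w * D.z) * D.w := by group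
      rw [this, wz]
      have : D.z * (D.z * D.w) * D.w = (D.z * D.z) * (D.w * D.w) := by group
      rw [this, zz, D.ww, one_mul]
    · intro h
      apply w_ne_z D h2
      have : D.w = D.z * (D.z * D.w) := by rw [← mul_assoc, zz, one_mul]
      rw [this, h, mul_one]
  have hfin := (S1225.result G₀ hSE (g * D.z * g⁻¹) hgord hgz D.z D.z hzord hz hzord hz).2
  exact W₀.zu (hfin _ _ hzord huord)

/-- `gen` contains `φ₁`, `φ₂` -/
theorem gen₁ (D : Pair G F) (y : F → G) (a : SL2 F) : D.φ₁ a ∈ gen D y :=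
  Subgroup.subset_closure (Or.inl (Or.inl ⟨a, rfl⟩))

theorem gen₂ (D : Pair G F) (y : F → G) (a : SL2 F) : D.φ₂ a ∈ gen D y :=
  Subgroup.subset_closure (Or.inl (Or.inr ⟨a, rfl⟩))

/-- **Recognition of `PSp₄(q)`** from a root group: `G` simple. -/
theorem iso_of_weak [Finite G] [Finite F] [IsSimpleGroup G] (W : Weak D) (hcU : CU D) (h2 : (2 : F) ≠ 0) {y : F → G}
    (hiso : Nonempty (gen D y ≃* Cfsg.PSp 2 F)) (hw : D.w ∈ gen D y)
    (hnorm : ∀ c, c * D.z = D.z * c → c ∈ Subgroup.normalizer (gen D y : Set G)) : Nonempty (G ≃* Cfsg.PSp 2 F) := by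
  classical
  have := Fintype.ofFinite F
  obtain ⟨e⟩ := hiso
  have hs : IsSimpleGroup (Cfsg.PSp 2 F) := by
    refine S0270.result 2 le_rfl (fun _ => ?_)
    rw [← Nat.card_eq_fintype_card]
    have h3 : ({0, 1, -1} : Finset F).card = 3 := by
      rw [Finset.card_eq_three]
      refine ⟨0, 1, -1, zero_ne_one, ?_, ?_, rfl⟩
      · intro h
        exact one_ne_zero (neg_eq_zero.mp h.symm)
      · intro h
        apply h2
        linear_combination h
    rw [← h3, Nat.card_eq_fintype_card]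
    exact Finset.card_le_univ _
  have hs' : IsSimpleGroup (gen D y) := e.isSimpleGroup_congr.mpr hs
  -- `z ~ w` in `gen`
  have hzw := z_conj_w (weak_restr W (gen₁ D y) (gen₂ D y) hw) h2
  have hzw' : ∃ g ∈ Subgroup.normalizer (gen D y : Set G), g * D.z * g⁻¹ = D.w := by
    obtain ⟨g, hg⟩ := isConj_iff.mp hzw
    exact ⟨g, Subgroup.le_normalizer g.2, congrArg Subtype.val hg⟩
  have htop := eq_top W hcU h2 _ hnorm hzw'
  have hn : (gen D y).Normal := Subgroup.normalizer_eq_top_iff.mp htop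
  have hgen : gen D y = ⊤ := by
    rcases hn.eq_bot_or_eq_top with h | h
    · exfalso
      have h3 : D.z ∈ gen D y := by rw [← D.z₁]; exact gen₁ D y _
      rw [h, Subgroup.mem_bot] at h3
      exact z_ne D h2 h3
    · exact h
  exact ⟨(Subgroup.topEquiv.symm.trans (MulEquiv.subgroupCongr hgen.symm)).trans e⟩

end

end Cfsg.Agent.SpFourOdd.Closing
end

-- part: SpFourOdd/RootCalc
section
/-!
# Recognition of `PSp₄(q)`, `q` odd: calculations in the group generated by the root elements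

The elements `y`, `φ₁ (ux ·)`, `φ₂ (ux ·)` generate an abelian group on which `y2` and its conjugate `x2` act as the
elementary matrices of `GL₂` act on symmetric matrices; the same holds for the opposite group. As a consequence the
element `y2(t) x2(-t⁻¹) y2(t)` is equal to `φ₁(hx t) φ₂(hx (-t⁻¹)) w`.
-/

set_option autoImplicit false

namespace Cfsg.Agent.SpFourOdd

open Matrix

section Mat

variable {F : Type*} [Field F]

theorem coe_ux (t : F) : ((ux t : SL2 F) : Matrix (Fin 2) (Fin 2) F) = !![1, t; 0, 1] := rfl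
theorem coe_lx (t : F) : ((lx t : SL2 F) : Matrix (Fin 2) (Fin 2) F) = !![1, 0; t, 1] := rfl
theorem coe_nx : ((nx : SL2 F) : Matrix (Fin 2) (Fin 2) F) = !![0, 1; -1, 0] := rfl
theorem coe_hx (b : Fˣ) : ((hx b : SL2 F) : Matrix (Fin 2) (Fin 2) F) = !![(b : F), 0; 0, ((b⁻¹ : Fˣ) : F)] := rfl

theorem ux_add (s t : F) : ux (s + t) = ux s * ux t := by
  apply Subtype.ext
  simp only [Matrix.SpecialLinearGroup.coe_mul, coe_ux, Matrix.mul_fin_two]
  simp [add_comm]

theorem lx_add (s t : F) : lx (s + t) = lx s * lx t := by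
  apply Subtype.ext
  simp only [Matrix.SpecialLinearGroup.coe_mul, coe_lx, Matrix.mul_fin_two]
  simp

theorem ux_zero : ux (0 : F) = 1 := by
  apply Subtype.ext
  simp [coe_ux, Matrix.one_fin_two]

theorem ux_neg (t : F) : ux (-t) = (ux t)⁻¹ := by
  rw [eq_inv_iff_mul_eq_one, ← ux_add, neg_add_cancel, ux_zero]

theorem nx_mul_ux (t : F) : nx * ux t = lx (-t) * nx := by
  apply Subtype.ext
  simp only [Matrix.SpecialLinearGroup.coe_mul, coe_ux, coe_lx, coe_nx, Matrix.mul_fin_two]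
  simp

theorem nx_mul_lx (t : F) : nx * lx t = ux (-t) * nx := by
  apply Subtype.ext
  simp only [Matrix.SpecialLinearGroup.coe_mul, coe_ux, coe_lx, coe_nx, Matrix.mul_fin_two]
  simp

theorem nx_mul_nx : nx * nx = (-1 : SL2 F) := by
  apply Subtype.ext
  simp only [Matrix.SpecialLinearGroup.coe_mul, Matrix.SpecialLinearGroup.coe_neg, Matrix.SpecialLinearGroup.coe_one,
    coe_nx, Matrix.mul_fin_two]
  ext i j
  (revert i j; simp only [_root_.Fin.forall_fin_succ, _root_.MulZeroClass.mul_zero, _root_.mul_neg, _root_.mul_one, _root_.zero_add, _root_.add_zero, _root_.neg_zero, _root_.Matrix.of_apply, _root_.Matrix.cons_val', _root_.Matrix.cons_val_fin_one, _root_.Matrix.neg_apply, Fin.isValue, _root_.Matrix.cons_val_zero, _root_.Matrix.cons_val_succ, _root_.IsEmpty.forall_iff, _root_.and_true, _root_.Matrix.one_apply_eq, Nat.reduceAdd, _root_.Fin.succ_zero_eq_one, _root_.ne_eq, _root_.zero_ne_one, _root_.not_false_eq_true,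 _root_.Matrix.one_apply_ne, _root_.and_self, _root_.Fin.succ_ne_zero, _root_.neg_inj, _root_.true_and])

theorem nx_mul_hx (b : Fˣ) : nx * hx b = hx b⁻¹ * nx := by
  apply Subtype.ext
  simp only [Matrix.SpecialLinearGroup.coe_mul, coe_hx, coe_nx, Matrix.mul_fin_two]
  simp

theorem hx_mul_ux (b : Fˣ) (t : F) : hx b * ux t = ux (b * b * t) * hx b := by
  apply Subtype.ext
  simp only [Matrix.SpecialLinearGroup.coe_mul, coe_hx, coe_ux, Matrix.mul_fin_two]
  have hb : (b : F) ≠ 0 := b.ne_zero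
  ext i j
  (revert i j; simp only [_root_.Fin.forall_fin_succ, _root_.mul_one, _root_.MulZeroClass.mul_zero, _root_.add_zero, _root_.Units.val_inv_eq_inv_val, _root_.MulZeroClass.zero_mul, _root_.zero_add, _root_.Matrix.of_apply, _root_.Matrix.cons_val', _root_.Matrix.cons_val_fin_one, _root_.one_mul, Fin.isValue, _root_.Matrix.cons_val_zero, _root_.Matrix.cons_val_succ, _root_.forall_const, _root_.implies_true, _root_.and_true, _root_.true_and]) <;> (repeat' with_reducible apply And.intro)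
  field_simp

theorem hx_mul (a b : Fˣ) : hx (a * b) = hx a * hx b := by
  apply Subtype.ext
  simp only [Matrix.SpecialLinearGroup.coe_mul, coe_hx, Matrix.mul_fin_two]
  ext i j
  (revert i j; simp [mul_comm, _root_.Fin.forall_fin_succ])

theorem hx_one : hx (1 : Fˣ) = (1 : SL2 F) := by
  apply Subtype.ext
  simp [coe_hx, Matrix.one_fin_two]

theorem hx_neg_one : hx (-1 : Fˣ) = (-1 : SL2 F) := by
  apply Subtype.ext
  simp only [coe_hx, Matrix.SpecialLinearGroup.coe_neg, Matrix.SpecialLinearGroup.coe_one]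
  ext i j
  (revert i j; simp only [_root_.Fin.forall_fin_succ, _root_.Units.val_neg, _root_.Units.val_one, _root_.inv_neg, _root_.inv_one, _root_.Matrix.of_apply, _root_.Matrix.cons_val', _root_.Matrix.cons_val_fin_one, _root_.Matrix.neg_apply, Fin.isValue, _root_.Matrix.cons_val_zero, _root_.Matrix.cons_val_succ, _root_.IsEmpty.forall_iff, _root_.and_true, _root_.Matrix.one_apply_eq, Nat.reduceAdd, _root_.Fin.succ_zero_eq_one, _root_.ne_eq, _root_.zero_ne_one, _root_.not_false_eq_true, _root_.Matrix.one_apply_ne, _root_.neg_zero, _root_.and_self, _root_.Fin.succ_ne_zero, _root_.neg_inj, _root_.true_and])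

/-- `b ↦ hx b` as a homomorphism -/
def hxHom (F : Type*) [Field F] : Fˣ →* SL2 F where
  toFun := hx
  map_one' := hx_one
  map_mul' := hx_mul

theorem ux_lx_ux (t : Fˣ) : ux (t : F) * lx (-((t⁻¹ : Fˣ) : F)) * ux (t : F) = hx t * nx := by
  apply Subtype.ext
  simp only [Matrix.SpecialLinearGroup.coe_mul, coe_hx, coe_ux, coe_lx, coe_nx, Matrix.mul_fin_two]
  ext i j
  (revert i j; simp [_root_.Fin.forall_fin_succ])

theorem eq_top_of_ux_lx (S : Subgroup (SL2 F)) (h1 : ∀ t : F, ux t ∈ S) (h2 : ∀ t : F, lx t ∈ S) : S = ⊤ := by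
  have key : ∀ g : SL2 F, g.1 1 0 ≠ 0 → g ∈ S := by
    intro g hg
    have e : g = ux ((g.1 0 0 - 1) / g.1 1 0) * lx (g.1 1 0) * ux ((g.1 1 1 - 1) / g.1 1 0) := by
      have hdet := g.2
      rw [Matrix.det_fin_two] at hdet
      apply Subtype.ext
      rw [Matrix.SpecialLinearGroup.coe_mul, Matrix.SpecialLinearGroup.coe_mul]
      show g.1 = !![1, (g.1 0 0 - 1) / g.1 1 0; 0, 1] * !![1, 0; g.1 1 0, 1] * !![1, (g.1 1 1 - 1) / g.1 1 0; 0, 1]
      rw [Matrix.mul_fin_two, Matrix.mul_fin_two]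
      ext i j
      fin_cases i <;> fin_cases j
      · show g.1 0 0 = (1 * 1 + (g.1 0 0 - 1) / g.1 1 0 * g.1 1 0) * 1 + (1 * 0 + (g.1 0 0 - 1) / g.1 1 0 * 1) * 0
        field_simp; ring
      · show g.1 0 1 = (1 * 1 + (g.1 0 0 - 1) / g.1 1 0 * g.1 1 0) * ((g.1 1 1 - 1) / g.1 1 0) +
          (1 * 0 + (g.1 0 0 - 1) / g.1 1 0 * 1) * 1
        field_simp
        linear_combination -hdet
      · show g.1 1 0 = (0 * 1 + 1 * g.1 1 0) * 1 + (0 * 0 + 1 * 1) * 0
        ring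
      · show g.1 1 1 = (0 * 1 + 1 * g.1 1 0) * ((g.1 1 1 - 1) / g.1 1 0) + (0 * 0 + 1 * 1) * 1
        field_simp; ring
    rw [e]
    exact mul_mem (mul_mem (h1 _) (h2 _)) (h1 _)
  rw [eq_top_iff]
  intro g _
  by_cases hg : g.1 1 0 = 0
  · have hd : g.1 1 1 ≠ 0 := by
      intro h0
      have hdet := g.2
      rw [Matrix.det_fin_two, h0, hg] at hdet
      simp at hdet
    have h3 : g * lx 1 ∈ S := by
      apply key
      rw [Matrix.SpecialLinearGroup.coe_mul]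
      rw [coe_lx, Matrix.mul_apply, Fin.sum_univ_two]
      show g.1 1 0 * 1 + g.1 1 1 * 1 ≠ 0
      rw [hg, zero_mul, zero_add, mul_one]
      exact hd
    have h4 := mul_mem h3 (inv_mem (h2 1))
    rwa [mul_inv_cancel_right] at h4
  · exact key g hg

end Mat

section

variable {G F : Type*} [Group G] [Field F] {D : Pair G F} {y : F → G}

/-- the short root elements opposite to `y2` -/
def x2 (D : Pair G F) (y : F → G) (s : F) : G := D.φ₁ nx * y s * (D.φ₁ nx)⁻¹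

theorem Pair.w_inv (D : Pair G F) : D.w⁻¹ = D.w := inv_eq_of_mul_eq_one_left D.ww

theorem Pair.w_mul_w_mul (D : Pair G F) (g : G) : D.w * (D.w * g) = g := by rw [← mul_assoc, D.ww, one_mul]

theorem Pair.w_mul_φ₁ (D : Pair G F) (a : SL2 F) : D.w * D.φ₁ a = D.φ₂ a * D.w := by
  rw [← D.conj a]; simp only [mul_assoc, D.ww, mul_one]

theorem Pair.w_mul_φ₂ (D : Pair G F) (a : SL2 F) : D.w * D.φ₂ a = D.φ₁ a * D.w := by
  rw [← D.conj a]; simp only [mul_assoc, D.w_mul_w_mul]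

theorem Pair.conj₂ (D : Pair G F) (a : SL2 F) : D.w * D.φ₂ a * D.w = D.φ₁ a := by
  rw [D.w_mul_φ₂, mul_assoc, D.ww, mul_one]

theorem sc {g x x' x'' : G} (h : SemiconjBy g x x') (e : x' = x'') : SemiconjBy g x x'' := e ▸ h

namespace Root

variable (R : Root D y)

include R

theorem y_zero : y 0 = 1 := by
  have h := R.add 0 0
  rw [add_zero] at h
  exact (mul_eq_left.1 h.symm)

theorem y_neg (t : F) : y (-t) = (y t)⁻¹ := by
  rw [eq_inv_iff_mul_eq_one, ← R.add, neg_add_cancel, R.y_zero]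

theorem w_mul_y (t : F) : D.w * y t = y t * D.w := by
  have := R.w t
  calc D.w * y t = D.w * y t * D.w * D.w := by rw [mul_assoc _ D.w D.w, D.ww, mul_one]
    _ = y t * D.w := by rw [this]

theorem y_comm (s t : F) : y s * y t = y t * y s := by rw [← R.add, ← R.add, add_comm]

/-- `y` commutes with `φ₁ (ux ·)` -/
theorem x₁ (s t : F) : y t * D.φ₁ (ux s) = D.φ₁ (ux s) * y t := by
  have h := congrArg (fun g => D.w * g * D.w) (R.x s t)
  have e1 : D.w * (y t * D.φ₂ (ux s)) * D.w = y t * D.φ₁ (ux s) := by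
    rw [← mul_assoc, R.w_mul_y, mul_assoc, mul_assoc, ← mul_assoc D.w, D.conj₂]
  have e2 : D.w * (D.φ₂ (ux s) * y t) * D.w = D.φ₁ (ux s) * y t := by
    rw [← mul_assoc, D.w_mul_φ₂, mul_assoc (D.φ₁ (ux s)) D.w, R.w_mul_y, mul_assoc, mul_assoc, D.ww, mul_one]
  rw [e1, e2] at h
  exact h

theorem z_mul_y (t : F) : D.z * y t = y (-t) * D.z := by
  have h := R.h (-1) t
  rw [hx_neg_one, D.z₂, Units.val_neg, Units.val_one, neg_mul, one_mul] at h
  rw [← h, inv_mul_cancel_right]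

/-- the action of `φ₁ (hx b)` on `y` -/
theorem h₁ (b : Fˣ) (t : F) : D.φ₁ (hx b) * y t = y (b * t) * D.φ₁ (hx b) := by
  have h := R.h b t
  have h' : D.φ₂ (hx b) * y t = y (b * t) * D.φ₂ (hx b) := by rw [← h, inv_mul_cancel_right]
  have h2 := congrArg (fun g => D.w * g * D.w) h'
  have e1 : D.w * (D.φ₂ (hx b) * y t) * D.w = D.φ₁ (hx b) * y t := by
    rw [← mul_assoc, D.w_mul_φ₂, mul_assoc (D.φ₁ _) D.w, R.w_mul_y, mul_assoc, mul_assoc, D.ww, mul_one]
  have e2 : D.w * (y (b * t) * D.φ₂ (hx b)) * D.w = y (b * t) * D.φ₁ (hx b) := by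
    rw [← mul_assoc, R.w_mul_y, mul_assoc, mul_assoc, ← mul_assoc D.w, D.conj₂]
  rw [e1, e2] at h2
  exact h2

theorem h₂ (b : Fˣ) (t : F) : D.φ₂ (hx b) * y t = y (b * t) * D.φ₂ (hx b) := by
  rw [← R.h b t, inv_mul_cancel_right]


/-! ### `y2` and `x2` -/

theorem w_y2_w (s : F) : D.w * y2 D y s * D.w = x2 D y s := by
  unfold y2 x2
  have e : D.w * (D.φ₂ nx * y s * (D.φ₂ nx)⁻¹) * D.w =
      (D.w * D.φ₂ nx * D.w) * (D.w * y s * D.w) * (D.w * D.φ₂ nx * D.w)⁻¹ := by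
    rw [_root_.mul_inv_rev, _root_.mul_inv_rev, D.w_inv]
    simp only [mul_assoc, D.w_mul_w_mul]
  rw [e, D.conj₂, R.w]

theorem w_mul_y2 (s : F) : SemiconjBy D.w (y2 D y s) (x2 D y s) := by
  show _ = _
  rw [← w_y2_w R, mul_assoc (D.w * y2 D y s), D.ww, mul_one]

theorem w_mul_x2 (s : F) : SemiconjBy D.w (x2 D y s) (y2 D y s) := by
  show _ = _
  rw [← w_y2_w R, mul_assoc, D.w_mul_w_mul]

theorem y2_add (s t : F) : y2 D y (s + t) = y2 D y s * y2 D y t := by
  unfold y2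
  rw [R.add]; group

theorem x2_add (s t : F) : x2 D y (s + t) = x2 D y s * x2 D y t := by
  unfold x2
  rw [R.add]; group

theorem y2_zero : y2 D y 0 = 1 := by
  unfold y2
  rw [R.y_zero]; group

theorem y2_neg (t : F) : y2 D y (-t) = (y2 D y t)⁻¹ := by
  rw [eq_inv_iff_mul_eq_one, ← R.y2_add, neg_add_cancel, R.y2_zero]

theorem x2_zero : x2 D y 0 = 1 := by
  unfold x2
  rw [R.y_zero]; group

/-- `φ₁ (ux ·)` commutes with `y2` -/
theorem y2_x₁ (s t : F) : Commute (y2 D y t) (D.φ₁ (ux s)) := by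
  have h1 : Commute (D.φ₂ nx) (D.φ₁ (ux s)) := (D.comm (ux s) nx).symm
  have h2 : Commute (y t) (D.φ₁ (ux s)) := R.x₁ s t
  exact (h1.mul_left h2).mul_left h1.inv_left

end Root

/-- elements of the abelian group generated by `y`, `φ₁ (ux ·)`, `φ₂ (ux ·)` -/
def v (D : Pair G F) (y : F → G) (a b c : F) : G := y a * D.φ₁ (ux b) * D.φ₂ (ux c)

/-- the element interchanging the two opposite abelian groups -/
def c₀ (D : Pair G F) : G := D.φ₁ nx * D.φ₂ nx

namespace Root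

variable (R : Root D y)

include R

theorem v_mul (a b c a' b' c' : F) : v D y a b c * v D y a' b' c' = v D y (a + a') (b + b') (c + c') := by
  unfold v
  rw [R.add, ux_add, ux_add, map_mul, map_mul]
  have h1 : Commute (y a') (D.φ₂ (ux c)) := R.x c a'
  have h2 : Commute (y a') (D.φ₁ (ux b)) := R.x₁ b a'
  have h3 : Commute (D.φ₁ (ux b')) (D.φ₂ (ux c)) := D.comm _ _
  calc y a * D.φ₁ (ux b) * D.φ₂ (ux c) * (y a' * D.φ₁ (ux b') * D.φ₂ (ux c'))
      = y a * D.φ₁ (ux b) * (D.φ₂ (ux c) * y a') * D.φ₁ (ux b') * D.φ₂ (ux c') := by simp only [mul_assoc]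
    _ = y a * (D.φ₁ (ux b) * y a') * (D.φ₂ (ux c) * D.φ₁ (ux b')) * D.φ₂ (ux c') := by
        rw [← h1.eq]; simp only [mul_assoc]
    _ = y a * y a' * (D.φ₁ (ux b) * D.φ₁ (ux b')) * (D.φ₂ (ux c) * D.φ₂ (ux c')) := by
        rw [← h2.eq, ← h3.eq]; simp only [mul_assoc]

omit R in
theorem y_eq (a : F) : y a = v D y a 0 0 := by unfold v; rw [ux_zero, map_one, map_one, mul_one, mul_one]

theorem φ₁_eq (b : F) : D.φ₁ (ux b) = v D y 0 b 0 := by unfold v; rw [ux_zero, map_one, mul_one, R.y_zero, one_mul]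

theorem φ₂_eq (c : F) : D.φ₂ (ux c) = v D y 0 0 c := by
  unfold v; rw [ux_zero, map_one, mul_one, R.y_zero, one_mul]

/-- the action of `y2` -/
theorem y2_y (t a : F) : SemiconjBy (y2 D y t) (y a) (v D y a (2 * a * t) 0) := by
  show _ = _
  have h := R.rel2 t a
  have h2 : y a * y2 D y t * D.φ₁ (ux (2 * a * t)) = y2 D y t * y a := by
    rw [h, mul_assoc (y2 D y t * y a), ← map_mul, ← ux_add, neg_add_cancel, ux_zero, map_one, mul_one]
  rw [← h2, mul_assoc, (R.y2_x₁ _ t).eq, ← mul_assoc]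
  unfold v
  rw [ux_zero, map_one, mul_one]

theorem y2_φ₂ (t c : F) : SemiconjBy (y2 D y t) (D.φ₂ (ux c)) (v D y (c * t) (t * t * c) c) := by
  show _ = _
  have h := R.rel (-t) c
  have h2 : D.φ₂ (ux c) * y2 D y (-t) =
      y2 D y (-t) * (y (c * t) * D.φ₁ (ux (t * t * c)) * D.φ₂ (ux c)) := by
    rw [mul_neg, neg_neg, neg_mul_neg] at h
    calc D.φ₂ (ux c) * y2 D y (-t) = D.φ₂ (ux c) * y2 D y (-t) * (D.φ₂ (ux c))⁻¹ * D.φ₂ (ux c) := by
          rw [inv_mul_cancel_right]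
      _ = _ := by rw [h]; simp only [mul_assoc]
  rw [R.y2_neg] at h2
  have h3 : y2 D y t * (D.φ₂ (ux c) * (y2 D y t)⁻¹) * y2 D y t =
      y2 D y t * ((y2 D y t)⁻¹ * (y (c * t) * D.φ₁ (ux (t * t * c)) * D.φ₂ (ux c))) * y2 D y t := by rw [h2]
  rw [mul_inv_cancel_left] at h3
  rw [show y2 D y t * (D.φ₂ (ux c) * (y2 D y t)⁻¹) * y2 D y t = y2 D y t * D.φ₂ (ux c) by group] at h3
  exact h3

theorem y2_v (t a b c : F) :
    SemiconjBy (y2 D y t) (v D y a b c) (v D y (a + c * t) (b + 2 * a * t + t * t * c) c) := by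
  have h1 := R.y2_y t a
  have h2 : SemiconjBy (y2 D y t) (D.φ₁ (ux b)) (v D y 0 b 0) := by
    rw [← R.φ₁_eq]; exact R.y2_x₁ b t
  have h3 := R.y2_φ₂ t c
  have h4 := (h1.mul_right h2).mul_right h3
  rw [R.v_mul, R.v_mul] at h4
  refine sc h4 ?_
  congr 1
  · ring
  · ring
  · ring

theorem w_v (a b c : F) : SemiconjBy D.w (v D y a b c) (v D y a c b) := by
  have h1 : SemiconjBy D.w (y a) (y a) := R.w_mul_y a
  have h2 : SemiconjBy D.w (D.φ₁ (ux b)) (D.φ₂ (ux b)) := D.w_mul_φ₁ _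
  have h3 : SemiconjBy D.w (D.φ₂ (ux c)) (D.φ₁ (ux c)) := D.w_mul_φ₂ _
  have h4 := (h1.mul_right h2).mul_right h3
  refine sc h4 ?_
  unfold v
  rw [mul_assoc, mul_assoc, D.comm]

theorem x2_v (t a b c : F) :
    SemiconjBy (x2 D y t) (v D y a b c) (v D y (a + b * t) b (c + 2 * a * t + t * t * b)) := by
  have h1 := R.w_v a b c
  have h2 := R.y2_v t a c b
  have h3 := R.w_v (a + b * t) (c + 2 * a * t + t * t * b) b
  have h4 := (h3.mul_left h2).mul_left h1
  rw [R.w_y2_w] at h4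
  exact h4

theorem hx₁_v (s : Fˣ) (a b c : F) :
    SemiconjBy (D.φ₁ (hx s)) (v D y a b c) (v D y (s * a) (s * s * b) c) := by
  have h1 : SemiconjBy (D.φ₁ (hx s)) (y a) (y (s * a)) := R.h₁ s a
  have h2 : SemiconjBy (D.φ₁ (hx s)) (D.φ₁ (ux b)) (D.φ₁ (ux (s * s * b))) := by
    show _ = _
    rw [← map_mul, hx_mul_ux, map_mul]
  have h3 : SemiconjBy (D.φ₁ (hx s)) (D.φ₂ (ux c)) (D.φ₂ (ux c)) := D.comm _ _
  exact (h1.mul_right h2).mul_right h3

theorem hx₂_v (s : Fˣ) (a b c : F) :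
    SemiconjBy (D.φ₂ (hx s)) (v D y a b c) (v D y (s * a) b (s * s * c)) := by
  have h1 : SemiconjBy (D.φ₂ (hx s)) (y a) (y (s * a)) := R.h₂ s a
  have h2 : SemiconjBy (D.φ₂ (hx s)) (D.φ₁ (ux b)) (D.φ₁ (ux b)) := (D.comm _ _).symm
  have h3 : SemiconjBy (D.φ₂ (hx s)) (D.φ₂ (ux c)) (D.φ₂ (ux (s * s * c))) := by
    show _ = _
    rw [← map_mul, hx_mul_ux, map_mul]
  exact (h1.mul_right h2).mul_right h3

theorem z_y (a : F) : SemiconjBy D.z (y a) (y (-a)) := R.z_mul_y a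

omit R in
theorem nx₁_mul_nx₁ : D.φ₁ nx * D.φ₁ nx = D.z := by rw [← map_mul, nx_mul_nx, D.z₁]

omit R in
theorem nx₂_mul_nx₂ : D.φ₂ nx * D.φ₂ nx = D.z := by rw [← map_mul, nx_mul_nx, D.z₂]

omit R in
theorem nx₁_y (a : F) : SemiconjBy (D.φ₁ nx) (y a) (x2 D y a) := by
  show _ = _
  unfold x2; rw [inv_mul_cancel_right]

omit R in
theorem nx₂_y (a : F) : SemiconjBy (D.φ₂ nx) (y a) (y2 D y a) := by
  show _ = _
  unfold y2; rw [inv_mul_cancel_right]

theorem nx₁_x2 (a : F) : SemiconjBy (D.φ₁ nx) (x2 D y a) (y (-a)) := by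
  have h1 : SemiconjBy (D.φ₁ nx) (y a) (x2 D y a) := nx₁_y a
  have h2 : SemiconjBy (D.φ₁ nx * D.φ₁ nx) (y a) (y (-a)) := by
    rw [nx₁_mul_nx₁]; exact R.z_y a
  have h3 := h2.mul_left h1.inv_symm_left
  rwa [mul_inv_cancel_right] at h3

theorem nx₂_y2 (a : F) : SemiconjBy (D.φ₂ nx) (y2 D y a) (y (-a)) := by
  have h1 : SemiconjBy (D.φ₂ nx) (y a) (y2 D y a) := nx₂_y a
  have h2 : SemiconjBy (D.φ₂ nx * D.φ₂ nx) (y a) (y (-a)) := by
    rw [nx₂_mul_nx₂]; exact R.z_y a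
  have h3 := h2.mul_left h1.inv_symm_left
  rwa [mul_inv_cancel_right] at h3

omit R in
/-- the opposite short root element -/
theorem nx₂_x2 (a : F) : SemiconjBy (D.φ₂ nx) (x2 D y a) (c₀ D * y a * (c₀ D)⁻¹) := by
  show _ = _
  unfold x2 c₀
  rw [D.comm nx nx]
  group

omit R in
theorem nx₁_y2 (a : F) : SemiconjBy (D.φ₁ nx) (y2 D y a) (c₀ D * y a * (c₀ D)⁻¹) := by
  show _ = _
  unfold y2 c₀
  group

theorem c₀_x2 (a : F) : SemiconjBy (c₀ D) (x2 D y a) (y2 D y (-a)) := by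
  have h1 := R.nx₁_x2 a
  have h2 : SemiconjBy (D.φ₂ nx) (y (-a)) (y2 D y (-a)) := nx₂_y (-a)
  have h3 := h2.mul_left h1
  unfold c₀
  rw [D.comm nx nx]
  exact h3

theorem c₀_y2 (a : F) : SemiconjBy (c₀ D) (y2 D y a) (x2 D y (-a)) := by
  have h1 := R.nx₂_y2 a
  have h2 : SemiconjBy (D.φ₁ nx) (y (-a)) (x2 D y (-a)) := nx₁_y (-a)
  exact h2.mul_left h1

omit R in
theorem semiconj_conj {g g' c x x' : G} (h : SemiconjBy c g' g) (h' : SemiconjBy g' x x') :
    SemiconjBy g (c * x * c⁻¹) (c * x' * c⁻¹) := by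
  have h0 : c * g' = g * c := h
  have h1 : g' * x = x' * g' := h'
  show g * (c * x * c⁻¹) = c * x' * c⁻¹ * g
  have h2 : c⁻¹ * g = g' * c⁻¹ := by
    rw [inv_mul_eq_iff_eq_mul, ← mul_assoc, h0, mul_inv_cancel_right]
  calc g * (c * x * c⁻¹) = (g * c) * x * c⁻¹ := by simp only [mul_assoc]
    _ = c * (g' * x) * c⁻¹ := by rw [← h0]; simp only [mul_assoc]
    _ = c * x' * (g' * c⁻¹) := by rw [h1]; simp only [mul_assoc]
    _ = c * x' * c⁻¹ * g := by rw [← h2]; simp only [mul_assoc]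

/-- the element `n(t)` -/
def nt (D : Pair G F) (y : F → G) (t : Fˣ) : G := y2 D y t * x2 D y (-((t⁻¹ : Fˣ) : F)) * y2 D y t

/-- the other form of `n(t)` -/
def nt' (D : Pair G F) (t : Fˣ) : G := D.φ₁ (hx t) * D.φ₂ (hx (-t⁻¹)) * D.w

theorem nt_v (t : Fˣ) (a b c : F) : SemiconjBy (nt D y t) (v D y a b c)
    (v D y (-a) (t * t * c) ((t⁻¹ : Fˣ) * (t⁻¹ : Fˣ) * b)) := by
  have h1 := R.y2_v (t : F) a b c
  have h2 := R.x2_v (-((t⁻¹ : Fˣ) : F)) (a + c * t) (b + 2 * a * t + t * t * c) c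
  have h3 := R.y2_v (t : F) (a + c * t + (b + 2 * a * t + t * t * c) * (-((t⁻¹ : Fˣ) : F)))
    (b + 2 * a * t + t * t * c)
    (c + 2 * (a + c * t) * (-((t⁻¹ : Fˣ) : F)) +
      (-((t⁻¹ : Fˣ) : F)) * (-((t⁻¹ : Fˣ) : F)) * (b + 2 * a * t + t * t * c))
  have h4 := (h3.mul_left h2).mul_left h1
  have ht : (t : F) ≠ 0 := t.ne_zero
  have hi : ((t⁻¹ : Fˣ) : F) = (t : F)⁻¹ := Units.val_inv_eq_inv_val t
  refine sc h4 ?_
  rw [hi]
  congr 1
  all_goals (field_simp; ring)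

theorem nt'_v (t : Fˣ) (a b c : F) : SemiconjBy (nt' D t) (v D y a b c)
    (v D y (-a) (t * t * c) ((t⁻¹ : Fˣ) * (t⁻¹ : Fˣ) * b)) := by
  have h1 := R.w_v a b c
  have h2 := R.hx₂_v (-t⁻¹) a c b
  have h3 := R.hx₁_v t (((-t⁻¹ : Fˣ) : F) * a) c (((-t⁻¹ : Fˣ) : F) * ((-t⁻¹ : Fˣ) : F) * b)
  have h4 := (h3.mul_left h2).mul_left h1
  have ht : (t : F) ≠ 0 := t.ne_zero
  have hi : ((t⁻¹ : Fˣ) : F) = (t : F)⁻¹ := Units.val_inv_eq_inv_val t
  refine sc h4 ?_
  rw [Units.val_neg, hi]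
  congr 1
  all_goals (field_simp)

/-- the opposite abelian group -/
theorem nt_vm (t : Fˣ) (a b c : F) : SemiconjBy (nt D y t) (c₀ D * v D y a b c * (c₀ D)⁻¹)
    (c₀ D * v D y (-a) ((t⁻¹ : Fˣ) * (t⁻¹ : Fˣ) * c) (t * t * b) * (c₀ D)⁻¹) := by
  have e1 : ∀ s : F, SemiconjBy (c₀ D) (x2 D y (-s)) (y2 D y s) := fun s => by
    have := R.c₀_x2 (-s); rwa [neg_neg] at this
  have e2 : ∀ s : F, SemiconjBy (c₀ D) (y2 D y (-s)) (x2 D y s) := fun s => by
    have := R.c₀_y2 (-s); rwa [neg_neg] at this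
  have ht : (t : F) ≠ 0 := t.ne_zero
  have hi : ((t⁻¹ : Fˣ) : F) = (t : F)⁻¹ := Units.val_inv_eq_inv_val t
  have h1 := semiconj_conj (e1 (t : F)) (R.x2_v (-(t : F)) a b c)
  have h2 := semiconj_conj (e2 (-((t⁻¹ : Fˣ) : F))) (R.y2_v (-(-((t⁻¹ : Fˣ) : F))) (a + b * -(t : F)) b
    (c + 2 * a * -(t : F) + -(t : F) * -(t : F) * b))
  have h3 := semiconj_conj (e1 (t : F)) (R.x2_v (-(t : F))
    (a + b * -(t : F) + (c + 2 * a * -(t : F) + -(t : F) * -(t : F) * b) * -(-((t⁻¹ : Fˣ) : F)))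
    (b + 2 * (a + b * -(t : F)) * -(-((t⁻¹ : Fˣ) : F)) + -(-((t⁻¹ : Fˣ) : F)) * -(-((t⁻¹ : Fˣ) : F)) *
      (c + 2 * a * -(t : F) + -(t : F) * -(t : F) * b))
    (c + 2 * a * -(t : F) + -(t : F) * -(t : F) * b))
  have h4 := (h3.mul_left h2).mul_left h1
  refine sc h4 ?_
  rw [hi]
  congr 2
  congr 1
  all_goals (field_simp; ring)

omit R in
theorem c₀_hx₁ (s : Fˣ) : SemiconjBy (c₀ D) (D.φ₁ (hx s)) (D.φ₁ (hx s⁻¹)) := by
  have h1 : SemiconjBy (D.φ₂ nx) (D.φ₁ (hx s)) (D.φ₁ (hx s)) := (D.comm _ _).symm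
  have h2 : SemiconjBy (D.φ₁ nx) (D.φ₁ (hx s)) (D.φ₁ (hx s⁻¹)) := by
    show _ = _
    rw [← map_mul, nx_mul_hx, map_mul]
  exact h2.mul_left h1

omit R in
theorem c₀_hx₂ (s : Fˣ) : SemiconjBy (c₀ D) (D.φ₂ (hx s)) (D.φ₂ (hx s⁻¹)) := by
  have h1 : SemiconjBy (D.φ₂ nx) (D.φ₂ (hx s)) (D.φ₂ (hx s⁻¹)) := by
    show _ = _
    rw [← map_mul, nx_mul_hx, map_mul]
  have h2 : SemiconjBy (D.φ₁ nx) (D.φ₂ (hx s⁻¹)) (D.φ₂ (hx s⁻¹)) := D.comm _ _
  exact h2.mul_left h1

omit R in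
theorem c₀_w : SemiconjBy (c₀ D) D.w D.w := by
  show _ = _
  unfold c₀
  rw [← mul_assoc, D.w_mul_φ₁, mul_assoc (D.φ₂ nx), D.w_mul_φ₂, ← mul_assoc, D.comm]

theorem nt'_vm (t : Fˣ) (a b c : F) : SemiconjBy (nt' D t) (c₀ D * v D y a b c * (c₀ D)⁻¹)
    (c₀ D * v D y (-a) ((t⁻¹ : Fˣ) * (t⁻¹ : Fˣ) * c) (t * t * b) * (c₀ D)⁻¹) := by
  have e1 : ∀ s : Fˣ, SemiconjBy (c₀ D) (D.φ₁ (hx s⁻¹)) (D.φ₁ (hx s)) := fun s => by
    have := c₀_hx₁ (D := D) s⁻¹; rwa [inv_inv] at this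
  have e2 : ∀ s : Fˣ, SemiconjBy (c₀ D) (D.φ₂ (hx s⁻¹)) (D.φ₂ (hx s)) := fun s => by
    have := c₀_hx₂ (D := D) s⁻¹; rwa [inv_inv] at this
  have ht : (t : F) ≠ 0 := t.ne_zero
  have hi : ((t⁻¹ : Fˣ) : F) = (t : F)⁻¹ := Units.val_inv_eq_inv_val t
  have h1 := semiconj_conj c₀_w (R.w_v a b c)
  have h2 := semiconj_conj (e2 (-t⁻¹)) (R.hx₂_v (-t⁻¹)⁻¹ a c b)
  have h3 := semiconj_conj (e1 t) (R.hx₁_v t⁻¹ ((((-t⁻¹)⁻¹ : Fˣ) : F) * a) c
    ((((-t⁻¹)⁻¹ : Fˣ) : F) * (((-t⁻¹)⁻¹ : Fˣ) : F) * b))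
  have h4 := (h3.mul_left h2).mul_left h1
  refine sc h4 ?_
  rw [Units.val_inv_eq_inv_val (-t⁻¹), Units.val_neg, hi]
  congr 2
  congr 1
  all_goals (field_simp)

/-- the two forms of `n(t)` agree -/
theorem nt_eq (t : Fˣ) : nt D y t = nt' D t := by
  have k1 : ∀ a b c, Commute ((nt' D t)⁻¹ * nt D y t) (v D y a b c) := fun a b c =>
    (R.nt'_v t a b c).inv_symm_left.mul_left (R.nt_v t a b c)
  have k2 : ∀ a b c, Commute ((nt' D t)⁻¹ * nt D y t) (c₀ D * v D y a b c * (c₀ D)⁻¹) := fun a b c =>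
    (R.nt'_vm t a b c).inv_symm_left.mul_left (R.nt_vm t a b c)
  have l1 : ∀ b : F, c₀ D * D.φ₁ (ux b) * (c₀ D)⁻¹ = D.φ₁ (lx (-b)) := by
    intro b
    unfold c₀
    rw [mul_inv_eq_iff_eq_mul, mul_assoc (D.φ₁ nx), ← D.comm, ← mul_assoc, ← map_mul, nx_mul_ux, map_mul, mul_assoc]
  have l2 : ∀ b : F, c₀ D * D.φ₂ (ux b) * (c₀ D)⁻¹ = D.φ₂ (lx (-b)) := by
    intro b
    unfold c₀
    rw [mul_inv_eq_iff_eq_mul, mul_assoc (D.φ₁ nx), ← map_mul, nx_mul_ux, map_mul, ← mul_assoc, D.comm,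
      mul_assoc]
  have f1 : ∀ a, ((nt' D t)⁻¹ * nt D y t) * D.φ₁ a = D.φ₁ a * ((nt' D t)⁻¹ * nt D y t) := by
    let S : Subgroup (SL2 F) := (Subgroup.centralizer {(nt' D t)⁻¹ * nt D y t}).comap D.φ₁
    have hS : S = ⊤ := by
      apply eq_top_of_ux_lx
      · intro b
        rw [Subgroup.mem_comap, Subgroup.mem_centralizer_singleton_iff, R.φ₁_eq]
        exact (k1 0 b 0).symm.eq
      · intro b
        rw [Subgroup.mem_comap, Subgroup.mem_centralizer_singleton_iff]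
        have h := k2 0 (-b) 0
        rw [← R.φ₁_eq, l1, neg_neg] at h
        exact h.symm.eq
    intro a
    have ha : a ∈ S := by rw [hS]; trivial
    rw [Subgroup.mem_comap, Subgroup.mem_centralizer_singleton_iff] at ha
    exact ha.symm
  have f2 : ∀ a, ((nt' D t)⁻¹ * nt D y t) * D.φ₂ a = D.φ₂ a * ((nt' D t)⁻¹ * nt D y t) := by
    let S : Subgroup (SL2 F) := (Subgroup.centralizer {(nt' D t)⁻¹ * nt D y t}).comap D.φ₂
    have hS : S = ⊤ := by
      apply eq_top_of_ux_lx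
      · intro b
        rw [Subgroup.mem_comap, Subgroup.mem_centralizer_singleton_iff, R.φ₂_eq]
        exact (k1 0 0 b).symm.eq
      · intro b
        rw [Subgroup.mem_comap, Subgroup.mem_centralizer_singleton_iff]
        have h := k2 0 0 (-b)
        rw [← R.φ₂_eq, l2, neg_neg] at h
        exact h.symm.eq
    intro a
    have ha : a ∈ S := by rw [hS]; trivial
    rw [Subgroup.mem_comap, Subgroup.mem_centralizer_singleton_iff] at ha
    exact ha.symm
  have f3 : ∀ s, ((nt' D t)⁻¹ * nt D y t) * y s = y s * ((nt' D t)⁻¹ * nt D y t) := by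
    intro s
    have h := (k1 s 0 0).eq
    rw [← y_eq (D := D) (y := y) s] at h
    exact h
  have := R.faithful _ f1 f2 f3
  exact (inv_mul_eq_one.1 this).symm

/-- `w` lies in the group generated by `φ₁`, `φ₂`, `y` -/
theorem w_mem' : D.w ∈ gen D y := by
  have h := R.nt_eq 1
  have m1 : ∀ a, D.φ₁ a ∈ gen D y := fun a => Subgroup.subset_closure (Or.inl (Or.inl ⟨a, rfl⟩))
  have m2 : ∀ a, D.φ₂ a ∈ gen D y := fun a => Subgroup.subset_closure (Or.inl (Or.inr ⟨a, rfl⟩))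
  have m3 : ∀ a, y a ∈ gen D y := fun a => Subgroup.subset_closure (Or.inr ⟨a, rfl⟩)
  have m4 : ∀ a, y2 D y a ∈ gen D y := fun a => mul_mem (mul_mem (m2 _) (m3 _)) (inv_mem (m2 _))
  have m5 : ∀ a, x2 D y a ∈ gen D y := fun a => mul_mem (mul_mem (m1 _) (m3 _)) (inv_mem (m1 _))
  have h1 : nt' D 1 ∈ gen D y := by
    rw [← h]; exact mul_mem (mul_mem (m4 _) (m5 _)) (m4 _)
  have h2 : D.w = (D.φ₁ (hx 1) * D.φ₂ (hx (-1⁻¹)))⁻¹ * nt' D 1 := by
    unfold nt'
    rw [inv_mul_cancel_left]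
  rw [h2]
  exact mul_mem (inv_mem (mul_mem (m1 _) (m2 _))) h1

end Root

end

end Cfsg.Agent.SpFourOdd
end

-- part: SpFourOdd/Steinberg
section
/-!
# Recognition of `PSp₄(q)`, `q` odd: the group generated by the root elements

A root group `y` for a pair `φ₁, φ₂` of copies of `SL₂(F)` gives a homomorphism of the group with Steinberg's
presentation of type `B₂` onto the group generated by `φ₁`, `φ₂` and `y`; this group has trivial centre and is
therefore isomorphic to `PSp₄(F)`.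
-/

set_option autoImplicit false

namespace Cfsg.Agent.SpFourOdd

open Cfsg.Lie

section Tables

/-- the permutations of the roots given by `φ₁ nx`, `φ₂ nx`, `w` -/
def sg (i r : ℕ) : ℕ :=
  (([[7, 5, 6, 3, 4, 1, 2, 0], [0, 2, 1, 4, 3, 6, 5, 7], [3, 1, 5, 0, 7, 2, 6, 4]] : List (List ℕ)).getD i []).getD r 0

/-- the signs in the action of `φ₁ nx`, `φ₂ nx`, `w` on the root elements -/
def es (i r : ℕ) : ℤ :=
  (([[-1, 1, -1, 1, 1, -1, 1, -1], [1, 1, -1, -1, -1, -1, 1, 1], [-1, 1, 1, -1, -1, 1, 1, -1]] :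
    List (List ℤ)).getD i []).getD r 1

theorem sg_lt : ∀ i < 3, ∀ r < 8, sg i r < 8 := by decide +kernel
theorem sg_sg : ∀ i < 3, ∀ r < 8, sg i (sg i r) = r := by decide +kernel
theorem sg_neg : ∀ i < 3, ∀ r < 8, chevB2.neg (sg i r) = sg i (chevB2.neg r) := by decide +kernel
theorem neg_lt : ∀ r < 8, chevB2.neg r < 8 := by decide +kernel
theorem es_neg : ∀ i < 3, ∀ r < 8, es i (chevB2.neg r) = es i r := by decide +kernel
theorem es_sq : ∀ i < 3, ∀ r < 8, es i r * es i r = 1 := by decide +kernel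
theorem terms_lt : ∀ r < 8, ∀ s < 8, ∀ c ∈ chevB2.commTerms r s, c.1 < 8 := by decide +kernel
set_option synthInstance.maxSize 1000 in
theorem terms_sg' : ∀ i < 3, ∀ r < 8, ∀ s < 8, s = r ∨ s = chevB2.neg r ∨
    chevB2.commTerms (sg i r) (sg i s) = (chevB2.commTerms r s).map fun c =>
      (sg i c.1, es i c.1 * es i r ^ c.2.2.1 * es i s ^ c.2.2.2 * c.2.1, c.2.2) := by decide +kernel

theorem terms_sg (i : ℕ) (hi : i < 3) (r : ℕ) (hr : r < 8) (s : ℕ) (hs : s < 8) (h1 : s ≠ r)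
    (h2 : s ≠ chevB2.neg r) :
    chevB2.commTerms (sg i r) (sg i s) = (chevB2.commTerms r s).map fun c =>
      (sg i c.1, es i c.1 * es i r ^ c.2.2.1 * es i s ^ c.2.2.2 * c.2.1, c.2.2) :=
  ((terms_sg' i hi r hr s hs).resolve_left h1).resolve_left h2

/-- the elements applied one after the other -/
def appl (w : List ℕ) (r : ℕ) : ℕ := w.foldl (fun r i => sg i r) r

theorem appl_cons (i : ℕ) (w : List ℕ) (r : ℕ) : appl (i :: w) r = appl w (sg i r) := rfl

/-- the words used -/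
def wrds : List (List ℕ) := [[], [0], [1], [2], [0, 1], [2, 0], [2, 1], [2, 0, 1], [0, 2], [1, 2], [0, 1, 2]]

theorem wrds_lt : ∀ w ∈ wrds, ∀ i ∈ w, i < 3 := by decide +kernel

theorem base_pairs : ∀ r < 8, ∀ s < 8, s = r ∨ s = chevB2.neg r ∨ ∃ w ∈ wrds,
    (appl w r, appl w s) ∈ [(7, 4), (4, 6), (6, 4), (6, 5), (4, 5), (5, 4)] := by decide +kernel

theorem base_roots : ∀ r < 8, ∃ w ∈ wrds, appl w r ∈ [7, 5] := by decide +kernel

end Tables

section

variable {G F : Type*} [Group G] [Field F]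

/-- the commutator relation for the pair `(r, s)` -/
def Rel (X : ℕ → F → G) (r s : ℕ) : Prop :=
  ∀ t u : F, (X s u)⁻¹ * (X r t)⁻¹ * X s u * X r t = ((chevB2.commWord F r s t u).map fun p => X p.1 p.2).prod

/-- relation (R3) for the root `r` -/
def HRel (X : ℕ → F → G) (r : ℕ) : Prop :=
  ∃ (h : Fˣ →* G) (n : G), ∀ t : Fˣ, X r t * X (chevB2.neg r) (-((t : F)⁻¹)) * X r t = h t * n

variable {X : ℕ → F → G} {n : ℕ → G}

theorem es_cast_sq (F : Type*) [Field F] {i r : ℕ} (hi : i < 3) (hr : r < 8) : ((es i r : ℤ) : F) * ((es i r : ℤ) : F) = 1 := by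
  rw [← Int.cast_mul, es_sq i hi r hr, Int.cast_one]

theorem Rel.conj (hn : ∀ i < 3, ∀ r < 8, ∀ t, n i * X r t * (n i)⁻¹ = X (sg i r) ((es i r : ℤ) * t))
    {i : ℕ} (hi : i < 3) {r s : ℕ} (hr : r < 8) (hs : s < 8) (h1 : s ≠ r) (h2 : s ≠ chevB2.neg r)
    (h : Rel X r s) : Rel X (sg i r) (sg i s) := by
  intro t u
  have er := es_cast_sq F hi hr
  have es' := es_cast_sq F hi hs
  have hr' : X (sg i r) t = n i * X r ((es i r : ℤ) * t) * (n i)⁻¹ := by
    rw [hn i hi r hr, ← mul_assoc, er, one_mul]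
  have hs' : X (sg i s) u = n i * X s ((es i s : ℤ) * u) * (n i)⁻¹ := by
    rw [hn i hi s hs, ← mul_assoc, es', one_mul]
  rw [hr', hs']
  have e1 : (n i * X s ((es i s : ℤ) * u) * (n i)⁻¹)⁻¹ * (n i * X r ((es i r : ℤ) * t) * (n i)⁻¹)⁻¹ *
      (n i * X s ((es i s : ℤ) * u) * (n i)⁻¹) * (n i * X r ((es i r : ℤ) * t) * (n i)⁻¹) =
      MulAut.conj (n i) ((X s ((es i s : ℤ) * u))⁻¹ * (X r ((es i r : ℤ) * t))⁻¹ * X s ((es i s : ℤ) * u) *
        X r ((es i r : ℤ) * t)) := by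
    simp only [map_mul, map_inv, MulAut.conj_apply]
  rw [e1, h, map_list_prod, List.map_map]
  unfold ChevalleyDatum.commWord
  rw [terms_sg i hi r hr s hs h1 h2, List.map_map, List.map_map, List.map_map]
  congr 1
  apply List.map_congr_left
  intro c hc
  show MulAut.conj (n i) (X c.1 _) = X (sg i c.1) _
  rw [MulAut.conj_apply, hn i hi c.1 (terms_lt r hr s hs c hc)]
  congr 1
  push_cast
  rw [neg_mul_eq_mul_neg, mul_pow, mul_pow]
  ring

theorem Rel.of_word (hn : ∀ i < 3, ∀ r < 8, ∀ t, n i * X r t * (n i)⁻¹ = X (sg i r) ((es i r : ℤ) * t))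
    (w : List ℕ) (hw : ∀ i ∈ w, i < 3) {r s : ℕ} (hr : r < 8) (hs : s < 8) (h1 : s ≠ r)
    (h2 : s ≠ chevB2.neg r) (h : Rel X (appl w r) (appl w s)) : Rel X r s := by
  induction w generalizing r s with
  | nil => exact h
  | cons i w ih =>
    have hi : i < 3 := hw i (List.mem_cons_self ..)
    rw [appl_cons, appl_cons] at h
    have hr' := sg_lt i hi r hr
    have hs' := sg_lt i hi s hs
    have h1' : sg i s ≠ sg i r := fun e => h1 (by rw [← sg_sg i hi s hs, e, sg_sg i hi r hr])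
    have h2' : sg i s ≠ chevB2.neg (sg i r) := fun e => h2 (by
      rw [sg_neg i hi r hr] at e
      rw [← sg_sg i hi s hs, e, sg_sg i hi _ (neg_lt r hr)])
    have h3 := ih (fun j hj => hw j (List.mem_cons_of_mem _ hj)) hr' hs' h1' h2' h
    have h4 := Rel.conj hn hi hr' hs' h1' h2' h3
    rwa [sg_sg i hi r hr, sg_sg i hi s hs] at h4

theorem HRel.conj (hn : ∀ i < 3, ∀ r < 8, ∀ t, n i * X r t * (n i)⁻¹ = X (sg i r) ((es i r : ℤ) * t))
    {i : ℕ} (hi : i < 3) {r : ℕ} (hr : r < 8) (h : HRel X r) : HRel X (sg i r) := by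
  obtain ⟨f, m, h⟩ := h
  have er := es_cast_sq F hi hr
  let e : Fˣ := ⟨((es i r : ℤ) : F), ((es i r : ℤ) : F), er, er⟩
  refine ⟨(MulAut.conj (n i)).toMonoidHom.comp f, MulAut.conj (n i) (f e * m), fun t => ?_⟩
  have h1 := congrArg (MulAut.conj (n i)) (h (e * t))
  rw [map_mul, map_mul, MulAut.conj_apply, MulAut.conj_apply, hn i hi r hr, hn i hi _ (neg_lt r hr),
    ← sg_neg i hi r hr, es_neg i hi r hr] at h1
  have e1 : ((es i r : ℤ) : F) * ((e * t : Fˣ) : F) = t := by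
    show ((es i r : ℤ) : F) * (((es i r : ℤ) : F) * (t : F)) = t
    rw [← mul_assoc, er, one_mul]
  have e2 : ((es i r : ℤ) : F) * -(((e * t : Fˣ) : F)⁻¹) = -((t : F)⁻¹) := by
    show ((es i r : ℤ) : F) * -((((es i r : ℤ) : F) * (t : F))⁻¹) = -((t : F)⁻¹)
    rw [mul_inv, mul_neg, ← mul_assoc]
    have e0 : ((es i r : ℤ) : F)⁻¹ = ((es i r : ℤ) : F) := inv_eq_of_mul_eq_one_left er
    rw [e0, er, one_mul]
  rw [e1, e2] at h1
  rw [h1, mul_comm e t, map_mul f, mul_assoc (f t), map_mul]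
  rfl

theorem HRel.of_word (hn : ∀ i < 3, ∀ r < 8, ∀ t, n i * X r t * (n i)⁻¹ = X (sg i r) ((es i r : ℤ) * t))
    (w : List ℕ) (hw : ∀ i ∈ w, i < 3) {r : ℕ} (hr : r < 8) (h : HRel X (appl w r)) : HRel X r := by
  induction w generalizing r with
  | nil => exact h
  | cons i w ih =>
    have hi : i < 3 := hw i (List.mem_cons_self ..)
    rw [appl_cons] at h
    have h3 := ih (fun j hj => hw j (List.mem_cons_of_mem _ hj)) (sg_lt i hi r hr) h
    have h4 := HRel.conj hn hi (sg_lt i hi r hr) h3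
    rwa [sg_sg i hi r hr] at h4

/-- **Criterion** for a homomorphism from the group given by Steinberg's presentation of type `B₂`. -/
theorem exists_hom (X1 : ∀ r t, ¬ r < 8 → X r t = 1)
    (hadd : ∀ r < 8, ∀ t u, X r t * X r u = X r (t + u))
    (hn : ∀ i < 3, ∀ r < 8, ∀ t, n i * X r t * (n i)⁻¹ = X (sg i r) ((es i r : ℤ) * t))
    (hrel : ∀ p ∈ ([(7, 4), (4, 6), (6, 4), (6, 5), (4, 5), (5, 4)] : List (ℕ × ℕ)), Rel X p.1 p.2)
    (hh : ∀ r ∈ ([7, 5] : List ℕ), HRel X r) :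
    ∃ ψ : chevB2.SteinbergGroup F →* G, ∀ r t, ψ (chevB2.stGen F r t) = X r t := by
  have hneg : ∀ r < 8, ∀ t, X r (-t) = (X r t)⁻¹ := by
    intro r hr t
    have h0 : X r 0 = 1 := by
      have := hadd r hr 0 0
      rw [add_zero] at this
      exact mul_eq_left.1 this
    rw [eq_inv_iff_mul_eq_one, hadd r hr, neg_add_cancel, h0]
  refine ⟨ChevalleyStructure.StBasic.lift chevB2 X X1 (fun r t₁ t₂ hr => hadd r hr t₁ t₂) ?_ ?_, fun r t =>
    ChevalleyStructure.StBasic.lift_stGen chevB2 X X1 _ _ _ r t⟩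
  · intro r s t u hr hs h1 h2
    obtain ⟨w, hw, h⟩ := ((base_pairs r hr s hs).resolve_left h1).resolve_left h2
    exact Rel.of_word hn w (wrds_lt w hw) hr hs h1 h2 (hrel _ h) t u
  · intro r t₁ t₂ hr ht₁ ht₂
    obtain ⟨w, hw, h⟩ := base_roots r hr
    obtain ⟨f, m, h⟩ := HRel.of_word hn w (wrds_lt w hw) hr (hh _ h)
    have key : ∀ t : F, ∀ ht : t ≠ 0, ((chevB2.hWord r t).map fun p => X p.1 p.2).prod = f (Units.mk0 t ht) := by
      intro t ht
      simp only [ChevalleyDatum.hWord, ChevalleyDatum.nWord, List.map_append, List.map_cons, List.map_nil,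
        List.prod_append, List.prod_cons, List.prod_nil, mul_one]
      have e1 : X r t * (X (chevB2.neg r) (-t⁻¹) * X r t) = f (Units.mk0 t ht) * m := by
        rw [← mul_assoc]; exact h (Units.mk0 t ht)
      have e2 : X r (-1) * (X (chevB2.neg r) (-(-1)⁻¹) * X r (-1)) = m⁻¹ := by
        have h3 := h 1
        rw [map_one, one_mul, Units.val_one, inv_one] at h3
        rw [← h3, inv_neg, inv_one, hneg r hr, hneg _ (neg_lt r hr), hneg _ (neg_lt r hr), mul_inv_rev, mul_inv_rev,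
          inv_inv]
      rw [e1, e2, mul_inv_cancel_right]
    rw [key t₁ ht₁, key t₂ ht₂, key (t₁ * t₂) (mul_ne_zero ht₁ ht₂), ← map_mul]
    congr 1
    ext
    rfl

end

section

variable {G F : Type*} [Group G] [Field F] {D : Pair G F} {y : F → G}

theorem z_comm₁ (D : Pair G F) (a : SL2 F) : SemiconjBy (D.φ₁ a) D.z D.z := by
  rw [← D.z₂]; exact D.comm _ _

theorem z_comm₂ (D : Pair G F) (a : SL2 F) : SemiconjBy (D.φ₂ a) D.z D.z := by
  rw [← D.z₁]; exact (D.comm _ _).symm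

theorem Root.z_y2 (R : Root D y) (a : F) : SemiconjBy D.z (y2 D y a) (y2 D y (-a)) :=
  Root.semiconj_conj (z_comm₂ D nx) (R.z_y a)

theorem Root.z_x2 (R : Root D y) (a : F) : SemiconjBy D.z (x2 D y a) (x2 D y (-a)) :=
  Root.semiconj_conj (z_comm₁ D nx) (R.z_y a)

theorem Root.nx₁_c₀ (R : Root D y) (a : F) : SemiconjBy (D.φ₁ nx) (c₀ D * y a * (c₀ D)⁻¹) (y2 D y (-a)) := by
  have h2 : SemiconjBy (D.φ₁ nx * D.φ₁ nx) (y2 D y a) (y2 D y (-a)) := by
    rw [Root.nx₁_mul_nx₁]; exact R.z_y2 a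
  have h3 := h2.mul_left (Root.nx₁_y2 (D := D) (y := y) a).inv_symm_left
  rwa [mul_inv_cancel_right] at h3

theorem Root.nx₂_c₀ (R : Root D y) (a : F) : SemiconjBy (D.φ₂ nx) (c₀ D * y a * (c₀ D)⁻¹) (x2 D y (-a)) := by
  have h2 : SemiconjBy (D.φ₂ nx * D.φ₂ nx) (x2 D y a) (x2 D y (-a)) := by
    rw [Root.nx₂_mul_nx₂]; exact R.z_x2 a
  have h3 := h2.mul_left (Root.nx₂_x2 (D := D) (y := y) a).inv_symm_left
  rwa [mul_inv_cancel_right] at h3

/-- the root elements, indexed as in `chevB2` -/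
def X (D : Pair G F) (y : F → G) (r : ℕ) (t : F) : G :=
  match r with
  | 0 => D.φ₁ (lx t)
  | 1 => c₀ D * y (-t) * (c₀ D)⁻¹
  | 2 => x2 D y t
  | 3 => D.φ₂ (lx (-t))
  | 4 => D.φ₂ (ux (-t))
  | 5 => y2 D y t
  | 6 => y t
  | 7 => D.φ₁ (ux t)
  | _ => 1

/-- the elements representing reflections -/
def nn (D : Pair G F) (i : ℕ) : G :=
  match i with
  | 0 => D.φ₁ nx
  | 1 => D.φ₂ nx
  | _ => D.w

theorem nn_zero (R : Root D y) (r : ℕ) (hr : r < 8) (t : F) :
    SemiconjBy (D.φ₁ nx) (X D y r t) (X D y (sg 0 r) ((es 0 r : ℤ) * t)) := by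
  have e1 : ((1 : ℤ) : F) * t = t := by rw [Int.cast_one, one_mul]
  have e2 : ((-1 : ℤ) : F) * t = -t := by rw [Int.cast_neg, Int.cast_one, neg_mul, one_mul]
  interval_cases r
  · show SemiconjBy _ (D.φ₁ (lx t)) (D.φ₁ (ux (((-1 : ℤ) : F) * t)))
    rw [e2]
    show _ = _
    rw [← map_mul, nx_mul_lx, map_mul]
  · show SemiconjBy _ (c₀ D * y (-t) * (c₀ D)⁻¹) (y2 D y (((1 : ℤ) : F) * t))
    rw [e1]
    have := R.nx₁_c₀ (-t)
    rwa [neg_neg] at this
  · show SemiconjBy _ (x2 D y t) (y (((-1 : ℤ) : F) * t))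
    rw [e2]
    exact R.nx₁_x2 t
  · show SemiconjBy _ (D.φ₂ (lx (-t))) (D.φ₂ (lx (-(((1 : ℤ) : F) * t))))
    rw [e1]
    exact D.comm _ _
  · show SemiconjBy _ (D.φ₂ (ux (-t))) (D.φ₂ (ux (-(((1 : ℤ) : F) * t))))
    rw [e1]
    exact D.comm _ _
  · show SemiconjBy _ (y2 D y t) (c₀ D * y (-(((-1 : ℤ) : F) * t)) * (c₀ D)⁻¹)
    rw [e2, neg_neg]
    exact Root.nx₁_y2 t
  · show SemiconjBy _ (y t) (x2 D y (((1 : ℤ) : F) * t))
    rw [e1]
    exact Root.nx₁_y t
  · show SemiconjBy _ (D.φ₁ (ux t)) (D.φ₁ (lx (((-1 : ℤ) : F) * t)))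
    rw [e2]
    show _ = _
    rw [← map_mul, nx_mul_ux, map_mul]

theorem nn_one (R : Root D y) (r : ℕ) (hr : r < 8) (t : F) :
    SemiconjBy (D.φ₂ nx) (X D y r t) (X D y (sg 1 r) ((es 1 r : ℤ) * t)) := by
  have e1 : ((1 : ℤ) : F) * t = t := by rw [Int.cast_one, one_mul]
  have e2 : ((-1 : ℤ) : F) * t = -t := by rw [Int.cast_neg, Int.cast_one, neg_mul, one_mul]
  interval_cases r
  · show SemiconjBy _ (D.φ₁ (lx t)) (D.φ₁ (lx (((1 : ℤ) : F) * t)))
    rw [e1]
    exact (D.comm _ _).symm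
  · show SemiconjBy _ (c₀ D * y (-t) * (c₀ D)⁻¹) (x2 D y (((1 : ℤ) : F) * t))
    rw [e1]
    have := R.nx₂_c₀ (-t)
    rwa [neg_neg] at this
  · show SemiconjBy _ (x2 D y t) (c₀ D * y (-(((-1 : ℤ) : F) * t)) * (c₀ D)⁻¹)
    rw [e2, neg_neg]
    exact Root.nx₂_x2 t
  · show SemiconjBy _ (D.φ₂ (lx (-t))) (D.φ₂ (ux (-(((-1 : ℤ) : F) * t))))
    rw [e2]
    show _ = _
    rw [← map_mul, nx_mul_lx, map_mul]
  · show SemiconjBy _ (D.φ₂ (ux (-t))) (D.φ₂ (lx (-(((-1 : ℤ) : F) * t))))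
    rw [e2]
    show _ = _
    rw [← map_mul, nx_mul_ux, map_mul]
  · show SemiconjBy _ (y2 D y t) (y (((-1 : ℤ) : F) * t))
    rw [e2]
    exact R.nx₂_y2 t
  · show SemiconjBy _ (y t) (y2 D y (((1 : ℤ) : F) * t))
    rw [e1]
    exact Root.nx₂_y t
  · show SemiconjBy _ (D.φ₁ (ux t)) (D.φ₁ (ux (((1 : ℤ) : F) * t)))
    rw [e1]
    exact (D.comm _ _).symm

theorem nn_two (R : Root D y) (r : ℕ) (hr : r < 8) (t : F) :
    SemiconjBy D.w (X D y r t) (X D y (sg 2 r) ((es 2 r : ℤ) * t)) := by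
  have e1 : ((1 : ℤ) : F) * t = t := by rw [Int.cast_one, one_mul]
  have e2 : ((-1 : ℤ) : F) * t = -t := by rw [Int.cast_neg, Int.cast_one, neg_mul, one_mul]
  interval_cases r
  · show SemiconjBy _ (D.φ₁ (lx t)) (D.φ₂ (lx (-(((-1 : ℤ) : F) * t))))
    rw [e2, neg_neg]
    exact D.w_mul_φ₁ _
  · show SemiconjBy _ (c₀ D * y (-t) * (c₀ D)⁻¹) (c₀ D * y (-(((1 : ℤ) : F) * t)) * (c₀ D)⁻¹)
    rw [e1]
    exact Root.semiconj_conj Root.c₀_w (R.w_mul_y (-t))
  · show SemiconjBy _ (x2 D y t) (y2 D y (((1 : ℤ) : F) * t))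
    rw [e1]
    exact R.w_mul_x2 t
  · show SemiconjBy _ (D.φ₂ (lx (-t))) (D.φ₁ (lx (((-1 : ℤ) : F) * t)))
    rw [e2]
    exact D.w_mul_φ₂ _
  · show SemiconjBy _ (D.φ₂ (ux (-t))) (D.φ₁ (ux (((-1 : ℤ) : F) * t)))
    rw [e2]
    exact D.w_mul_φ₂ _
  · show SemiconjBy _ (y2 D y t) (x2 D y (((1 : ℤ) : F) * t))
    rw [e1]
    exact R.w_mul_y2 t
  · show SemiconjBy _ (y t) (y (((1 : ℤ) : F) * t))
    rw [e1]
    exact R.w_mul_y t
  · show SemiconjBy _ (D.φ₁ (ux t)) (D.φ₂ (ux (-(((-1 : ℤ) : F) * t))))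
    rw [e2, neg_neg]
    exact D.w_mul_φ₁ _

theorem nn_all (R : Root D y) : ∀ i < 3, ∀ r < 8, ∀ t, nn D i * X D y r t * (nn D i)⁻¹ =
    X D y (sg i r) ((es i r : ℤ) * t) := by
  intro i hi r hr t
  rw [mul_inv_eq_iff_eq_mul]
  interval_cases i
  · exact nn_zero R r hr t
  · exact nn_one R r hr t
  · exact nn_two R r hr t

theorem X_add (R : Root D y) : ∀ r < 8, ∀ t u, X D y r t * X D y r u = X D y r (t + u) := by
  intro r hr t u
  interval_cases r
  · show D.φ₁ (lx t) * D.φ₁ (lx u) = D.φ₁ (lx (t + u))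
    rw [lx_add, map_mul]
  · show c₀ D * y (-t) * (c₀ D)⁻¹ * (c₀ D * y (-u) * (c₀ D)⁻¹) = c₀ D * y (-(t + u)) * (c₀ D)⁻¹
    rw [neg_add, R.add]; group
  · exact (R.x2_add t u).symm
  · show D.φ₂ (lx (-t)) * D.φ₂ (lx (-u)) = D.φ₂ (lx (-(t + u)))
    rw [neg_add, lx_add, map_mul]
  · show D.φ₂ (ux (-t)) * D.φ₂ (ux (-u)) = D.φ₂ (ux (-(t + u)))
    rw [neg_add, ux_add, map_mul]
  · exact (R.y2_add t u).symm
  · exact (R.add t u).symm
  · show D.φ₁ (ux t) * D.φ₁ (ux u) = D.φ₁ (ux (t + u))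
    rw [ux_add, map_mul]

theorem terms_base : chevB2.commTerms 7 4 = [] ∧ chevB2.commTerms 4 6 = [] ∧ chevB2.commTerms 6 4 = [] ∧
    chevB2.commTerms 6 5 = [(7, -2, 1, 1)] ∧ chevB2.commTerms 4 5 = [(6, 1, 1, 1), (7, -1, 1, 2)] ∧
    chevB2.commTerms 5 4 = [(6, -1, 1, 1), (7, -1, 2, 1)] := by decide +kernel

theorem rel_of_commute {X : ℕ → F → G} {r s : ℕ} (h0 : chevB2.commTerms r s = [])
    (h : ∀ t u, Commute (X s u) (X r t)) : Rel X r s := by
  intro t u
  unfold ChevalleyDatum.commWord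
  rw [h0, List.map_nil, List.map_nil, List.prod_nil, mul_assoc, (h t u).eq]
  group

theorem rels (R : Root D y) : ∀ p ∈ ([(7, 4), (4, 6), (6, 4), (6, 5), (4, 5), (5, 4)] : List (ℕ × ℕ)),
    Rel (X D y) p.1 p.2 := by
  obtain ⟨h1, h2, h3, h4, h5, h6⟩ := terms_base
  intro p hp
  simp only [List.mem_cons, List.not_mem_nil, or_false] at hp
  rcases hp with rfl | rfl | rfl | rfl | rfl | rfl
  · exact rel_of_commute h1 fun t u => (D.comm _ _).symm
  · exact rel_of_commute h2 fun t u => R.x _ _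
  · exact rel_of_commute h3 fun t u => (R.x _ _).symm
  · intro t u
    unfold ChevalleyDatum.commWord
    rw [h4]
    show (y2 D y u)⁻¹ * (y t)⁻¹ * y2 D y u * y t =
      D.φ₁ (ux (((-2 : ℤ) : F) * (-t) ^ 1 * u ^ 1)) * 1
    have h : y2 D y (-u) * y (-t) = v D y (-t) (2 * -t * -u) 0 * y2 D y (-u) := R.y2_y (-u) (-t)
    rw [← R.y2_neg, ← R.y_neg, h, mul_assoc (v D y _ _ _), ← R.y2_add, neg_add_cancel, R.y2_zero, mul_one,
      Root.y_eq (D := D) (y := y) t, R.v_mul, mul_one, R.φ₁_eq]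
    congr 1
    · ring
    · push_cast; ring
    · ring
  · intro t u
    unfold ChevalleyDatum.commWord
    rw [h5]
    show (y2 D y u)⁻¹ * (D.φ₂ (ux (-t)))⁻¹ * y2 D y u * D.φ₂ (ux (-t)) =
      y (((1 : ℤ) : F) * (-t) ^ 1 * u ^ 1) * (D.φ₁ (ux (((-1 : ℤ) : F) * (-t) ^ 1 * u ^ 2)) * 1)
    have h : y2 D y (-u) * D.φ₂ (ux t) = v D y (t * -u) (-u * -u * t) t * y2 D y (-u) := R.y2_φ₂ (-u) t
    rw [← R.y2_neg, ← map_inv, ← ux_neg, neg_neg, h, mul_assoc (v D y _ _ _), ← R.y2_add, neg_add_cancel, R.y2_zero,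
      mul_one, R.φ₂_eq, R.v_mul, mul_one, R.φ₁_eq, Root.y_eq (D := D) (y := y) (((1 : ℤ) : F) * (-t) ^ 1 * u ^ 1), R.v_mul]
    congr 1
    · push_cast; ring
    · push_cast; ring
    · ring
  · intro t u
    unfold ChevalleyDatum.commWord
    rw [h6]
    show (D.φ₂ (ux (-u)))⁻¹ * (y2 D y t)⁻¹ * D.φ₂ (ux (-u)) * y2 D y t =
      y (((-1 : ℤ) : F) * (-t) ^ 1 * u ^ 1) * (D.φ₁ (ux (((-1 : ℤ) : F) * (-t) ^ 2 * u ^ 1)) * 1)
    have h : y2 D y (-t) * D.φ₂ (ux (-u)) = v D y (-u * -t) (-t * -t * -u) (-u) * y2 D y (-t) := R.y2_φ₂ (-t) (-u)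
    rw [← R.y2_neg, ← map_inv, ← ux_neg, neg_neg, mul_assoc (D.φ₂ (ux u)), h, mul_assoc (D.φ₂ (ux u)),
      mul_assoc (v D y _ _ _), ← R.y2_add, neg_add_cancel, R.y2_zero,
      mul_one, R.φ₂_eq, R.v_mul, mul_one, R.φ₁_eq, Root.y_eq (D := D) (y := y) (((-1 : ℤ) : F) * (-t) ^ 1 * u ^ 1), R.v_mul]
    congr 1
    · push_cast; ring
    · push_cast; ring
    · ring

theorem neg_seven : chevB2.neg 7 = 0 := by decide +kernel
theorem neg_five : chevB2.neg 5 = 2 := by decide +kernel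

theorem hrels (R : Root D y) : ∀ r ∈ ([7, 5] : List ℕ), HRel (X D y) r := by
  intro r hr
  simp only [List.mem_cons, List.not_mem_nil, or_false] at hr
  rcases hr with rfl | rfl
  · refine ⟨D.φ₁.comp (hxHom F), D.φ₁ nx, fun t => ?_⟩
    rw [neg_seven]
    show D.φ₁ (ux t) * D.φ₁ (lx (-((t : F)⁻¹))) * D.φ₁ (ux t) = D.φ₁ (hx t) * D.φ₁ nx
    rw [← Units.val_inv_eq_inv_val, ← map_mul, ← map_mul, ux_lx_ux, map_mul]
  · let h : Fˣ →* G :=
      { toFun := fun t => D.φ₁ (hx t) * D.φ₂ (hx t⁻¹)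
        map_one' := by rw [inv_one, hx_one, map_one, map_one, mul_one]
        map_mul' := fun a b => by
          rw [mul_inv, hx_mul, hx_mul, map_mul, map_mul]
          have e : D.φ₁ (hx b) * D.φ₂ (hx a⁻¹) = D.φ₂ (hx a⁻¹) * D.φ₁ (hx b) := D.comm _ _
          calc D.φ₁ (hx a) * D.φ₁ (hx b) * (D.φ₂ (hx a⁻¹) * D.φ₂ (hx b⁻¹))
              = D.φ₁ (hx a) * (D.φ₁ (hx b) * D.φ₂ (hx a⁻¹)) * D.φ₂ (hx b⁻¹) := by simp only [mul_assoc]
            _ = D.φ₁ (hx a) * D.φ₂ (hx a⁻¹) * (D.φ₁ (hx b) * D.φ₂ (hx b⁻¹)) := by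
                rw [e]; simp only [mul_assoc] }
    refine ⟨h, D.z * D.w, fun t => ?_⟩
    rw [neg_five]
    show y2 D y t * x2 D y (-((t : F)⁻¹)) * y2 D y t = D.φ₁ (hx t) * D.φ₂ (hx t⁻¹) * (D.z * D.w)
    have h1 := R.nt_eq t
    unfold Root.nt Root.nt' at h1
    rw [Units.val_inv_eq_inv_val] at h1
    have e : hx (-t⁻¹) = hx t⁻¹ * (-1 : SL2 F) := by
      rw [← hx_neg_one, ← hx_mul, mul_neg, mul_one]
    rw [h1, e, map_mul, D.z₂]
    simp only [mul_assoc]

/-- Steinberg's presentation gives a homomorphism onto the group generated by `φ₁`, `φ₂` and `y`. -/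
theorem Root.exists_hom (R : Root D y) :
    ∃ ψ : chevB2.SteinbergGroup F →* G, ∀ r t, ψ (chevB2.stGen F r t) = X D y r t := by
  refine SpFourOdd.exists_hom (n := nn D) ?_ (X_add R) (nn_all R) (rels R) (hrels R)
  intro r t hr
  match r, hr with
  | 0, h => exact absurd (by norm_num) h
  | 1, h => exact absurd (by norm_num) h
  | 2, h => exact absurd (by norm_num) h
  | 3, h => exact absurd (by norm_num) h
  | 4, h => exact absurd (by norm_num) h
  | 5, h => exact absurd (by norm_num) h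
  | 6, h => exact absurd (by norm_num) h
  | 7, h => exact absurd (by norm_num) h
  | n + 8, _ => rfl

/-- A nontrivial group with trivial centre which is an image of the group with Steinberg's presentation of type `B₂`
over a field other than `𝔽₂` is the Chevalley group. -/
theorem nonempty_mulEquiv {F H : Type*} [Field F] [Group H] (hF : ∃ a : F, a ≠ 0 ∧ a ≠ 1)
    (hc : Subgroup.center H = ⊥) (hn : ∃ g : H, g ≠ 1)
    (ψ : chevB2.SteinbergGroup F →* H) (hψ : Function.Surjective ψ) : Nonempty (H ≃* ↥(chevB2.group F)) := by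
  have hsimp : IsSimpleGroup ↥(chevB2.group F) := (Cfsg.Agent.S1056.result hF).1
  obtain ⟨θ, hθ, hker, -⟩ := Cfsg.Agent.S1077.result (K := F) chevB2 (by simp)
  have hle : θ.ker ≤ ψ.ker := by
    rw [hker]
    intro z hz
    rw [MonoidHom.mem_ker]
    have h1 : ψ z ∈ Subgroup.center H := by
      rw [Subgroup.mem_center_iff]
      intro g
      obtain ⟨x, rfl⟩ := hψ g
      rw [← map_mul, ← map_mul, Subgroup.mem_center_iff.1 hz x]
    rw [hc] at h1
    exact h1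
  let e := QuotientGroup.quotientKerEquivOfSurjective θ hθ
  let ψ' : ↥(chevB2.group F) →* H := (QuotientGroup.lift θ.ker ψ hle).comp e.symm.toMonoidHom
  have hsurj : Function.Surjective ψ' := by
    intro g
    obtain ⟨x, rfl⟩ := hψ g
    refine ⟨e (QuotientGroup.mk x), ?_⟩
    show QuotientGroup.lift θ.ker ψ hle (e.symm (e (QuotientGroup.mk x))) = ψ x
    rw [MulEquiv.symm_apply_apply]
    rfl
  have hinj : Function.Injective ψ' := by
    rw [← MonoidHom.ker_eq_bot_iff]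
    rcases (inferInstance : ψ'.ker.Normal).eq_bot_or_eq_top with h | h
    · exact h
    · exfalso
      obtain ⟨g, hg⟩ := hn
      apply hg
      obtain ⟨x, rfl⟩ := hsurj g
      have hx : x ∈ ψ'.ker := by rw [h]; trivial
      exact hx
  exact ⟨(MulEquiv.ofBijective ψ' ⟨hinj, hsurj⟩).symm⟩

theorem mem_gen₁ (D : Pair G F) (y : F → G) (a : SL2 F) : D.φ₁ a ∈ gen D y :=
  Subgroup.subset_closure (Or.inl (Or.inl ⟨a, rfl⟩))

theorem mem_gen₂ (D : Pair G F) (y : F → G) (a : SL2 F) : D.φ₂ a ∈ gen D y :=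
  Subgroup.subset_closure (Or.inl (Or.inr ⟨a, rfl⟩))

theorem mem_gen (D : Pair G F) (y : F → G) (a : F) : y a ∈ gen D y :=
  Subgroup.subset_closure (Or.inr ⟨a, rfl⟩)

theorem X_mem (D : Pair G F) (y : F → G) : ∀ r < 8, ∀ t, X D y r t ∈ gen D y := by
  intro r hr t
  interval_cases r
  · exact mem_gen₁ D y _
  · exact mul_mem (mul_mem (mul_mem (mem_gen₁ D y _) (mem_gen₂ D y _)) (mem_gen D y _))
      (inv_mem (mul_mem (mem_gen₁ D y _) (mem_gen₂ D y _)))
  · exact mul_mem (mul_mem (mem_gen₁ D y _) (mem_gen D y _)) (inv_mem (mem_gen₁ D y _))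
  · exact mem_gen₂ D y _
  · exact mem_gen₂ D y _
  · exact mul_mem (mul_mem (mem_gen₂ D y _) (mem_gen D y _)) (inv_mem (mem_gen₂ D y _))
  · exact mem_gen D y _
  · exact mem_gen₁ D y _

theorem range_eq (ψ : chevB2.SteinbergGroup F →* G)
    (hψ : ∀ r t, ψ (chevB2.stGen F r t) = X D y r t) : ψ.range = gen D y := by
  apply le_antisymm
  · rw [MonoidHom.range_eq_map, ← ChevalleyStructure.StBasic.closure_stGen, MonoidHom.map_closure,
      Subgroup.closure_le]
    rintro _ ⟨_, ⟨r, t, hr, rfl⟩, rfl⟩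
    rw [hψ]
    exact X_mem D y r hr t
  · unfold gen
    rw [Subgroup.closure_le]
    have h1 : ψ.range.comap D.φ₁ = ⊤ := by
      apply eq_top_of_ux_lx
      · intro t; exact ⟨_, hψ 7 t⟩
      · intro t; exact ⟨_, hψ 0 t⟩
    have h2 : ψ.range.comap D.φ₂ = ⊤ := by
      apply eq_top_of_ux_lx
      · intro t
        refine ⟨_, (hψ 4 (-t)).trans ?_⟩
        show D.φ₂ (ux (- -t)) = _
        rw [neg_neg]
      · intro t
        refine ⟨_, (hψ 3 (-t)).trans ?_⟩
        show D.φ₂ (lx (- -t)) = _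
        rw [neg_neg]
    rintro g ((⟨a, rfl⟩ | ⟨a, rfl⟩) | ⟨a, rfl⟩)
    · have ha : a ∈ ψ.range.comap D.φ₁ := by rw [h1]; trivial
      exact ha
    · have ha : a ∈ ψ.range.comap D.φ₂ := by rw [h2]; trivial
      exact ha
    · exact ⟨_, hψ 6 a⟩

/-- the group generated by `φ₁`, `φ₂` and `y` has trivial centre -/
theorem Root.center_gen (R : Root D y) : Subgroup.center ↥(gen D y) = ⊥ := by
  rw [eq_bot_iff]
  intro g hg
  rw [Subgroup.mem_bot]
  rw [Subgroup.mem_center_iff] at hg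
  apply Subtype.ext
  refine R.faithful g.1 (fun a => ?_) (fun a => ?_) (fun a => ?_)
  · exact (congrArg Subtype.val (hg ⟨D.φ₁ a, mem_gen₁ D y a⟩)).symm
  · exact (congrArg Subtype.val (hg ⟨D.φ₂ a, mem_gen₂ D y a⟩)).symm
  · exact (congrArg Subtype.val (hg ⟨y a, mem_gen D y a⟩)).symm

theorem Pair.z_ne_one (D : Pair G F) (h2 : (2 : F) ≠ 0) : D.z ≠ 1 := by
  intro hz
  have h0 : (-1 : SL2 F) ≠ 1 := by
    intro h
    have h1 := congrArg (fun a : SL2 F => (a : Matrix (Fin 2) (Fin 2) F) 0 0) h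
    simp only [Matrix.SpecialLinearGroup.coe_neg, Matrix.SpecialLinearGroup.coe_one, Matrix.neg_apply,
      Matrix.one_apply_eq] at h1
    apply h2
    linear_combination -h1
  rcases D.ker (-1) 1 (by rw [D.z₁, map_one, mul_one, hz]) with h | h
  · exact h0 h.1
  · exact h0 h.2.symm

/-- **The group generated by `φ₁`, `φ₂` and a root group `y` is `PSp₄(F)`.** -/
theorem Root.iso (R : Root D y) (h2 : (2 : F) ≠ 0) : Nonempty (↥(gen D y) ≃* Cfsg.PSp 2 F) := by
  obtain ⟨ψ, hψ⟩ := R.exists_hom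
  have hr := range_eq ψ hψ
  let ψ' : chevB2.SteinbergGroup F →* ↥(gen D y) := (MulEquiv.subgroupCongr hr).toMonoidHom.comp ψ.rangeRestrict
  have hs : Function.Surjective ψ' := (MulEquiv.subgroupCongr hr).surjective.comp ψ.rangeRestrict_surjective
  have hF : ∃ a : F, a ≠ 0 ∧ a ≠ 1 := by
    refine ⟨-1, neg_ne_zero.2 one_ne_zero, fun h => h2 ?_⟩
    linear_combination -h
  have hn : ∃ g : ↥(gen D y), g ≠ 1 := by
    refine ⟨⟨D.φ₁ (-1), mem_gen₁ D y _⟩, fun h => D.z_ne_one h2 ?_⟩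
    have := congrArg Subtype.val h
    rw [← D.z₁]
    exact this
  obtain ⟨e⟩ := nonempty_mulEquiv hF R.center_gen hn ψ' hs
  obtain ⟨e'⟩ := Cfsg.Agent.ChevalleyStructure.B2Sp4.chevB2_equiv_PSp F
  exact ⟨e.trans e'⟩

/-- The involution `w` interchanging the two copies of `SL₂(F)` lies in the group generated. -/
theorem Root.w_mem (R : Root D y) : D.w ∈ gen D y := R.w_mem'

end

end Cfsg.Agent.SpFourOdd
end

-- part: SpFourOdd/Final
section
/-!
# Recognition of `PSp₄(q)`, `q` odd: conclusion from a root group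
-/

set_option autoImplicit false

namespace Cfsg.Agent.SpFourOdd.Closing

open Matrix

section

variable {G F : Type*} [Group G] [Field F] {D : Pair G F}

/-- `C(z)` normalises `gen D y` as soon as `range y` is invariant under the field automorphisms -/
theorem norm_gen [Finite G] (hc : CentF D) (h0 : Cent0 D) (zw : IsConj D.z D.w) (zu : ¬ IsConj D.z (D.z * D.w))
    {y : F → G} (hw : D.w ∈ gen D y)
    (hY : ∀ f, f * D.z = D.z * f → f * D.w = D.w * f →
      (∀ t, ∃ s, f * (D.φ₁ (ux t) * D.φ₂ (ux t)) * f⁻¹ = D.φ₁ (ux s) * D.φ₂ (ux s)) → ∀ t, ∃ s, f * y t * f⁻¹ = y s)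
    {c : G} (hcz : c * D.z = D.z * c) : c ∈ Subgroup.normalizer (gen D y : Set G) := by
  obtain ⟨d, σ, a, b, hcd, hodd, h₁, h₂⟩ := hc c hcz
  have hw' : D.w ∈ Subgroup.normalizer (gen D y : Set G) := Subgroup.le_normalizer hw
  have hab : D.φ₁ a * D.φ₂ b ∈ Subgroup.normalizer (gen D y : Set G) :=
    Subgroup.le_normalizer (mul_mem (gen₁ D y a) (gen₂ D y b))
  -- `f = (φ₁ a φ₂ b)⁻¹ d`
  set f := (D.φ₁ a * D.φ₂ b)⁻¹ * d with hf
  have hd : d = D.φ₁ a * D.φ₂ b * f := by rw [hf]; group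
  have f₁ : ∀ x, f * D.φ₁ x * f⁻¹ = D.φ₁ (SpecialLinearGroup.map (σ : F →+* F) x) := by
    intro x
    have e : f * D.φ₁ x * f⁻¹ = (D.φ₁ a * D.φ₂ b)⁻¹ * (d * D.φ₁ x * d⁻¹) * (D.φ₁ a * D.φ₂ b) := by rw [hf]; group
    rw [e, h₁, inv_form]
    have i1 : ∀ x, D.φ₁ x = D.φ₁ x * D.φ₂ 1 := fun x => by rw [map_one, mul_one]
    rw [i1 (a * _ * _), mul_form, mul_form, mul_one, inv_mul_cancel, ← i1]
    congr 1
    group
  have f₂ : ∀ x, f * D.φ₂ x * f⁻¹ = D.φ₂ (SpecialLinearGroup.map (σ : F →+* F) x) := by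
    intro x
    have e : f * D.φ₂ x * f⁻¹ = (D.φ₁ a * D.φ₂ b)⁻¹ * (d * D.φ₂ x * d⁻¹) * (D.φ₁ a * D.φ₂ b) := by rw [hf]; group
    rw [e, h₂, inv_form]
    have i1 : ∀ x, D.φ₂ x = D.φ₁ 1 * D.φ₂ x := fun x => by rw [map_one, one_mul]
    rw [i1 (b * _ * _), mul_form, mul_form, mul_one, inv_mul_cancel, ← i1]
    congr 1
    group
  have hneg : SpecialLinearGroup.map (σ : F →+* F) (-1 : SL2 F) = -1 := by
    apply ent_ext
    · rw [ent_map, ent_neg, one00]; simp only [_root_.RingHom.coe_coe, _root_.RingEquiv.map_neg_one]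
    · rw [ent_map, ent_neg, one01]; simp
    · rw [ent_map, ent_neg, one10]; simp
    · rw [ent_map, ent_neg, one11]; simp only [_root_.RingHom.coe_coe, _root_.RingEquiv.map_neg_one]
  have hfz : f * D.z = D.z * f := by
    have := f₁ (-1)
    rw [hneg, D.z₁] at this
    exact mul_inv_eq_iff_eq_mul.mp this
  have hfw : f * D.w = D.w * f := by
    have h3 : f * D.w * f⁻¹ * D.w⁻¹ = 1 ∨ f * D.w * f⁻¹ * D.w⁻¹ = D.z := by
      have key : ∀ x, f⁻¹ * D.φ₁ x * f = D.φ₁ (SpecialLinearGroup.map (σ.symm : F →+* F) x) ∧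
          f⁻¹ * D.φ₂ x * f = D.φ₂ (SpecialLinearGroup.map (σ.symm : F →+* F) x) := by
        intro x
        have hx : SpecialLinearGroup.map (σ : F →+* F) (SpecialLinearGroup.map (σ.symm : F →+* F) x) = x := by
          rw [map_map']
          have : σ.symm.trans σ = RingEquiv.refl F := by ext t; simp
          rw [this, map_refl]
        constructor
        · have := f₁ (SpecialLinearGroup.map (σ.symm : F →+* F) x)
          rw [hx] at this
          rw [← this]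
          group
        · have := f₂ (SpecialLinearGroup.map (σ.symm : F →+* F) x)
          rw [hx] at this
          rw [← this]
          group
      have hσσ : ∀ x : SL2 F, SpecialLinearGroup.map (σ : F →+* F) (SpecialLinearGroup.map (σ.symm : F →+* F) x) = x := by
        intro x
        rw [map_map']
        have : σ.symm.trans σ = RingEquiv.refl F := by ext t; simp
        rw [this, map_refl]
      apply h0
      · intro x
        rw [← mul_inv_eq_iff_eq_mul]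
        have e : f * D.w * f⁻¹ * D.w⁻¹ * D.φ₁ x * (f * D.w * f⁻¹ * D.w⁻¹)⁻¹ =
          f * (D.w * (f⁻¹ * (D.w⁻¹ * D.φ₁ x * D.w) * f) * D.w⁻¹) * f⁻¹ := by group
        rw [e, w_inv, D.conj, (key x).2, w₂, mul_assoc (D.φ₁ _), D.ww, mul_one, f₁, hσσ]
      · intro x
        rw [← mul_inv_eq_iff_eq_mul]
        have e : f * D.w * f⁻¹ * D.w⁻¹ * D.φ₂ x * (f * D.w * f⁻¹ * D.w⁻¹)⁻¹ =
          f * (D.w * (f⁻¹ * (D.w⁻¹ * D.φ₂ x * D.w) * f) * D.w⁻¹) * f⁻¹ := by group
        rw [e, w_inv, w₂, mul_assoc (D.φ₁ _), D.ww, mul_one, (key x).1, D.conj, f₂, hσσ]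
    rcases h3 with h4 | h4
    · rw [mul_inv_eq_one] at h4
      exact mul_inv_eq_iff_eq_mul.mp h4
    · exfalso
      rw [mul_inv_eq_iff_eq_mul] at h4
      exact zu (zw.trans (isConj_iff.mpr ⟨f, h4⟩))
  have hYf := hY f hfz hfw (fun t => ⟨σ t, by
    have e : f * (D.φ₁ (ux t) * D.φ₂ (ux t)) * f⁻¹ = (f * D.φ₁ (ux t) * f⁻¹) * (f * D.φ₂ (ux t) * f⁻¹) := by group
    rw [e, f₁, f₂, map_ux]
    rfl⟩)
  have hfn : f ∈ Subgroup.normalizer (gen D y : Set G) := by
    apply Subgroup.mem_normalizer_fintype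
    intro g hg
    induction hg using Subgroup.closure_induction with
    | mem x hx =>
      rcases hx with (⟨a, rfl⟩ | ⟨a, rfl⟩) | ⟨t, rfl⟩
      · rw [f₁]; exact gen₁ D y _
      · rw [f₂]; exact gen₂ D y _
      · obtain ⟨s, hs⟩ := hYf t
        rw [hs]
        exact Subgroup.subset_closure (Or.inr ⟨s, rfl⟩)
    | one =>
      rw [mul_one, mul_inv_cancel]
      exact one_mem _
    | mul x x' _ _ hx hx' =>
      have e : f * (x * x') * f⁻¹ = (f * x * f⁻¹) * (f * x' * f⁻¹) := by group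
      rw [e]
      exact mul_mem hx hx'
    | inv x _ hx =>
      have e : f * x⁻¹ * f⁻¹ = (f * x * f⁻¹)⁻¹ := by group
      rw [e]
      exact inv_mem hx
  have hdn : d ∈ Subgroup.normalizer (gen D y : Set G) := by
    rw [hd]
    exact mul_mem hab hfn
  rcases hcd with rfl | rfl
  · exact hdn
  · exact mul_mem hdn hw'

/-- **Recognition of `PSp₄(q)`**, `q` odd: a simple group with `Hyp D` and a root group which is invariant under the
elements of `C(z) ∩ C(w)` normalising `P`. -/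
theorem iso_of_root [Finite G] [Finite F] [IsSimpleGroup G] (h2 : (2 : F) ≠ 0) (H : Hyp D) {y : F → G} (R : Root D y)
    (hY : ∀ f, f * D.z = D.z * f → f * D.w = D.w * f →
      (∀ t, ∃ s, f * (D.φ₁ (ux t) * D.φ₂ (ux t)) * f⁻¹ = D.φ₁ (ux s) * D.φ₂ (ux s)) → ∀ t, ∃ s, f * y t * f⁻¹ = y s) :
    Nonempty (G ≃* Cfsg.PSp 2 F) :=
  iso_of_weak (weak_of_field H.cent H.cent0 H.zu H.zk) (H.cu.elim fun _ h => CU_of h) h2 (R.iso h2) R.w_mem
    (fun _ hc => norm_gen H.cent H.cent0 H.zw H.zu R.w_mem hY hc)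

end

end Cfsg.Agent.SpFourOdd.Closing
end

private theorem dce_3d6f193a02ca : _root_.True := by
  try have : _root_.True := by simp only [_root_.Cfsg.Agent.SylowSp4.CentUMain.C0.eq_1]
  try have : _root_.True := by simp only [_root_.Cfsg.Agent.SylowSp4.CentUCoord.D.eq_1]
  try have : _root_.True := by simp only [_root_.Cfsg.Agent.SylowSp4.CentUCoord.Cc.eq_1]
  try have : _root_.True := by simp only [_root_.Cfsg.Agent.SylowSp4.CentUCoord.B.eq_1]
  try have : _root_.True := by simp only [_root_.Cfsg.Agent.SylowSp4.CentUCoord.A.eq_1]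
  exact _root_.True.intro
end

-- part: SylowSp4/CentUExport
section
set_option linter.all false
open scoped Cfsg.Agent.FastGrp

/-!
# The centralizer of an involution of `u`-type: unconditional exports
-/

set_option autoImplicit false

namespace Cfsg.Agent.SylowSp4.CentUExport

open QuaternionGroup Cfsg.Agent.SylowSp4.Coord Cfsg.Agent.SylowSp4.Facts Cfsg.Agent.SylowSp4.Pat Subgroup
open Cfsg.Agent.Walter.OddCoreIn Cfsg.Agent.SylowSp4.Pairs Cfsg.Agent.SylowSp4.CentUCoord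
open Cfsg.Agent.SylowSp4.CentULoc Cfsg.Agent.SylowSp4.CentUInst Cfsg.Agent.SylowSp4.CentUMain
open Cfsg.Agent.SylowSp4.FieldPart Cfsg.Agent.SylowSp4.CentUData Cfsg.Agent.SylowSp4.CentUClosed

variable {G : Type*} [Group G] [Finite G] {P : Sylow 2 G} {k : ℕ} {f : Q k → Q k → G} {s : G} (p : Pat P k f s)

include p

/-- the product theorem in `C(e)` -/
theorem pd : PD p := by
  obtain ⟨R, hR⟩ := exists_PY p
  have L := loc p hR
  refine Cfsg.Agent.TwoFusion.ClosedCommutator.commutator_le R _ _ ?_ (strongly_closed_Dc L) (strongly_closed_DE L)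
  rw [eq_bot_iff]
  intro x hx
  exact L.disj x hx.2 hx.1

/-- **`UData`** -/
theorem uData : UData f := udata_of p (pd p)

/-- `C(e) = O(C(e)) (C(t₁) ∩ C(e)) (P ∩ C(e))` -/
theorem Y_gen {y : G} (hy : y ∈ Cn (ee f)) :
    ∃ o ∈ OO (Cn (ee f)), ∃ c ∈ Cn (t1 f s) ⊓ Cn (ee f), ∃ r ∈ (P : Subgroup G) ⊓ Cn (ee f), y = o * c * r :=
  Y_gen_of p (pd p) hy

end Cfsg.Agent.SylowSp4.CentUExport
end

-- part: SylowSp4/CentUA7
section
prune_inst 0x203004005922020000000000000020001000000000400001d0600502000e50020002200078200c10180028000008002001000000420000000a0004000004012080a25000b308a10426000f809003180c00000000000000000000000000041000000000000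
set_option linter.all false
open scoped Cfsg.Agent.FastGrp

/-!
# Type `PSp_4(q)`: `L / ⟨ζ⟩` is not `A₇`

The element `r = (x, 1)` of `C(e)` interchanges the two classes of four-groups of `DE`; if `L / ⟨ζ⟩ ≃ A₇` then modulo the
core one of them is centralised by an element of order 3 of `C(t₁) ∩ C(e)`, the other one is self-centralising.
-/

set_option autoImplicit false

namespace Cfsg.Agent.SylowSp4.CentUA7

open QuaternionGroup Cfsg.Agent.SylowSp4.Coord Cfsg.Agent.SylowSp4.Facts Cfsg.Agent.SylowSp4.Pat Subgroup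
open Cfsg.Agent.Walter.OddCoreIn Cfsg.Agent.SylowSp4.Pairs Cfsg.Agent.SylowSp4.CentUCoord
open Cfsg.Agent.SylowSp4.CentULoc Cfsg.Agent.SylowSp4.CentUInst Cfsg.Agent.SylowSp4.CentUMain
open Cfsg.Agent.SylowSp4.FieldPart Cfsg.Agent.SylowSp4.CentUData Cfsg.Agent.SylowSp4.DuoFacts
open Cfsg.Agent.TwoFusion.A7NoSwap Cfsg.Agent.SylowSp4.CentUA7P

section Abstract

variable {L : Type*} [Group L] {ζ : L}

theorem isSimple7 : IsSimpleGroup (alternatingGroup (Fin 7)) := alternatingGroup.isSimpleGroup (by simp)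

/-- `2.A₇` has no odd order normal subgroup modulo the centre. -/
theorem noOdd {ψ : L →* alternatingGroup (Fin 7)} (hψ : Function.Surjective ψ) (hk : ∀ a, ψ a = 1 ↔ a = 1 ∨ a = ζ) :
    NoOdd ζ := by
  intro M hM hodd
  have hs := isSimple7
  have hn : (M.map ψ).Normal := hM.map ψ hψ
  rcases hn.eq_bot_or_eq_top with h | h
  · intro a ha
    have h1 : ψ a ∈ M.map ψ := ⟨a, ha, rfl⟩
    rw [h, mem_bot] at h1
    exact (hk a).1 h1
  · exfalso
    have h1 : x1 ∈ M.map ψ := by rw [h]; exact mem_top _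
    obtain ⟨a, ha, h2⟩ := h1
    obtain ⟨m, hm, h3⟩ := hodd a ha
    have h4 : x1 ^ m = 1 := by
      rw [← h2, ← map_pow, hk]
      exact h3
    obtain ⟨n, rfl⟩ := hm
    rw [pow_succ, pow_mul, pow_two, x1_sq, one_pow, one_mul] at h4
    exact v1_ne (congrArg Subtype.val h4)

end Abstract

variable {G : Type*} [Group G] [Finite G] {P : Sylow 2 G} {k : ℕ} {f : Q k → Q k → G} {s : G}
  {H L : Type*} [Group H] [Group L] {π : Cn (tt f) →* H} {D : Duo H L} {ι : Q k →* L} {Φ : Subgroup H}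
  (p : Pat P k f s)

section Move

include p

omit [Finite G] in
theorem DE_t1 {x : G} (hx : x ∈ DE p.h) : x ∈ Cn (t1 f s) := mem_Cn.2 (comm p.h hx (t1_Dc p))

omit [Finite G] in
theorem DE_mem_e {x : G} (hx : x ∈ DE p.h) : x ∈ Cn (ee f) := mem_Cn.2 (DE_e p.h hx)

/-- the commuting pair `(t₁, t₁ e)` is moved to `(t, s)`, and `DE` into `P` -/
theorem exists_g0 : ∃ g0 : G, g0 * t1 f s * g0⁻¹ = tt f ∧ g0 * (t1 f s * ee f) * g0⁻¹ = s ∧
    ∀ x ∈ DE p.h, g0 * x * g0⁻¹ ∈ (P : Subgroup G) := by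
  obtain ⟨g₂, h3, h4⟩ := pairs p (t1_conj p) (t1e_conj p) (by
    have e1 := t1_e p
    generalize t1 f s = w at e1 ⊢
    rw [mul_assoc w, ← e1]) (by
    intro h5
    have : ee f = 1 := mul_eq_left.1 h5.symm
    apply p.h.t_ne_one
    have h6 := te_u p
    rw [this, mul_one] at h6
    exact (isConj_one_right.1 h6))
  have hT : IsPGroup 2 ((DE p.h).map (MulAut.conj g₂).toMonoidHom) := (P.isPGroup'.to_le (DE_le p.h)).map _
  obtain ⟨m, hm1, hm2, hm3⟩ := conj_into_ts p hT (by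
    rintro _ ⟨x, hx, rfl⟩
    have h5 : g₂ * x * g₂⁻¹ ∈ Cn (g₂ * t1 f s * g₂⁻¹) := mem_Cn_conj (DE_t1 p hx)
    rw [h3] at h5
    exact h5) (by
    rintro _ ⟨x, hx, rfl⟩
    have h5 : g₂ * x * g₂⁻¹ ∈ Cn (g₂ * (t1 f s * ee f) * g₂⁻¹) := by
      refine mem_Cn_conj (mem_Cn.2 ?_)
      have h6 := mem_Cn.1 (DE_t1 p hx)
      have h7 := mem_Cn.1 (DE_mem_e p hx)
      generalize t1 f s = w at h6 ⊢
      rw [← mul_assoc, h6, mul_assoc, h7, mul_assoc]
    rw [h4] at h5
    exact h5)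
  rw [mem_Cn] at hm1 hm2
  refine ⟨m * g₂, ?_, ?_, ?_⟩
  · have e1 : m * g₂ * t1 f s * (m * g₂)⁻¹ = m * (g₂ * t1 f s * g₂⁻¹) * m⁻¹ := by
      generalize t1 f s = w
      group
    rw [e1, h3, hm1, mul_inv_cancel_right]
  · have e1 : m * g₂ * (t1 f s * ee f) * (m * g₂)⁻¹ = m * (g₂ * (t1 f s * ee f) * g₂⁻¹) * m⁻¹ := by
      generalize t1 f s * ee f = w
      group
    rw [e1, h4, hm2, mul_inv_cancel_right]
  · intro x hx
    have h5 := hm3 _ ⟨x, hx, rfl⟩
    have e1 : m * g₂ * x * (m * g₂)⁻¹ = m * (g₂ * x * g₂⁻¹) * m⁻¹ := by group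
    rw [e1]
    exact h5

variable {g0 : G} (h0 : g0 * t1 f s * g0⁻¹ = tt f) (h1 : g0 * (t1 f s * ee f) * g0⁻¹ = s)
  (h2 : ∀ x ∈ DE p.h, g0 * x * g0⁻¹ ∈ (P : Subgroup G))

include h0 h1

omit [Finite G] in
theorem e_ts : g0 * ee f * g0⁻¹ = tt f * s := by
  have e1 : g0 * ee f * g0⁻¹ = (g0 * t1 f s * g0⁻¹) * (g0 * (t1 f s * ee f) * g0⁻¹) := by
    have e2 := t1_t1e p
    calc g0 * ee f * g0⁻¹ = g0 * (t1 f s * (t1 f s * ee f)) * g0⁻¹ := by rw [e2]
      _ = _ := by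
        generalize t1 f s * ee f = u
        generalize t1 f s = w
        group
  rw [e1, h0, h1]

include h2

omit [Finite G] in
/-- the involutions of `DE` are moved to elements `(α, α)` -/
theorem move_inv {x : G} (hx : x ∈ DE p.h) (hxx : x * x = 1) (hx1 : x ≠ 1) :
    ∃ α : Q k, g0 * x * g0⁻¹ = f α α := by
  have h := p.h
  obtain ⟨h3, h4⟩ := dIII p hx hxx hx1
  set u := g0 * x * g0⁻¹ with hu
  have huP : u ∈ (P : Subgroup G) := h2 x hx
  have huu : u * u = 1 := by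
    have : u * u = g0 * (x * x) * g0⁻¹ := by rw [hu]; group
    rw [this, hxx]; group
  have hu1 : u ≠ 1 := by
    intro h5
    apply hx1
    have : x = g0⁻¹ * u * g0 := by rw [hu]; group
    rw [this, h5]; group
  have hcj : IsConj x u := isConj_iff.2 ⟨g0, rfl⟩
  have hnT : ¬ IsConj (tt f) u := fun h5 => h3 (h5.trans hcj.symm)
  have hTe : IsConj (tt f) (u * (tt f * s)) := by
    refine h4.trans (isConj_iff.2 ⟨g0, ?_⟩)
    rw [← e_ts p h0 h1, hu]; group
  have hus : u * s = s * u := by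
    have h5 : u ∈ Cn (g0 * (t1 f s * ee f) * g0⁻¹) := by
      refine mem_Cn_conj (mem_Cn.2 ?_)
      have h6 := mem_Cn.1 (DE_t1 p hx)
      have h7 := mem_Cn.1 (DE_mem_e p hx)
      generalize t1 f s = w at h6 ⊢
      rw [← mul_assoc, h6, mul_assoc, h7, mul_assoc]
    rw [h1] at h5
    exact mem_Cn.1 h5
  rcases Facts.inv_cases h huP huu with h5 | h5 | ⟨α, β, hα, hβ, h5⟩ | ⟨α, h5⟩ | ⟨α, h5⟩
  · exact absurd h5 hu1
  · exact absurd (by rw [h5]) hnT
  · rw [h5] at hus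
    rcases (comm_s_iff h).1 hus with h6 | h6
    · exact ⟨α, by rw [h5, h6]⟩
    · exfalso
      refine not_t_of_u p ?_ hTe
      have h7 := p.u_conj' (z k * β)
      have h8 : f (z k * (z k * β)) (z k * β)⁻¹ * s = u * (tt f * s) := by
        rw [h5, ← mul_assoc (f α β), tt, h.f_mul_t, zz_mul, ← inv_of_sq_z hβ, inv_inv, h6, zz_mul]
      rwa [h8] at h7
  · exact absurd (h5 ▸ p.t_conj α) hnT
  · exfalso
    have h6 : f (z k * α) α⁻¹ * s = s * f (z k * α) α⁻¹ := by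
      rw [h5] at hus
      calc f (z k * α) α⁻¹ * s = (f (z k * α) α⁻¹ * s * s) * s := by rw [mul_assoc (f (z k * α) α⁻¹ * s), h.s_s, mul_one]
        _ = s * f (z k * α) α⁻¹ * (s * s) := by rw [hus]; group
        _ = _ := by rw [h.s_s, mul_one]
    have h7 : u * (tt f * s) = f α α⁻¹ := by
      have hst : s * tt f = tt f * s := (h.t_comm h.s_mem).symm
      calc u * (tt f * s) = f (z k * α) α⁻¹ * (s * tt f) * s := by rw [h5]; group
        _ = f (z k * α) α⁻¹ * tt f * (s * s) := by rw [hst]; group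
        _ = f α α⁻¹ := by rw [h.s_s, mul_one, tt, h.f_mul_t, zz_mul]
    rw [h7] at hTe
    rcases (comm_s_iff h).1 h6 with h8 | h8
    · have h9 : α * α = z k := by
        have : α⁻¹ * α = 1 := inv_mul_cancel α
        rw [← h8, mul_assoc] at this
        rw [← zz_mul (α * α), this, mul_one]
      refine not_t_of_u p (p.u_conj α α⁻¹ h9 ?_) hTe
      rw [← h8]
      exact mul_sq_z h9
    · have h9 : α = α⁻¹ := z_cancel h8
      have h10 : α * α = 1 := by
        nth_rewrite 2 [h9]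
        exact mul_inv_cancel α
      apply ne_one_of_conj p hTe
      rw [← h9]
      rcases one_or_z_of_sq h10 with rfl | rfl
      · exact h.f_one
      · exact h.f_zz

end Move

section Main

omit [Finite G] in
/-- conjugation by `g0`, from `C(t₁)` to `C(t)` -/
def cj {g0 : G} (h0 : g0 * t1 f s * g0⁻¹ = tt f) : Cn (t1 f s) →* Cn (tt f) where
  toFun x := ⟨g0 * x * g0⁻¹, h0 ▸ mem_Cn_conj x.2⟩
  map_one' := Subtype.ext (by simp)
  map_mul' x y := Subtype.ext (by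
    change g0 * ((x : G) * y) * g0⁻¹ = g0 * x * g0⁻¹ * (g0 * y * g0⁻¹)
    generalize (x : G) = u
    generalize (y : G) = v
    group)

/-- the image of `C(t₁)` in `H` -/
def θ {g0 : G} (h0 : g0 * t1 f s * g0⁻¹ = tt f) (π : Cn (tt f) →* H) : Cn (t1 f s) →* H := π.comp (cj h0)

variable {g0 : G} (h0 : g0 * t1 f s * g0⁻¹ = tt f) (h1 : g0 * (t1 f s * ee f) * g0⁻¹ = s)
  (h2 : ∀ x ∈ DE p.h, g0 * x * g0⁻¹ ∈ (P : Subgroup G))

variable (c : Cent k f s π D ι Φ)

include p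

omit p [Finite G] in
theorem t1_e_inf : Cn (t1 f s) ⊓ Cn (t1 f s * ee f) = Cn (t1 f s) ⊓ Cn (ee f) := by
  ext x
  rw [mem_inf, mem_inf, mem_Cn, mem_Cn, mem_Cn]
  generalize t1 f s = w
  refine and_congr_right fun h1 => ?_
  rw [← mul_assoc, h1, mul_assoc w x, mul_assoc w (ee f)]
  exact mul_right_inj w

include c h1

/-- commuting modulo `O(C(e))` is commuting in `H` -/
theorem comm_iff (U : UData f) (hO : NoOdd D.ζ) {g v : G} (hg : g ∈ Cn (t1 f s)) (hge : g ∈ Cn (ee f))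
    (hv : v ∈ Cn (t1 f s)) (hve : v ∈ Cn (ee f)) :
    g * v * g⁻¹ * v⁻¹ ∈ OO (Cn (ee f)) ↔ θ h0 π ⟨g, hg⟩ * θ h0 π ⟨v, hv⟩ = θ h0 π ⟨v, hv⟩ * θ h0 π ⟨g, hg⟩ := by
  have hx1 : g * v * g⁻¹ * v⁻¹ ∈ Cn (t1 f s) := mul_mem (mul_mem (mul_mem hg hv) (inv_mem hg)) (inv_mem hv)
  have hx2 : g * v * g⁻¹ * v⁻¹ ∈ Cn (ee f) := mul_mem (mul_mem (mul_mem hge hve) (inv_mem hge)) (inv_mem hve)
  have hcore := U.core (t1 f s) (t1 f s * ee f) (t1_conj p) (t1e_conj p) (by
    have e1 := t1_e p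
    generalize t1 f s = w at e1 ⊢
    rw [mul_assoc w, ← e1]) (by
    intro h5
    have : ee f = 1 := mul_eq_left.1 h5.symm
    apply p.h.t_ne_one
    have h6 := te_u p
    rw [this, mul_one] at h6
    exact (isConj_one_right.1 h6))
  rw [t1_t1e p] at hcore
  have e1 : g * v * g⁻¹ * v⁻¹ ∈ OO (Cn (ee f)) ↔ g * v * g⁻¹ * v⁻¹ ∈ OO (Cn (t1 f s) ⊓ Cn (t1 f s * ee f)) := by
    rw [← hcore, mem_inf]
    exact ⟨fun h3 => ⟨h3, hx1⟩, fun h3 => h3.1⟩
  rw [e1, ← mem_inf_conj (g := g0), h0, h1, core_ts p c hO]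
  have hs : g0 * (g * v * g⁻¹ * v⁻¹) * g0⁻¹ ∈ Cn s := by
    have h3 : g * v * g⁻¹ * v⁻¹ ∈ Cn (t1 f s) ⊓ Cn (t1 f s * ee f) := by
      rw [t1_e_inf]; exact ⟨hx1, hx2⟩
    have h4 := mem_Cn_conj (g := g0) h3.2
    rwa [h1] at h4
  have e2 : θ h0 π ⟨g * v * g⁻¹ * v⁻¹, hx1⟩ = 1 ↔ g0 * (g * v * g⁻¹ * v⁻¹) * g0⁻¹ ∈ OO (Cn (tt f)) :=
    c.ker (cj h0 ⟨g * v * g⁻¹ * v⁻¹, hx1⟩)
  have e3 : θ h0 π ⟨g * v * g⁻¹ * v⁻¹, hx1⟩ =
      θ h0 π ⟨g, hg⟩ * θ h0 π ⟨v, hv⟩ * (θ h0 π ⟨g, hg⟩)⁻¹ * (θ h0 π ⟨v, hv⟩)⁻¹ := by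
    rw [← map_inv, ← map_inv, ← map_mul, ← map_mul, ← map_mul]
    rfl
  rw [mem_inf, and_iff_left hs, ← e2, e3, mul_inv_eq_one, mul_inv_eq_iff_eq_mul]

include h2

omit [Finite G] in
/-- the image of `DE` lies in the diagonal -/
theorem DE_image {x : G} (hx : x ∈ DE p.h) : ∃ q : Q k, θ h0 π ⟨x, DE_t1 p hx⟩ = δ D (ι q) := by
  have key : ∀ w (hw : w ∈ DE p.h), w * w = 1 → w ≠ 1 → ∃ q : Q k, θ h0 π ⟨w, DE_t1 p hw⟩ = δ D (ι q) := by
    intro w hw hww hw1
    obtain ⟨α, hα⟩ := move_inv p h0 h1 h2 hw hww hw1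
    refine ⟨α, ?_⟩
    rw [δ_apply, ← c.hf α α (f_mem p α α)]
    exact congrArg π (Subtype.ext hα)
  obtain ⟨w₁, hw₁, w₂, hw₂, ⟨a1, a2⟩, ⟨b1, b2⟩, h3⟩ := e_gen p.h hx
  obtain ⟨q₁, hq₁⟩ := key w₁ hw₁ a1 a2
  obtain ⟨q₂, hq₂⟩ := key w₂ hw₂ b1 b2
  rcases h3 with rfl | rfl
  · refine ⟨q₁ * q₂, ?_⟩
    rw [map_mul, map_mul, ← hq₁, ← hq₂, ← map_mul]
    rfl
  · exact ⟨q₁, hq₁⟩

omit p h1 h2 [Finite G] in
/-- the kernel of `θ` contains no 2-element -/
theorem θ_ne {x : G} (hx : x ∈ Cn (t1 f s)) (hxP : ∃ n : ℕ, x ^ 2 ^ n = 1) (h3 : θ h0 π ⟨x, hx⟩ = 1) [Finite G] : x = 1 := by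
  have h4 : g0 * x * g0⁻¹ ∈ OO (Cn (tt f)) := (c.ker (cj h0 ⟨x, hx⟩)).1 h3
  have h5 : ¬ 2 ∣ orderOf (g0 * x * g0⁻¹) := by
    intro h6
    apply OO_odd (Cn (tt f))
    have := orderOf_dvd_natCard (⟨_, h4⟩ : OO (Cn (tt f)))
    rw [Subgroup.orderOf_mk] at this
    exact h6.trans this
  have h6 : orderOf (g0 * x * g0⁻¹) = orderOf x := (MulAut.conj g0).orderOf_eq x
  rw [h6] at h5
  obtain ⟨n, hn⟩ := hxP
  obtain ⟨j, -, hj⟩ := (Nat.dvd_prime_pow Nat.prime_two).1 (orderOf_dvd_of_pow_eq_one hn)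
  rcases Nat.eq_zero_or_pos j with rfl | hj0
  · rw [← orderOf_eq_one_iff, hj, pow_zero]
  · exfalso
    apply h5
    rw [hj]
    exact dvd_pow_self 2 hj0.ne'

end Main

section Small

theorem odd_mul {Y : Type*} [Group Y] [Finite Y] {O : Subgroup Y} [O.Normal] (hO : ¬ 2 ∣ Nat.card O) {o y : Y}
    (ho : o ∈ O) (hy : Odd (orderOf y)) : Odd (orderOf (o * y)) := by
  have h1 : (o * y) ^ orderOf y ∈ O := by
    rw [← QuotientGroup.eq_one_iff, QuotientGroup.mk_pow, QuotientGroup.mk_mul, (QuotientGroup.eq_one_iff _).2 ho,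
      one_mul, ← QuotientGroup.mk_pow, pow_orderOf_eq_one, QuotientGroup.mk_one]
  have h2 : ((o * y) ^ orderOf y) ^ Nat.card O = 1 := by
    have := pow_card_eq_one' (x := (⟨_, h1⟩ : O))
    exact congrArg Subtype.val this
  rw [← pow_mul] at h2
  have h3 : Odd (Nat.card O) := Nat.not_even_iff_odd.1 fun h => hO h.two_dvd
  exact (hy.mul h3).of_dvd_nat (orderOf_dvd_of_pow_eq_one h2)

theorem eq_one_of_odd {Y : Type*} [Group Y] {x : Y} {n : ℕ} (h1 : x ^ 2 ^ n = 1) (h2 : Odd (orderOf x)) : x = 1 := by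
  obtain ⟨j, -, hj⟩ := (Nat.dvd_prime_pow Nat.prime_two).1 (orderOf_dvd_of_pow_eq_one h1)
  rcases Nat.eq_zero_or_pos j with rfl | hj0
  · rw [← orderOf_eq_one_iff, hj, pow_zero]
  · exfalso
    rw [hj, ← Nat.not_even_iff_odd, even_iff_two_dvd] at h2
    exact h2 (dvd_pow_self 2 hj0.ne')

theorem left_eq_one {Y : Type*} [Group Y] {x y : Y} {n : ℕ} (hc : x * y = y * x) (h1 : x ^ 2 ^ n = 1)
    (hy : Odd (orderOf y)) (hxy : Odd (orderOf (x * y))) : x = 1 := by
  refine eq_one_of_odd h1 ?_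
  have h2 : Commute (x * y) y⁻¹ := by
    rw [commute_iff_eq, mul_inv_cancel_right, hc, inv_mul_cancel_left]
  have h3 := h2.orderOf_mul_dvd_mul_orderOf
  rw [mul_inv_cancel_right, orderOf_inv] at h3
  exact (hxy.mul hy).of_dvd_nat h3

variable {E O : Subgroup G}

omit [Finite G] in
theorem k_conj (hO : E ≤ normalizer (O : Set G)) {r g v : G} (hr : r ∈ E) (h : g * v * g⁻¹ * v⁻¹ ∈ O) :
    (r * g * r⁻¹) * (r * v * r⁻¹) * (r * g * r⁻¹)⁻¹ * (r * v * r⁻¹)⁻¹ ∈ O := by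
  have e1 : (r * g * r⁻¹) * (r * v * r⁻¹) * (r * g * r⁻¹)⁻¹ * (r * v * r⁻¹)⁻¹ = r * (g * v * g⁻¹ * v⁻¹) * r⁻¹ := by
    group
  rw [e1]
  exact conj_mem hO hr h

omit [Finite G] in
theorem k_mul (hO : E ≤ normalizer (O : Set G)) {o g v : G} (ho : o ∈ O) (hv : v ∈ E)
    (h : g * v * g⁻¹ * v⁻¹ ∈ O) : (o * g) * v * (o * g)⁻¹ * v⁻¹ ∈ O := by
  have e1 : (o * g) * v * (o * g)⁻¹ * v⁻¹ = o * (g * v * g⁻¹ * v⁻¹) * (v * o⁻¹ * v⁻¹) := by group
  rw [e1]
  exact mul_mem (mul_mem ho h) (conj_mem hO hv (inv_mem ho))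

end Small

section Trans

variable {ψ : L →* alternatingGroup (Fin 7)} (hk : ∀ a, ψ a = 1 ↔ a = 1 ∨ a = D.ζ)

include hk

omit [Finite G] in
theorem δ_eq_iff {a b : L} : δ D a = δ D b ↔ ψ a = ψ b := by
  rw [← mul_inv_eq_one, ← map_inv, ← map_mul, δ_eq_one_iff, ← hk, map_mul, map_inv, mul_inv_eq_one]

omit [Finite G] in
theorem δ_comm_iff {a b : L} : δ D a * δ D b = δ D b * δ D a ↔ ψ a * ψ b = ψ b * ψ a := by
  rw [← map_mul, ← map_mul, δ_eq_iff hk, map_mul, map_mul]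

variable (c : Cent k f s π D ι Φ)

include c

omit [Finite G] in
theorem exists_ι {a : L} {q : Q k} (h : ψ a = ψ (ι q)) : ∃ q₁, a = ι q₁ := by
  have h1 : ψ (a * (ι q)⁻¹) = 1 := by rw [map_mul, map_inv, h, mul_inv_cancel]
  rcases (hk _).1 h1 with h2 | h2
  · exact ⟨q, mul_inv_eq_one.1 h2⟩
  · refine ⟨z k * q, ?_⟩
    rw [map_mul, c.ι_z, ← h2, inv_mul_cancel_right]

omit [Finite G] hk in
theorem Φ_δ {g : H} (hg : g ∈ Φ) (q : Q k) : g * δ D (ι q) = δ D (ι q) * g := by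
  rw [δ_apply, ← mul_assoc, c.fix₁ g hg, mul_assoc, c.fix₂ g hg, mul_assoc]

omit [Finite G] in
theorem form_comm {a b : L} {g : H} (hg : g ∈ Φ) {q : Q k}
    (h : (D.φ₁ a * D.φ₂ b * g) * δ D (ι q) = δ D (ι q) * (D.φ₁ a * D.φ₂ b * g)) :
    ψ a * ψ (ι q) = ψ (ι q) * ψ a ∧ ψ b * ψ (ι q) = ψ (ι q) * ψ b := by
  have h1 : D.φ₁ a * D.φ₂ b * δ D (ι q) = δ D (ι q) * (D.φ₁ a * D.φ₂ b) := by
    rw [mul_assoc _ g, Φ_δ c hg, ← mul_assoc, ← mul_assoc (δ D (ι q))] at h
    exact mul_right_cancel h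
  have h2 : D.φ₁ (a * ι q) * D.φ₂ (b * ι q) = D.φ₁ (ι q * a) * D.φ₂ (ι q * b) := by
    rw [δ_apply] at h1
    rw [map_mul, map_mul, map_mul, map_mul]
    calc D.φ₁ a * D.φ₁ (ι q) * (D.φ₂ b * D.φ₂ (ι q)) = D.φ₁ a * (D.φ₁ (ι q) * D.φ₂ b) * D.φ₂ (ι q) := by group
      _ = D.φ₁ a * D.φ₂ b * (D.φ₁ (ι q) * D.φ₂ (ι q)) := by rw [D.comm]; group
      _ = D.φ₁ (ι q) * (D.φ₂ (ι q) * D.φ₁ a) * D.φ₂ b := by rw [h1]; group
      _ = D.φ₁ (ι q) * (D.φ₁ a * D.φ₂ (ι q)) * D.φ₂ b := by rw [D.comm]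
      _ = _ := by group
  have hζ : ψ D.ζ = 1 := (hk _).2 (Or.inr rfl)
  rcases (mul_eq_iff D).1 h2 with ⟨h3, h4⟩ | ⟨h3, h4⟩
  · constructor
    · rw [← map_mul, h3, map_mul]
    · rw [← map_mul, h4, map_mul]
  · constructor
    · rw [← map_mul, h3, map_mul, hζ, one_mul, map_mul]
    · rw [← map_mul, h4, map_mul, hζ, one_mul, map_mul]

end Trans

section Final

/-- The element `r` cannot move a four-group centralised by an element of order 3 to a self-centralising one. -/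
theorem no_transfer (c : Cent k f s π D ι Φ) (U : UData f) {ψ : L →* alternatingGroup (Fin 7)}
    (hψ : Function.Surjective ψ) (hk : ∀ a, ψ a = 1 ↔ a = 1 ∨ a = D.ζ)
    {g0 : G} (h0 : g0 * t1 f s * g0⁻¹ = tt f) (h1 : g0 * (t1 f s * ee f) * g0⁻¹ = s)
    (h2 : ∀ x ∈ DE p.h, g0 * x * g0⁻¹ ∈ (P : Subgroup G))
    {v v' y r : G} (hv : v ∈ DE p.h) (hv' : v' ∈ DE p.h) (hy : y ∈ DE p.h) (hrP : r ∈ (P : Subgroup G))
    (hre : r ∈ Cn (ee f)) (hrv : r * v * r⁻¹ = v') (hry : r * y * r⁻¹ = y) {q q' qy : Q k}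
    (hq : θ h0 π ⟨v, DE_t1 p hv⟩ = δ D (ι q)) (hq' : θ h0 π ⟨v', DE_t1 p hv'⟩ = δ D (ι q'))
    (hqy : θ h0 π ⟨y, DE_t1 p hy⟩ = δ D (ι qy)) (hPr : Pr (ψ (ι q)) (ψ (ι qy)))
    (hSelf : Self (ψ (ι q')) (ψ (ι qy))) : False := by
  have hO : NoOdd D.ζ := noOdd hψ hk
  obtain ⟨c3, hc3, hc1, hcv, hcy⟩ := hPr
  obtain ⟨a, rfl⟩ := hψ c3
  have hδ3 : δ D a ^ 3 = 1 := by
    rw [← map_pow, ← map_one (δ D)]
    exact (δ_eq_iff hk).2 (by rw [map_pow, hc3, map_one])
  have hδo : Odd (orderOf (δ D a)) := (by decide : Odd 3).of_dvd_nat (orderOf_dvd_of_pow_eq_one hδ3)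
  obtain ⟨x, hx, hxs⟩ := lift_s p c (h := δ D a) (w_δ D a).symm
  obtain ⟨N, hN, hNo⟩ := Lift.exists_odd_pow π (x := x) (by rw [hx]; exact hδo)
  -- the element `g` of `C(t₁) ∩ C(e)`
  obtain ⟨g, hg⟩ : ∃ g : G, g0 * g * g0⁻¹ = ((x ^ N : Cn (tt f)) : G) := ⟨g0⁻¹ * ((x ^ N : Cn (tt f)) : G) * g0, by group⟩
  have hgt : g ∈ Cn (t1 f s) := by
    rw [← mem_Cn_conj_iff (g := g0), hg, h0]; exact (x ^ N).2
  have hgte : g ∈ Cn (t1 f s * ee f) := by
    rw [← mem_Cn_conj_iff (g := g0), hg, h1]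
    exact pow_mem hxs N
  have hge : g ∈ Cn (ee f) := by
    have h3 : g ∈ Cn (t1 f s) ⊓ Cn (t1 f s * ee f) := ⟨hgt, hgte⟩
    rw [t1_e_inf] at h3
    exact h3.2
  have hgo : Odd (orderOf g) := by
    have h3 : orderOf (g0 * g * g0⁻¹) = orderOf g := (MulAut.conj g0).orderOf_eq g
    rw [← h3, hg, Subgroup.orderOf_coe]; exact hNo
  have hθg : θ h0 π ⟨g, hgt⟩ = δ D a := by
    rw [← hx, ← hN]
    exact congrArg π (Subtype.ext hg)
  have hcom : ∀ {g v : G} (hg : g ∈ Cn (t1 f s)) (_ : g ∈ Cn (ee f)) (hv : v ∈ Cn (t1 f s)) (_ : v ∈ Cn (ee f)),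
      g * v * g⁻¹ * v⁻¹ ∈ OO (Cn (ee f)) ↔ θ h0 π ⟨g, hg⟩ * θ h0 π ⟨v, hv⟩ = θ h0 π ⟨v, hv⟩ * θ h0 π ⟨g, hg⟩ :=
    fun hg hge hv hve => comm_iff p h0 h1 c U hO hg hge hv hve
  have hOn : Cn (ee f) ≤ normalizer (OO (Cn (ee f)) : Set G) := le_normalizer_OO _
  have hgv : g * v * g⁻¹ * v⁻¹ ∈ OO (Cn (ee f)) := by
    rw [hcom hgt hge (DE_t1 p hv) (DE_mem_e p hv), hθg, hq, δ_comm_iff hk]; exact hcv
  have hgy : g * y * g⁻¹ * y⁻¹ ∈ OO (Cn (ee f)) := by
    rw [hcom hgt hge (DE_t1 p hy) (DE_mem_e p hy), hθg, hqy, δ_comm_iff hk]; exact hcy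
  -- the conjugate
  set g2 := r * g * r⁻¹ with hg2
  have hg2e : g2 ∈ Cn (ee f) := (Cn (ee f)).mul_mem ((Cn (ee f)).mul_mem hre hge) ((Cn (ee f)).inv_mem hre)
  have hg2o : Odd (orderOf g2) := by
    have h3 : orderOf (r * g * r⁻¹) = orderOf g := (MulAut.conj r).orderOf_eq g
    rw [hg2, h3]; exact hgo
  have hg2v : g2 * v' * g2⁻¹ * v'⁻¹ ∈ OO (Cn (ee f)) := by
    rw [← hrv]; exact k_conj hOn hre hgv
  have hg2y : g2 * y * g2⁻¹ * y⁻¹ ∈ OO (Cn (ee f)) := by
    have := k_conj hOn hre hgy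
    rwa [hry] at this
  have hst := U.star (t1 f s) (t1 f s * ee f) (t1_conj p) (t1e_conj p) (by
    have e1 := t1_e p
    generalize t1 f s = w at e1 ⊢
    rw [mul_assoc w, ← e1]) (by
    intro h5
    have : ee f = 1 := mul_eq_left.1 h5.symm
    apply p.h.t_ne_one
    have h6 := te_u p
    rw [this, mul_one] at h6
    exact (isConj_one_right.1 h6)) g2 (by rw [t1_t1e p]; exact hg2e) hg2o
  rw [t1_t1e p] at hst
  have hON : (Cfsg.oddCore (Cn (ee f))).Normal := Cfsg.Agent.Lib.Cores.pPrimeCore_normal 2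
  obtain ⟨o, ho, hoc⟩ := exists_comm (Y := Cn (ee f)) (x := ⟨t1 f s, mem_Cn.2 (t1_e p)⟩) (Subtype.ext (t1_sq p))
    (y := ⟨g2, hg2e⟩) (coe_mem_OO.1 hst)
  have hoO : (o : G) ∈ OO (Cn (ee f)) := coe_mem_OO.2 ho
  set g3 : G := o * g2 with hg3
  have hg3t : g3 ∈ Cn (t1 f s) := mem_Cn.2 (congrArg Subtype.val hoc)
  have hg3e : g3 ∈ Cn (ee f) := (Cn (ee f)).mul_mem o.2 hg2e
  have hg3o : Odd (orderOf g3) := by
    have h3 := odd_mul (O := Cfsg.oddCore (Cn (ee f))) oddCore_odd ho (y := ⟨g2, hg2e⟩) (by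
      rw [Subgroup.orderOf_mk]; exact hg2o)
    rw [← Subgroup.orderOf_coe] at h3
    exact h3
  have hg3v : g3 * v' * g3⁻¹ * v'⁻¹ ∈ OO (Cn (ee f)) := k_mul hOn hoO (DE_mem_e p hv') hg2v
  have hg3y : g3 * y * g3⁻¹ * y⁻¹ ∈ OO (Cn (ee f)) := k_mul hOn hoO (DE_mem_e p hy) hg2y
  rw [hcom hg3t hg3e (DE_t1 p hv') (DE_mem_e p hv'), hq'] at hg3v
  rw [hcom hg3t hg3e (DE_t1 p hy) (DE_mem_e p hy), hqy] at hg3y
  have hθo : Odd (orderOf (θ h0 π ⟨g3, hg3t⟩)) := by
    refine Odd.of_dvd_nat ?_ (orderOf_map_dvd (θ h0 π) ⟨g3, hg3t⟩)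
    rw [Subgroup.orderOf_mk]; exact hg3o
  obtain ⟨x₁, x₂, φ, hφ, hform⟩ := odd_form p c hθo
  rw [hform] at hg3v hg3y hθo
  obtain ⟨hv1, hv2⟩ := form_comm hk c hφ hg3v
  obtain ⟨hy1, hy2⟩ := form_comm hk c hφ hg3y
  have hSι : ∀ x : L, (ψ x = 1 ∨ ψ x = ψ (ι qy) ∨ ψ x = ψ (ι q') ∨ ψ x = ψ (ι qy) * ψ (ι q')) → ∃ q₁, ψ x = ψ (ι q₁) := by
    rintro x (h3 | h3 | h3 | h3)
    · exact ⟨1, by rw [h3, map_one, map_one]⟩
    · exact ⟨_, h3⟩
    · exact ⟨_, h3⟩
    · exact ⟨qy * q', by rw [h3, map_mul, map_mul]⟩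
  obtain ⟨a₁, ha₁⟩ := hSι x₁ (hSelf _ hv1 hy1)
  obtain ⟨a₂, ha₂⟩ := hSι x₂ (hSelf _ hv2 hy2)
  obtain ⟨b₁, rfl⟩ := exists_ι hk c ha₁
  obtain ⟨b₂, rfl⟩ := exists_ι hk c ha₂
  have hQ : ∀ b : Q k, b ^ 2 ^ (k + 2) = 1 := by
    intro b
    rw [← card_Q]
    exact pow_card_eq_one'
  have hτ : D.φ₁ (ι b₁) * D.φ₂ (ι b₂) = 1 := by
    refine left_eq_one (n := k + 2) (y := φ) ?_ ?_ ?_ hθo
    · rw [mul_assoc, ← c.fix₂ φ hφ, ← mul_assoc, ← c.fix₁ φ hφ, mul_assoc]
    · have h3 : Commute (D.φ₁ (ι b₁)) (D.φ₂ (ι b₂)) := D.comm _ _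
      rw [h3.mul_pow, ← map_pow, ← map_pow, ← map_pow, ← map_pow, hQ, hQ, map_one, map_one, map_one, one_mul]
    · refine Odd.of_dvd_nat c.odd ?_
      have := orderOf_dvd_natCard (⟨φ, hφ⟩ : Φ)
      rwa [Subgroup.orderOf_mk] at this
  rw [hτ, one_mul] at hform
  -- back
  have hv'' : r * v' * r⁻¹ ∈ DE p.h := normE p hrP (mem_Cn.1 hre) hv'
  obtain ⟨q'', hq''⟩ := DE_image p h0 h1 h2 c hv''
  have k1 : g3 * (r * v' * r⁻¹) * g3⁻¹ * (r * v' * r⁻¹)⁻¹ ∈ OO (Cn (ee f)) := by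
    rw [hcom hg3t hg3e (DE_t1 p hv'') (DE_mem_e p hv''), hq'', hform]
    exact Φ_δ c hφ q''
  have k2 : g2 * (r * v' * r⁻¹) * g2⁻¹ * (r * v' * r⁻¹)⁻¹ ∈ OO (Cn (ee f)) := by
    have h3 := k_mul hOn (inv_mem hoO) (DE_mem_e p hv'') k1
    have e1 : (o : G)⁻¹ * g3 = g2 := by rw [hg3, inv_mul_cancel_left]
    rwa [e1] at h3
  have k3 : g * v' * g⁻¹ * v'⁻¹ ∈ OO (Cn (ee f)) := by
    have h3 := k_conj hOn (inv_mem hre) k2
    have e1 : r⁻¹ * g2 * r⁻¹⁻¹ = g := by rw [hg2]; group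
    have e2 : r⁻¹ * (r * v' * r⁻¹) * r⁻¹⁻¹ = v' := by group
    rwa [e1, e2] at h3
  rw [hcom hgt hge (DE_t1 p hv') (DE_mem_e p hv'), hθg, hq', δ_comm_iff hk] at k3
  obtain ⟨q₃, hq₃⟩ := hSι a (hSelf _ k3 hcy)
  apply hc1
  refine eq_one_of_odd (n := k + 2) ?_ ((by decide : Odd 3).of_dvd_nat (orderOf_dvd_of_pow_eq_one hc3))
  rw [hq₃, ← map_pow, ← map_pow, hQ, map_one, map_one]

include p in
/-- **`L / ⟨ζ⟩` is not `A₇`.** -/
theorem no_A7 (hk2 : 2 ≤ k) (c : Cent k f s π D ι Φ) (U : UData f) {ψ : L →* alternatingGroup (Fin 7)}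
    (hψ : Function.Surjective ψ) (hk : ∀ a, ψ a = 1 ↔ a = 1 ∨ a = D.ζ) : False := by
  have h := p.h
  obtain ⟨g0, h0, h1, h2⟩ := exists_g0 p
  have hB : ∀ i, B f s i ∈ DE h := fun i => Or.inr ⟨i, rfl⟩
  have hA : ∀ i, A f i ∈ DE h := fun i => Or.inl ⟨i, rfl⟩
  obtain ⟨q0, hq0⟩ := DE_image p h0 h1 h2 c (hB 0)
  obtain ⟨q1, hq1⟩ := DE_image p h0 h1 h2 c (hB 1)
  have hy : (B f s 0 * B f s 1) * (B f s 0 * B f s 1) = A f (-2) := by
    rw [B_mul_B h, A_mul_A h]
    congr 1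
    ring
  have hqy : θ h0 π ⟨A f (-2), DE_t1 p (hA _)⟩ = δ D (ι ((q0 * q1) ^ 2)) := by
    rw [map_pow, map_mul, map_pow, map_mul, ← hq0, ← hq1, ← map_mul, pow_two, ← map_mul]
    exact congrArg _ (Subtype.ext hy.symm)
  have hrP : f (a 1) 1 ∈ (P : Subgroup G) := h.f_mem _ _
  have hrC : f (a 1) 1 ∈ Cn (ee f) := mem_Cn.2 (by rw [h.f_mul, h.f_mul, one_mul, mul_one, c_def, a_comm_a])
  have hrB : ∀ i, f (a 1) 1 * B f s i * (f (a 1) 1)⁻¹ = B f s (i + 1) := by
    intro i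
    rw [mul_inv_eq_iff_eq_mul, B, B, h.f_mul_fs, h.fs_mul_f, a_mul_a, a_mul_a, one_mul, mul_one,
      a_congr (show 1 + i = i + 1 by ring), a_congr (show hh k - (i + 1) + 1 = hh k - i by ring)]
  have hrA : ∀ i, f (a 1) 1 * A f i * (f (a 1) 1)⁻¹ = A f i := by
    intro i
    rw [mul_inv_eq_iff_eq_mul, A, h.f_mul, h.f_mul, a_comm_a, one_mul, mul_one]
  have hr'B : ∀ i, (f (a 1) 1)⁻¹ * B f s (i + 1) * (f (a 1) 1)⁻¹⁻¹ = B f s i := by
    intro i
    rw [← hrB]; group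
  have hr'A : ∀ i, (f (a 1) 1)⁻¹ * A f i * (f (a 1) 1)⁻¹⁻¹ = A f i := by
    intro i
    nth_rewrite 1 [← hrA i]
    group
  have hsq : ∀ {q : Q k} {x : G} (hx : x ∈ DE h), x * x = 1 → θ h0 π ⟨x, DE_t1 p hx⟩ = δ D (ι q) →
      (ψ (ι q)) ^ 2 = 1 := by
    intro q x hx hxx hq
    rw [← map_pow, ← map_one ψ, ← δ_eq_iff hk, map_pow, ← hq, ← map_pow, map_one]
    have e1 : (⟨x, DE_t1 p hx⟩ : Cn (t1 f s)) ^ 2 = 1 := Subtype.ext (by
      rw [pow_two]; exact hxx)
    rw [e1, map_one]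
  have hne : (ψ (ι q0) * ψ (ι q1)) ^ 2 ≠ 1 := by
    intro h3
    have h4 : ψ (ι ((q0 * q1) ^ 2)) = ψ 1 := by rw [map_pow, map_mul, map_pow, map_mul, h3, map_one]
    rw [← δ_eq_iff hk, ← hqy, map_one] at h4
    have h5 : A f (-2) = 1 := by
      refine θ_ne h0 c (DE_t1 p (hA _)) ?_ h4
      obtain ⟨n, hn⟩ := P.isPGroup' ⟨A f (-2), DE_le h (hA _)⟩
      exact ⟨n, congrArg Subtype.val hn⟩
    rw [A_eq_one_iff h] at h5
    have h6 : ((4 : ℕ) : ZMod (2 * 2 ^ k)) = 0 := by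
      push_cast
      linear_combination -h5
    rw [ZMod.natCast_eq_zero_iff] at h6
    have h7 := Nat.le_of_dvd (by norm_num) h6
    have h8 : 2 ^ 2 ≤ 2 ^ k := Nat.pow_le_pow_right (by norm_num) hk2
    omega
  have hQp : IsPGroup 2 (Q k) := IsPGroup.of_card (n := k + 2) card_Q
  have hRp : IsPGroup 2 (ψ.comp ι).range := by
    rw [MonoidHom.range_eq_map]
    exact (IsPGroup.to_subgroup hQp ⊤).map _
  have e2 : (ψ (ι q0) * ψ (ι q1)) ^ 2 = ψ (ι ((q0 * q1) ^ 2)) := by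
    rw [map_pow, map_mul, map_pow, map_mul]
  rcases cases _ hRp (ψ (ι q0)) (ψ (ι q1)) ⟨q0, rfl⟩ ⟨q1, rfl⟩ (hsq (hB 0) (B_sq h 0) hq0)
    (hsq (hB 1) (B_sq h 1) hq1) hne with ⟨h3, h4⟩ | ⟨h3, h4⟩
  · rw [e2] at h3 h4
    refine no_transfer p c U hψ hk h0 h1 h2 (hB 0) (hB 1) (hA (-2)) hrP hrC ?_ (hrA _) hq0 hq1 hqy h3 h4
    rw [hrB, zero_add]
  · rw [e2] at h3 h4
    refine no_transfer p c U hψ hk h0 h1 h2 (hB 1) (hB 0) (hA (-2)) (inv_mem hrP) (inv_mem hrC) ?_ (hr'A _)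
      hq1 hq0 hqy h3 h4
    have := hr'B 0
    rwa [zero_add] at this

end Final

end Cfsg.Agent.SylowSp4.CentUA7

private theorem dce_ddb9f32e81ef : _root_.True := by
  try have : _root_.True := by simp only [_root_.Cfsg.Agent.SylowSp4.Pat.tt.eq_1]
  exact _root_.True.intro
end

-- part: SpFourOdd/Recog
section
set_option linter.all false
open scoped Cfsg.Agent.FastGrp

/-!
# Recognition of `PSp₄(q)`, `q` odd
-/

set_option autoImplicit false

namespace Cfsg.Agent.SpFourOdd.Recog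

open Matrix Closing

/-- **Recognition of `PSp₄(q)`**, `q` odd. -/
theorem iso {G F : Type*} [Group G] [Finite G] [IsSimpleGroup G] [Field F] [Finite F] (h2 : (2 : F) ≠ 0)
    {D : Pair G F} (H : Hyp D) : Nonempty (G ≃* Cfsg.PSp 2 F) := by
  obtain ⟨p, hpc⟩ := CharP.exists F
  have hpp : p.Prime := by
    rcases CharP.char_is_prime_or_zero F p with h | h
    · exact h
    · subst h
      have := CharP.charP_to_charZero F
      exact absurd (inferInstance : Finite F) (by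
        rw [not_finite_iff_infinite]
        exact Infinite.of_injective (fun n : ℕ => (n : F)) Nat.cast_injective)
  have hp : Fact p.Prime := ⟨hpp⟩
  have hp2 : p ≠ 2 := by
    rintro rfl
    exact h2 (by exact_mod_cast CharP.cast_eq_zero F 2)
  have hodd : Odd p := hpp.odd_of_ne_two hp2
  obtain ⟨g, gz, gw, gP⟩ := LnSwap.exists_swap_hyp h2 H
  have I : LnA.Inp p D g :=
    { gz := gz
      gw := gw
      gP := gP
      zinv := by
        intro A hA hAu hAz a ha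
        obtain ⟨O, hC⟩ := H.cu
        exact LnCore.zinv h2 H hC A hA hAu (fun b hb => by have := hAz b hb; rwa [z_inv] at this) ha
      iso := LnIsol.isolated h2 H
      pel := fun N hN c hcu hcP n hc => LnIsol.p_elem h2 H N hN c hcu hcP n hc }
  have L := LnLine.line hodd h2 H I
  obtain ⟨y, R, hy⟩ := Line.exists_root p hp2 H L
  refine iso_of_root h2 H R ?_
  intro f hfz hfw hf t
  have h1 := L.norm f hfz hfw hf (y t) ((hy _).2 ⟨t, rfl⟩)
  obtain ⟨s, hs⟩ := (hy _).1 h1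
  exact ⟨s, hs.symm⟩

end Cfsg.Agent.SpFourOdd.Recog
end

-- part: SylowSp4/CentUExport_mg
section

end

-- part: SylowSp4/Large_mg
section
prune_inst 0x203000006922020000000000000020201000000000000001d0200400000f5002000220004a000c0008000000000000200000000000000000000004000004012080a240003300a10426000f800002000000000000000000000000000000041000000000000
set_option linter.all false
open scoped Cfsg.Agent.FastGrp

-- part: SylowSp4/Large
section
/-!
# Type `PSp_4(q)`, `q = 1, 7 mod 8`: the fusion pattern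

`pat`: in a finite simple group with Sylow 2-subgroup of type `PSp_4(q)`, `k ≥ 2`, the fusion is that of `PSp_4(q)`
(after possibly replacing `s` by `t s`).
-/

set_option autoImplicit false

namespace Cfsg.Agent.SylowSp4.Large

open Subgroup QuaternionGroup Cfsg.Agent.SylowSp4.Coord Cfsg.Agent.SylowSp4.Facts Cfsg.Agent.SylowSp4.Base
open Cfsg.Agent.SylowSp4.CentA Cfsg.Agent.SylowSp4.Extremal Cfsg.Agent.SylowSp4.LargeA
open Cfsg.Agent.SylowSp4.CentG Cfsg.Agent.SylowSp4.Pat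

/-- a finite simple group with Sylow 2-subgroup of type `PSp_4(q)` has no subgroup of index two -/
theorem index_ne_two {G : Type*} [Group G] [Finite G] [IsSimpleGroup G] {P : Subgroup G} {k : ℕ}
    {f : Q k → Q k → G} {s : G} (h : TSp P k f s) (H : Subgroup G) : H.index ≠ 2 := by
  intro hH
  have hn : H.Normal := Subgroup.normal_of_index_eq_two hH
  rcases hn.eq_bot_or_eq_top with h1 | h1
  · rw [h1, Subgroup.index_bot] at hH
    have h2 : Nat.card P ∣ 2 := by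
      rw [← hH]
      exact Subgroup.card_subgroup_dvd_card P
    rw [card_eq h] at h2
    have h3 := Nat.le_of_dvd (by norm_num) h2
    have h4 : 2 ^ 4 ≤ 2 ^ (2 * k + 4) := Nat.pow_le_pow_right (by norm_num) (by omega)
    omega
  · rw [h1, Subgroup.index_top] at hH
    omega

section

variable {G : Type*} [Group G] [Finite G] {P : Sylow 2 G} {k : ℕ} {f : Q k → Q k → G} {s : G}
  (h : TSp (P : Subgroup G) k f s)

include h

/-- `t` is conjugate to another element of `P` -/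
theorem exists_fusion [IsSimpleGroup G] : ∃ g : G, g * f (z k) 1 * g⁻¹ ∈ (P : Subgroup G) ∧
    g * f (z k) 1 * g⁻¹ ≠ f (z k) 1 := by
  by_contra hcon
  push Not at hcon
  have ho : orderOf (f (z k) 1) = 2 := by
    apply orderOf_eq_prime
    · rw [sq, h.t_sq]
    · exact h.t_ne_one
  obtain ⟨N, hN, hNo, hNc⟩ := S0215.result P (f (z k) 1) ho (h.f_mem _ _) (fun g hg => hcon g hg)
  rcases hN.eq_bot_or_eq_top with h1 | h1
  · -- `t` central
    have hZ : f (z k) 1 ∈ Subgroup.center G := by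
      rw [Subgroup.mem_center_iff]
      intro g
      have h2 := hNc g
      rw [h1, Subgroup.mem_bot] at h2
      have h3 : f (z k) 1 * g * (f (z k) 1)⁻¹ * g⁻¹ * g * f (z k) 1 = 1 * g * f (z k) 1 := by rw [h2]
      have h4 : f (z k) 1 * g * (f (z k) 1)⁻¹ * g⁻¹ * g * f (z k) 1 = f (z k) 1 * g := by group
      rw [h4, one_mul] at h3
      exact h3.symm
    rcases (inferInstance : (Subgroup.center G).Normal).eq_bot_or_eq_top with h2 | h2
    · rw [h2, Subgroup.mem_bot] at hZ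
      exact h.t_ne_one hZ
    · -- `G` abelian
      have h3 : f (xa 0) 1 * f (a (qq k)) 1 = f (a (qq k)) 1 * f (xa 0) 1 := by
        have h4 : f (xa 0) 1 ∈ Subgroup.center G := by rw [h2]; exact Subgroup.mem_top _
        exact ((Subgroup.mem_center_iff.1 h4) _).symm
      rw [h.f_mul, h.f_mul, h.f_eq_iff] at h3
      rcases h3 with ⟨h4, -⟩ | ⟨-, h4⟩
      · have h5 := a_sq_z (c_add h.hk)
        rcases of_a_comm_xa h4.symm with h6 | h6
        · exact ne_one_of_sq_z h5 h6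
        · exact ne_z_of_sq_z h5 h6
      · rw [mul_one, mul_one] at h4
        exact z_ne_one h4.symm
  · rw [h1, Subgroup.card_top] at hNo
    have h2 : Nat.card (P : Subgroup G) ∣ Nat.card G := Subgroup.card_subgroup_dvd_card _
    rw [card_eq h] at h2
    have h3 : 2 ∣ Nat.card G := dvd_trans (dvd_pow_self 2 (by omega)) h2
    exact Nat.not_even_iff_odd.2 hNo (even_iff_two_dvd.2 h3)

/-- an involution `y ∈ P` outside the base group is conjugate in `P` to `s` or `t s` -/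
theorem out_conj {y : G} (hy : y ∈ (P : Subgroup G)) (hyy : y * y = 1) (hyb : ¬ ∃ α β, y = f α β) :
    IsConj s y ∨ IsConj (f (z k) 1 * s) y := by
  rcases inv_cases h hy hyy with h1 | h1 | ⟨α, β, -, -, h1⟩ | ⟨α, h1⟩ | ⟨α, h1⟩
  · exact absurd ⟨1, 1, by rw [h1, h.f_one]⟩ hyb
  · exact absurd ⟨_, _, h1⟩ hyb
  · exact absurd ⟨_, _, h1⟩ hyb
  · left; exact isConj_iff.2 ⟨f α 1, by rw [conj_s h, h1]⟩
  · right; exact isConj_iff.2 ⟨f α 1, by rw [conj_ts h, h1]⟩

/-- the pattern, given that `t ~ s` -/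
theorem pat_of_ts [IsSimpleGroup G]
    (hu : ∀ α β : Q k, α * α = z k → β * β = z k →
      ∃ g : G, g * f (z k) 1 = f (z k) 1 * g ∧ g * f α β * g⁻¹ = f (c k) (c k))
    (htu : ¬ IsConj (f (z k) 1) (f (c k) (c k))) (hts : IsConj (f (z k) 1) s) : Pat P k f s := by
  have hcs := c_sq h.hk
  have hU : ∀ α β : Q k, α * α = z k → β * β = z k → ¬ IsConj (f (z k) 1) (f α β) := by
    intro α β hα hβ hc
    obtain ⟨g, -, hg⟩ := hu α β hα hβ
    exact htu (hc.trans (isConj_iff.2 ⟨g, hg⟩))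
  -- `t s` is not conjugate to `t`
  have htts : ¬ IsConj (f (z k) 1) (f (z k) 1 * s) := by
    intro htts
    obtain ⟨g₀, hg₀⟩ := isConj_iff.1 hts.symm
    obtain ⟨g, hg, hC⟩ := exists_conj_of_central P (fun y hy => (h.t_comm hy).symm) ⟨g₀, hg₀⟩
    have hUb : ∀ α : Q k, α * α = z k → ∃ γ δ, g * f α α * g⁻¹ = f γ δ := by
      intro α hα
      by_contra hcon
      have h1 := hC (f α α) (h.f_mem _ _) (by rw [h.s_f])
      have h2 : (g * f α α * g⁻¹) * (g * f α α * g⁻¹) = 1 := by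
        calc (g * f α α * g⁻¹) * (g * f α α * g⁻¹) = g * (f α α * f α α) * g⁻¹ := by group
          _ = 1 := by rw [h.f_mul, hα, h.f_zz]; group
      have h3 : IsConj (f (z k) 1) (g * f α α * g⁻¹) := by
        rcases out_conj h h1 h2 hcon with h4 | h4
        · exact hts.trans h4
        · exact htts.trans h4
      exact hU α α hα hα (h3.trans (isConj_iff.2 ⟨g⁻¹, by group⟩))
    have hUb' : ∃ γ δ, g * f (z k * c k) (c k) * g⁻¹ = f γ δ := by
      by_contra hcon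
      have h1 := hC (f (z k * c k) (c k)) (h.f_mem _ _) ((comm_s_iff h).2 (Or.inr rfl))
      have h2 : (g * f (z k * c k) (c k) * g⁻¹) * (g * f (z k * c k) (c k) * g⁻¹) = 1 := by
        calc (g * f (z k * c k) (c k) * g⁻¹) * (g * f (z k * c k) (c k) * g⁻¹) =
              g * (f (z k * c k) (c k) * f (z k * c k) (c k)) * g⁻¹ := by group
          _ = 1 := by rw [h.f_mul, mul_sq_z hcs, hcs, h.f_zz]; group
      have h3 : IsConj (f (z k) 1) (g * f (z k * c k) (c k) * g⁻¹) := by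
        rcases out_conj h h1 h2 hcon with h4 | h4
        · exact hts.trans h4
        · exact htts.trans h4
      exact hU _ _ (mul_sq_z hcs) hcs (h3.trans (isConj_iff.2 ⟨g⁻¹, by group⟩))
    have hmul : ∀ {x y : G}, (g * x * g⁻¹) * (g * y * g⁻¹) = g * (x * y) * g⁻¹ := by
      intro x y; group
    have hsq : ∀ {x : G}, x * x = 1 → (g * x * g⁻¹) * (g * x * g⁻¹) = 1 := by
      intro x hx
      rw [hmul, hx]; group
    have hconj : ∀ {x y : G}, x * y = y * x → (g * x * g⁻¹) * (g * y * g⁻¹) = (g * y * g⁻¹) * (g * x * g⁻¹) := by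
      intro x y hxy
      rw [hmul, hmul, hxy]
    have htb : ∃ γ δ, g * f (z k) 1 * g⁻¹ = f γ δ := by
      have e : f (z k) 1 = f (z k * c k) (c k) * f (c k) (c k) := by
        rw [h.f_mul, mul_assoc, hcs, z_mul_z, h.f_one_z]
      rw [e, ← hmul]
      exact base_mul h hUb' (hUb _ hcs)
    have he2 : f (c k) (c k) * f (c k) (c k) = 1 := by rw [h.f_mul, hcs, h.f_zz]
    have hy2 : f (xa 0) (xa 0) * f (xa 0) (xa 0) = 1 := by rw [h.f_mul, Coord.xa_sq, h.f_zz]
    have hey := e_comm h (h.f_mem (xa 0) (xa 0)) (by rw [h.s_f])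
    have hte := h.t_comm (h.f_mem (c k) (c k))
    have hty := h.t_comm (h.f_mem (xa 0) (xa 0))
    have hr := rank h htb (hUb _ hcs) (hUb _ (Coord.xa_sq 0)) (hsq h.t_sq) (hsq he2) (hsq hy2) (hconj hte) (hconj hty)
      (hconj hey)
    rw [hmul, hmul, hmul, hmul] at hr
    have hfin : ∀ {x : G}, (g * x * g⁻¹ = 1 ∨ g * x * g⁻¹ = f (z k) 1) → (∃ γ δ, x = f γ δ) → x = 1 := by
      rintro x (h1 | h1) hxb
      · have h2 : x = g⁻¹ * (g * x * g⁻¹) * g := by group
        rw [h2, h1]; group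
      · exfalso
        rw [← hg] at h1
        have h2 := mul_left_cancel (mul_right_cancel h1)
        rw [h2] at hxb
        exact s_not_base h hxb
    rcases hr with h1 | h1 | h1 | h1 | h1 | h1 | h1
    · exact h.t_ne_one (hfin h1 ⟨_, _, rfl⟩)
    · have h2 := hfin h1 ⟨_, _, rfl⟩
      rw [← h.f_one, h.f_eq_iff, mul_one] at h2
      rcases h2 with ⟨h3, -⟩ | ⟨h3, -⟩
      · exact ne_one_of_sq_z hcs h3
      · exact ne_z_of_sq_z hcs h3
    · have h2 := hfin h1 ⟨_, _, rfl⟩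
      rw [← h.f_one, h.f_eq_iff, mul_one] at h2
      rcases h2 with ⟨h3, -⟩ | ⟨h3, -⟩
      · exact ne_one_of_sq_z (Coord.xa_sq 0) h3
      · exact ne_z_of_sq_z (Coord.xa_sq 0) h3
    · have h2 := hfin h1 ⟨_, _, h.f_mul _ _ _ _⟩
      rw [h.f_mul, ← h.f_one, h.f_eq_iff, one_mul, mul_one] at h2
      rcases h2 with ⟨-, h3⟩ | ⟨-, h3⟩
      · exact ne_one_of_sq_z hcs h3
      · exact ne_z_of_sq_z hcs h3
    · have h2 := hfin h1 ⟨_, _, h.f_mul _ _ _ _⟩
      rw [h.f_mul, ← h.f_one, h.f_eq_iff, one_mul, mul_one] at h2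
      rcases h2 with ⟨-, h3⟩ | ⟨-, h3⟩
      · exact ne_one_of_sq_z (Coord.xa_sq 0) h3
      · exact ne_z_of_sq_z (Coord.xa_sq 0) h3
    · have h2 := hfin h1 ⟨_, _, h.f_mul _ _ _ _⟩
      rw [h.f_mul, ← h.f_one, h.f_eq_iff, mul_one, c, a_mul_xa] at h2
      rcases h2 with ⟨h3, -⟩ | ⟨h3, -⟩
      · rw [one_def] at h3
        cases h3
      · rw [z_def] at h3
        cases h3
    · have h2 := hfin h1 ⟨_, _, by rw [h.f_mul, h.f_mul]⟩
      rw [h.f_mul, h.f_mul, ← h.f_one, h.f_eq_iff, one_mul, mul_one, c, a_mul_xa] at h2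
      rcases h2 with ⟨-, h3⟩ | ⟨-, h3⟩
      · rw [one_def] at h3
        cases h3
      · rw [z_def] at h3
        cases h3
  -- Thompson transfer: `t s` is conjugate into the base group
  obtain ⟨g, α, β, hg⟩ : ∃ g : G, ∃ α β, g * (f (z k) 1 * s) * g⁻¹ = f α β := by
    by_contra hcon
    push Not at hcon
    obtain ⟨V, hV⟩ := exists_transfer P (base h) (relIndex_base h)
    have h1 := char_trivial (index_ne_two h) V (f (z k) 1 * s)
    have h5 : f (z k) 1 * s ∉ base h := by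
      rw [mem_base]
      rintro ⟨α, β, h6⟩
      exact h.fs_ne _ _ _ _ h6
    refine h5 ((hV _ (h.fs_mem _ _) ?_).1 h1)
    intro n g hg
    have h2 : (f (z k) 1 * s) * (f (z k) 1 * s) = 1 := (tau h).s_s
    rcases Nat.even_or_odd' n with ⟨m, rfl | rfl⟩
    · rw [pow_mul, sq, h2, one_pow, mul_one, mul_inv_cancel]
    · rw [pow_succ, pow_mul, sq, h2, one_pow, one_mul]
      constructor
      · intro h3
        obtain ⟨α, β, h4⟩ := (mem_base h).1 h3
        exact absurd h4 (hcon g α β)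
      · intro h3
        exact absurd h3 h5
  have huts : IsConj (f (c k) (c k)) (f (z k) 1 * s) := by
    have h2 : (f (z k) 1 * s) * (f (z k) 1 * s) = 1 := (tau h).s_s
    have h3 : f α β * f α β = 1 := by
      rw [← hg]
      calc g * (f (z k) 1 * s) * g⁻¹ * (g * (f (z k) 1 * s) * g⁻¹) =
            g * ((f (z k) 1 * s) * (f (z k) 1 * s)) * g⁻¹ := by group
        _ = 1 := by rw [h2]; group
    have h4 : IsConj (f (z k) 1 * s) (f α β) := isConj_iff.2 ⟨g, hg⟩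
    rcases sq_cases_of_inv h h3 with ⟨h5, -⟩ | ⟨h5, h6⟩
    · exfalso
      rcases one_or_t h h3 (eq_of_sq_one h5) with h6 | h6
      · rw [h6] at hg
        have h7 : f (z k) 1 * s = 1 := by
          have : f (z k) 1 * s = g⁻¹ * (g * (f (z k) 1 * s) * g⁻¹) * g := by group
          rw [this, hg]; group
        rw [← h.f_one] at h7
        exact h.fs_ne _ _ _ _ h7
      · rw [h6] at h4
        exact htts h4.symm
    · obtain ⟨g', -, hg'⟩ := hu α β h5 h6
      exact (h4.trans (isConj_iff.2 ⟨g', hg'⟩)).symm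
  exact
    { h := h
      ts := hts
      uu := by
        intro α β hα hβ
        obtain ⟨g', hg't, hg'⟩ := hu α β hα hβ
        refine ⟨g'⁻¹, ?_, ?_⟩
        · rw [mem_centralizer_singleton_iff]
          have : g'⁻¹ * f (z k) 1 = g'⁻¹ * (f (z k) 1 * g') * g'⁻¹ := by group
          rw [this, ← hg't]; group
        · change g'⁻¹ * f (c k) (c k) * g'⁻¹⁻¹ = f α β
          rw [← hg']; group
      uts := huts
      tu := htu }

/-- The fusion pattern of `PSp_4(q)` from the conjugacy of all `f α β` in `C_G(t)`. -/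
theorem pat_of_uu [IsSimpleGroup G]
    (hu : ∀ α β : Q k, α * α = z k → β * β = z k →
      ∃ g : G, g * f (z k) 1 = f (z k) 1 * g ∧ g * f α β * g⁻¹ = f (c k) (c k))
    (htu : ¬ IsConj (f (z k) 1) (f (c k) (c k))) : Pat P k f s ∨ Pat P k f (f (z k) 1 * s) := by
  obtain ⟨g, hgP, hgt⟩ := exists_fusion h
  have h1 : (g * f (z k) 1 * g⁻¹) * (g * f (z k) 1 * g⁻¹) = 1 := by
    calc g * f (z k) 1 * g⁻¹ * (g * f (z k) 1 * g⁻¹) = g * (f (z k) 1 * f (z k) 1) * g⁻¹ := by group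
      _ = 1 := by rw [h.t_sq]; group
  have htg : IsConj (f (z k) 1) (g * f (z k) 1 * g⁻¹) := isConj_iff.2 ⟨g, rfl⟩
  by_cases hb : ∃ α β, g * f (z k) 1 * g⁻¹ = f α β
  · exfalso
    obtain ⟨α, β, hb⟩ := hb
    rw [hb] at h1 hgt htg
    rcases sq_cases_of_inv h h1 with ⟨h5, -⟩ | ⟨h5, h6⟩
    · rcases one_or_t h h1 (eq_of_sq_one h5) with h6 | h6
      · rw [h6] at htg
        exact h.t_ne_one (isConj_one_right.1 htg.symm)
      · exact hgt h6
    · obtain ⟨g', -, hg'⟩ := hu α β h5 h6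
      exact htu (htg.trans (isConj_iff.2 ⟨g', hg'⟩))
  · rcases out_conj h hgP h1 hb with h2 | h2
    · exact Or.inl (pat_of_ts h hu htu (htg.trans h2.symm))
    · exact Or.inr (pat_of_ts (tau h) hu htu (htg.trans h2.symm))

/-- **Fusion for `k ≥ 2`**: the pattern is that of `PSp_4(q)`. -/
theorem pat [IsSimpleGroup G] (hk : 2 ≤ k) : Pat P k f s ∨ Pat P k f (f (z k) 1 * s) := by
  refine pat_of_uu h (fun α β hα hβ => LargeC.uu h hk (index_ne_two h) hα hβ) ?_
  intro hc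
  obtain ⟨g, hg⟩ := isConj_iff.1 hc.symm
  exact e_not_conj h hk g hg

end

end Cfsg.Agent.SylowSp4.Large
end

-- part: SylowSp4/TwoBase
section
/-!
# Fusion for the type `PSp₄(3)` (order 64): base file

`Mod P F`: the homomorphism `F : M64 →* G` is an isomorphism onto the Sylow 2-subgroup `P`.  `q1 l = (c_l, 1)`,
`q2 l = (1, c_l)`, `ee l = (c_l, c_l)`, `c_0 = i`, `c_1 = j`, `c_2 = ij`.

* `ofTSp` : coordinates `TSp P 1 f s` give `Mod P (hom h)`;
* `eq_AF` : `A` is the only elementary abelian subgroup of order 16 of `P`;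
* `exists_NA` : for every subgroup `D` containing `A`, `N_D(A)` controls the `D`-fusion in `A`;
* further facts in `TwoSwap.lean`.
-/

set_option autoImplicit false

namespace Cfsg.Agent.SylowSp4.TwoBase

open Subgroup Cfsg.Agent.SylowSp4.AltModel

/-- `(c_l, 1)` -/
def q1 : Fin 3 → M64 := ![i1, j1, i1 * j1]
/-- `(1, c_l)` -/
def q2 : Fin 3 → M64 := ![i2, j2, i2 * j2]
/-- `(c_l, c_l)` -/
def ee (l : Fin 3) : M64 := q1 l * q2 l

/-! ### facts on the model -/

theorem A_mul : ∀ x y : M64, InA x → InA y → InA (x * y) := by (open scoped Cfsg.Agent.SylowSp4.Fast64 in decide +kernel)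
theorem A_one : InA 1 := by decide +kernel
theorem A_inv : ∀ x : M64, InA x → InA x⁻¹ := by decide +kernel
theorem A_comm : ∀ x y : M64, InA x → InA y → x * y = y * x := by (open scoped Cfsg.Agent.SylowSp4.Fast64 in decide +kernel)
theorem A_sq : ∀ x : M64, InA x → x * x = 1 := by decide +kernel
theorem A_t : InA t := by decide +kernel
theorem A_s : InA s := by decide +kernel
theorem A_ee : ∀ l, InA (ee l) := by decide +kernel
theorem A_conj : ∀ g x : M64, InA x → InA (g * x * g⁻¹) := by (open scoped Cfsg.Agent.SylowSp4.Fast64 in decide +kernel)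
theorem t_central : ∀ x : M64, x * t = t * x := by decide +kernel
theorem card_A : Fintype.card {x : M64 // InA x} = 16 := by decide +kernel
theorem card_cen : ∀ x : M64, ¬ InA x → Fintype.card {y : M64 // y * y = 1 ∧ y * x = x * y} < 16 := by
  (simp only [← Nat.card_eq_fintype_card]; open scoped Cfsg.Agent.SylowSp4.Fast64 in decide +kernel)
theorem card_V : ∀ l, Fintype.card {y : M64 // y * ee l = ee l * y} = 32 := by (simp only [← Nat.card_eq_fintype_card]; open scoped Cfsg.Agent.SylowSp4.Fast64 in decide +kernel)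
theorem big_cen : ∀ x : M64, x ≠ 1 → x ≠ t → 32 ≤ Fintype.card {y : M64 // y * x = x * y} →
    ∃ l, x = ee l ∨ x = t * ee l := by (simp only [← Nat.card_eq_fintype_card]; open scoped Cfsg.Agent.SylowSp4.Fast64 in decide +kernel)
theorem t_ne_one : t ≠ 1 := by decide +kernel
theorem ee_ne_t : ∀ l, ee l ≠ t := by decide +kernel
theorem ee_ne_one : ∀ l, ee l ≠ 1 := by decide +kernel
/-- `S / A` has exponent 2 and centralises -/
theorem sq_mem_A : ∀ x : M64, InA (x * x) := by decide +kernel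
theorem cen_A : ∀ x : M64, (∀ y, InA y → x * y = y * x) → InA x := by (open scoped Cfsg.Agent.SylowSp4.Fast64 in decide +kernel)

/-- the subgroup `A` of the model -/
def Asub : Subgroup M64 where
  carrier := {x | InA x}
  mul_mem' {x y} hx hy := A_mul x y hx hy
  one_mem' := A_one
  inv_mem' {x} hx := A_inv x hx

theorem card_Asub : Nat.card Asub = 16 := by
  rw [← card_A, ← Nat.card_eq_fintype_card]
  rfl

/-- `A` is the only elementary abelian subgroup of order 16 -/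
theorem eq_A (B : Subgroup M64) (hB : ∀ x ∈ B, x * x = 1) (hc : Nat.card B = 16) : B = Asub := by
  classical
  have hcomm : ∀ x ∈ B, ∀ y ∈ B, y * x = x * y := by
    intro x hx y hy
    have h1 := hB _ (B.mul_mem hx hy)
    have hxi : x⁻¹ = x := inv_eq_of_mul_eq_one_left (hB x hx)
    have hyi : y⁻¹ = y := inv_eq_of_mul_eq_one_left (hB y hy)
    have h2 : (x * y)⁻¹ = x * y := inv_eq_of_mul_eq_one_left h1
    rw [mul_inv_rev, hxi, hyi] at h2
    exact h2
  have hle : B ≤ Asub := by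
    intro x hx
    by_contra hxA
    have h1 := card_cen x hxA
    have h2 : Nat.card B ≤ Nat.card {y : M64 // y * y = 1 ∧ y * x = x * y} :=
      Nat.card_le_card_of_injective (fun b : B => (⟨b, hB b b.2, hcomm x hx b b.2⟩ :
        {y : M64 // y * y = 1 ∧ y * x = x * y})) (by
          intro a b hab
          have h3 := congrArg Subtype.val hab
          exact Subtype.ext h3)
    rw [hc, Nat.card_eq_fintype_card] at h2
    omega
  exact Subgroup.eq_of_le_of_card_ge hle (by rw [hc, card_Asub])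

/-- Coordinates: `F` is an isomorphism from the model onto `P`. -/
structure Mod {G : Type*} [Group G] (P : Subgroup G) (F : M64 →* G) : Prop where
  inj : Function.Injective F
  range : F.range = P

section Coord

open Cfsg.Agent.SylowSp4.Coord

variable {G : Type*} [Group G] {S : Subgroup G} {f : Q 1 → Q 1 → G} {s' : G}

theorem ofTSp (h : TSp S 1 f s') : Mod S (hom h) := ⟨hom_injective h, hom_range h⟩

/-- the element `c_l` of `Q 1` -/
def cc : Fin 3 → Q 1 := ![qel 1 0 0, qel 0 1 0, qel 1 1 0]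

theorem cc_zero : cc 0 = Facts.c 1 := by decide +kernel

theorem qel_cases (α : Q 1) (hα : α * α = z 1) : ∃ l, α = cc l ∨ α = z 1 * cc l := by
  revert α
  show ∀ α : QuaternionGroup 2, α * α = z 1 → ∃ l, α = cc l ∨ α = z 1 * cc l
  decide +kernel

theorem hom_t (h : TSp S 1 f s') : hom h t = f (z 1) 1 := by
  rw [hom_apply, toG]
  have h1 : (qel 0 0 1 : Q 1) = z 1 := by decide +kernel
  show f (qel 0 0 1) (qel 0 0 0) * spow s' false = _
  rw [h1, qel_zero]
  simp [spow]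

theorem hom_s (h : TSp S 1 f s') : hom h s = s' := by
  rw [hom_apply, toG]
  show f (qel 0 0 0) (qel 0 0 0) * spow s' true = _
  rw [qel_zero, h.f_one]
  simp [spow]

theorem hom_q1 (h : TSp S 1 f s') (l : Fin 3) : hom h (q1 l) = f (cc l) 1 := by
  rw [hom_apply, toG]
  fin_cases l
  · show f (qel 1 0 0) (qel 0 0 0) * spow s' false = f (qel 1 0 0) 1
    rw [qel_zero]; simp [spow]
  · show f (qel 0 1 0) (qel 0 0 0) * spow s' false = f (qel 0 1 0) 1
    rw [qel_zero]; simp [spow]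
  · show f (qel 1 1 0) (qel 0 0 0) * spow s' false = f (qel 1 1 0) 1
    rw [qel_zero]; simp [spow]

theorem hom_q2 (h : TSp S 1 f s') (l : Fin 3) : hom h (q2 l) = f 1 (cc l) := by
  rw [hom_apply, toG]
  fin_cases l
  · show f (qel 0 0 0) (qel 1 0 0) * spow s' false = f 1 (qel 1 0 0)
    rw [qel_zero]; simp [spow]
  · show f (qel 0 0 0) (qel 0 1 0) * spow s' false = f 1 (qel 0 1 0)
    rw [qel_zero]; simp [spow]
  · show f (qel 0 0 0) (qel 1 1 0) * spow s' false = f 1 (qel 1 1 0)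
    rw [qel_zero]; simp [spow]

theorem hom_ee (h : TSp S 1 f s') (l : Fin 3) : hom h (ee l) = f (cc l) (cc l) := by
  rw [ee, map_mul, hom_q1, hom_q2, h.f_mul, mul_one, one_mul]

/-- the base group -/
theorem hom_InR (h : TSp S 1 f s') {x : M64} (hx : InR x) : ∃ α β, hom h x = f α β := by
  obtain ⟨a, b, c, d, e, m⟩ := x
  obtain rfl : m = false := hx
  exact ⟨_, _, by rw [hom_apply, toG]; simp [spow]; rfl⟩

end Coord

section

variable {G : Type*} [Group G] {P : Sylow 2 G} {F : M64 →* G} (M : Mod (P : Subgroup G) F)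

include M

theorem mem (x : M64) : F x ∈ (P : Subgroup G) := by
  rw [← M.range]; exact ⟨x, rfl⟩

theorem exists_of_mem {g : G} (hg : g ∈ (P : Subgroup G)) : ∃ x, F x = g := by
  rw [← M.range] at hg; exact hg

theorem t_comm {g : G} (hg : g ∈ (P : Subgroup G)) : g * F t = F t * g := by
  obtain ⟨x, rfl⟩ := exists_of_mem M hg
  rw [← map_mul, ← map_mul, t_central]

theorem card_AF : Nat.card (Asub.map F) = 16 := by
  rw [Subgroup.card_map_of_injective M.inj, card_Asub]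

theorem AF_le : Asub.map F ≤ (P : Subgroup G) := by
  rintro _ ⟨x, -, rfl⟩
  exact mem M x

theorem AF_sq : ∀ x ∈ Asub.map F, x * x = 1 := by
  have := M
  rintro _ ⟨x, hx, rfl⟩
  rw [← map_mul, A_sq x hx, map_one]

/-- an elementary abelian subgroup of order 16 of `P` is `A` -/
theorem eq_AF (B : Subgroup G) (hB : ∀ x ∈ B, x * x = 1) (hc : Nat.card B = 16) (hBS : B ≤ (P : Subgroup G)) :
    B = Asub.map F := by
  have h1 : (B.comap F).map F = B := by
    rw [Subgroup.map_comap_eq, M.range, inf_eq_right.2 hBS]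
  have h2 : B.comap F = Asub := by
    apply eq_A
    · intro x hx
      apply M.inj
      rw [map_mul, map_one]
      exact hB _ hx
    · have h3 : Nat.card ((B.comap F).map F) = Nat.card (B.comap F) := Subgroup.card_map_of_injective M.inj
      rw [← hc, ← h3, h1]
  rw [← h1, h2]

/-- if `n A n⁻¹ ≤ P` then `n` normalises `A` -/
theorem norm_of_le {n : G} (hn : ∀ a, InA a → n * F a * n⁻¹ ∈ (P : Subgroup G)) :
    ∀ a, InA a → ∃ a', InA a' ∧ n * F a * n⁻¹ = F a' := by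
  have key : (Asub.map F).map (MulAut.conj n).toMonoidHom = Asub.map F := by
    apply eq_AF M
    · rintro _ ⟨a, ha, rfl⟩
      show n * a * n⁻¹ * (n * a * n⁻¹) = 1
      have := AF_sq M a ha
      calc n * a * n⁻¹ * (n * a * n⁻¹) = n * (a * a) * n⁻¹ := by group
        _ = 1 := by rw [this]; group
    · rw [Subgroup.card_map_of_injective (MulAut.conj n).injective]
      exact card_AF M
    · rintro _ ⟨_, ⟨a, ha, rfl⟩, rfl⟩
      exact hn a ha
  intro a ha
  have h1 : n * F a * n⁻¹ ∈ Asub.map F := by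
    rw [← key]
    exact ⟨F a, ⟨a, ha, rfl⟩, rfl⟩
  obtain ⟨a', ha', h2⟩ := h1
  exact ⟨a', ha', h2.symm⟩

end

/-- the normaliser of `A`, elementwise -/
def NA {G : Type*} [Group G] (F : M64 →* G) (n : G) : Prop := ∀ a, InA a → ∃ a', InA a' ∧ n * F a * n⁻¹ = F a'

section

variable {G : Type*} [Group G] [Finite G]

/-- two 2-subgroups of `D` can be conjugated in `D` into a common Sylow 2-subgroup of `G` -/
theorem exists_common (S : Sylow 2 G) (D A0 A1 : Subgroup G) (h0 : A0 ≤ D) (h1 : A1 ≤ D) (p0 : IsPGroup 2 A0)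
    (p1 : IsPGroup 2 A1) : ∃ d ∈ D, ∃ h : G, (∀ a ∈ A0, h⁻¹ * a * h ∈ S) ∧
      ∀ a ∈ A1, h⁻¹ * (d * a * d⁻¹) * h ∈ S := by
  obtain ⟨T0, hT0⟩ := (p0.comap_subtype (K := D)).exists_le_sylow
  obtain ⟨T1, hT1⟩ := (p1.comap_subtype (K := D)).exists_le_sylow
  obtain ⟨d, hd⟩ := MulAction.exists_smul_eq D T1 T0
  have hT : IsPGroup 2 ((T0 : Subgroup D).map D.subtype) := T0.isPGroup'.map _
  obtain ⟨S', hS'⟩ := hT.exists_le_sylow
  obtain ⟨h, hh⟩ := MulAction.exists_smul_eq G S S'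
  have hmem : ∀ x, x ∈ S' → h⁻¹ * x * h ∈ S := by
    intro x hx
    rw [← hh] at hx
    rw [← SetLike.mem_coe, Sylow.coe_smul] at hx
    obtain ⟨y, hy, hyx⟩ := hx
    have e : h * y * h⁻¹ = x := hyx
    have e2 : h⁻¹ * x * h = y := by rw [← e]; group
    rw [e2]; exact hy
  refine ⟨d, d.2, h, ?_, ?_⟩
  · intro a ha
    apply hmem
    apply hS'
    exact ⟨⟨a, h0 ha⟩, hT0 ha, rfl⟩
  · intro a ha
    apply hmem
    apply hS'
    refine ⟨d * ⟨a, h1 ha⟩ * d⁻¹, ?_, rfl⟩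
    have h3 : d * (⟨a, h1 ha⟩ : D) * d⁻¹ ∈ (d • T1 : Sylow 2 D) := by
      rw [← SetLike.mem_coe, Sylow.coe_smul]
      exact Set.mem_smul_set.mpr ⟨⟨a, h1 ha⟩, hT1 ha, rfl⟩
    rw [hd] at h3
    exact h3

variable {P : Sylow 2 G} {F : M64 →* G} (M : Mod (P : Subgroup G) F)

include M

theorem isPGroup_AF : IsPGroup 2 (Asub.map F) :=
  IsPGroup.of_card (n := 4) (by rw [card_AF M]; norm_num)

/-- `N_D(A)` controls the `D`-fusion in `A` for every subgroup `D` containing `A` -/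
theorem exists_NA (D : Subgroup G) (hD : ∀ a, InA a → F a ∈ D) {x y : M64} (hx : InA x) (hy : InA y) {d : G}
    (hd : d ∈ D) (h : d * F x * d⁻¹ = F y) :
    ∃ n ∈ D, NA F n ∧ n * F x * n⁻¹ = F y := by
  set A0 := Asub.map F with hA0
  set A1 := A0.map (MulAut.conj d).toMonoidHom with hA1
  set E := D ⊓ centralizer ({F y} : Set G) with hE
  have h0 : A0 ≤ E := by
    rintro _ ⟨a, ha, rfl⟩
    rw [hE, mem_inf, mem_centralizer_singleton_iff, ← map_mul, ← map_mul, A_comm a y ha hy]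
    exact ⟨hD a ha, rfl⟩
  have h1 : A1 ≤ E := by
    rintro _ ⟨_, ⟨a, ha, rfl⟩, rfl⟩
    show d * F a * d⁻¹ ∈ E
    rw [hE, mem_inf, mem_centralizer_singleton_iff, ← h]
    have e : F a * F x = F x * F a := by rw [← map_mul, ← map_mul, A_comm a x ha hx]
    refine ⟨D.mul_mem (D.mul_mem hd (hD a ha)) (D.inv_mem hd), ?_⟩
    calc d * F a * d⁻¹ * (d * F x * d⁻¹) = d * (F a * F x) * d⁻¹ := by group
      _ = d * (F x * F a) * d⁻¹ := by rw [e]
      _ = _ := by group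
  obtain ⟨c, hc, k, hk0, hk1⟩ := exists_common P E A0 A1 h0 h1 (isPGroup_AF M) ((isPGroup_AF M).map _)
  -- both conjugates are `A`
  have key : ∀ n : G, (∀ a ∈ A0, n * a * n⁻¹ ∈ P) → A0.map (MulAut.conj n).toMonoidHom = A0 := by
    intro n hn
    apply eq_AF M
    · rintro _ ⟨a, ha, rfl⟩
      show n * a * n⁻¹ * (n * a * n⁻¹) = 1
      have := AF_sq M a ha
      calc n * a * n⁻¹ * (n * a * n⁻¹) = n * (a * a) * n⁻¹ := by group
        _ = 1 := by rw [this]; group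
    · rw [Subgroup.card_map_of_injective (MulAut.conj n).injective]
      exact card_AF M
    · rintro _ ⟨a, ha, rfl⟩
      exact hn a ha
  have hK0 := key k⁻¹ (fun a ha => by rw [inv_inv]; exact hk0 a ha)
  have hK1 := key (k⁻¹ * (c * d)) (fun a ha => by
    have := hk1 (d * a * d⁻¹) ⟨a, ha, rfl⟩
    have e : k⁻¹ * (c * d) * a * (k⁻¹ * (c * d))⁻¹ = k⁻¹ * (c * (d * a * d⁻¹) * c⁻¹) * k := by group
    rw [e]; exact this)
  rw [hE, mem_inf, mem_centralizer_singleton_iff] at hc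
  refine ⟨c * d, D.mul_mem hc.1 hd, ?_, ?_⟩
  · intro a ha
    have h2 : k⁻¹ * (c * d) * F a * (k⁻¹ * (c * d))⁻¹ ∈ A0 := by
      rw [← hK1]; exact ⟨F a, ⟨a, ha, rfl⟩, rfl⟩
    have h3 : k⁻¹ * (c * d) * F a * (k⁻¹ * (c * d))⁻¹ ∈ A0.map (MulAut.conj k⁻¹).toMonoidHom := by
      rw [hK0]; exact h2
    obtain ⟨_, ⟨a', ha', rfl⟩, h4⟩ := h3
    have h5 : k⁻¹ * F a' * k⁻¹⁻¹ = k⁻¹ * (c * d) * F a * (k⁻¹ * (c * d))⁻¹ := h4
    refine ⟨a', ha', ?_⟩
    calc c * d * F a * (c * d)⁻¹ = k * (k⁻¹ * (c * d) * F a * (k⁻¹ * (c * d))⁻¹) * k⁻¹ := by group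
      _ = k * (k⁻¹ * F a' * k⁻¹⁻¹) * k⁻¹ := by rw [h5]
      _ = F a' := by group
  · calc c * d * F x * (c * d)⁻¹ = c * (d * F x * d⁻¹) * c⁻¹ := by group
      _ = c * F y * c⁻¹ := by rw [h]
      _ = F y := by rw [hc.2]; group

end

end Cfsg.Agent.SylowSp4.TwoBase
end

-- part: SylowSp4/TwoCtx
section
/-!
# Fusion for the type `PSp₄(3)` (order 64): the centralizer of `t` in the language of the model

`Ctx P F K`: `F` is an isomorphism of the model onto the Sylow 2-subgroup `P` and `K` is the subgroup of index two of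
`C(t)` with Sylow 2-subgroup `R` (from `CentG.CentData`).
-/

set_option autoImplicit false

namespace Cfsg.Agent.SylowSp4.TwoCtx

open Subgroup Cfsg.Agent.SylowSp4.AltModel Cfsg.Agent.SylowSp4.TwoBase

/-- the first factor -/
def InQ1 (x : M64) : Prop := x.c = 0 ∧ x.d = 0 ∧ x.m = false
/-- the second factor -/
def InQ2 (x : M64) : Prop := x.a = 0 ∧ x.b = 0 ∧ x.m = false

instance : DecidablePred InQ1 := fun x => by unfold InQ1; infer_instance
instance : DecidablePred InQ2 := fun x => by unfold InQ2; infer_instance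

/-- `F` is an isomorphism of the model onto `P` and `K` is the subgroup of index two of `C(t)`. -/
structure Ctx {G : Type*} [Group G] (P : Sylow 2 G) (F : M64 →* G) (K : Subgroup G) : Prop where
  mod : _root_.Cfsg.Agent.SylowSp4.TwoBase.Mod (P : Subgroup G) F
  /-- `K ≤ C(t)` -/
  comm : ∀ g ∈ K, g * F t = F t * g
  normal : ∀ c : G, c * F t = F t * c → ∀ g ∈ K, c * g * c⁻¹ ∈ K
  mem_or : ∀ c : G, c * F t = F t * c → c ∈ K ∨ c * F s ∈ K
  mem_iff : ∀ x, F x ∈ K ↔ InR x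
  no_fusion : ∀ x, x * x = 1 → ¬ InR x → ∀ c : G, c * F t = F t * c → ∀ y, InR y → c * F x * c⁻¹ ≠ F y
  closed₁ : ∀ g ∈ K, ∀ x y, InQ1 x → g * F x * g⁻¹ = F y → InQ1 y
  closed₂ : ∀ g ∈ K, ∀ x y, InQ2 x → g * F x * g⁻¹ = F y → InQ2 y

section Coord

open Cfsg.Agent.SylowSp4.Coord

variable {G : Type*} [Group G] {S : Subgroup G} {f : Q 1 → Q 1 → G} {s' : G}

theorem hom_f (h : TSp S 1 f s') (a b c d e e' : ZMod 2) :
    hom h ⟨a, b, c, d, e + e', false⟩ = f (qel a b e) (qel c d e') := by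
  rw [hom_apply, toG]
  simp only [spow, Bool.false_eq_true, if_false, mul_one]
  exact f_shift h a b e c d e'

theorem hom_surj (h : TSp S 1 f s') (α β : Q 1) : ∃ x, InR x ∧ hom h x = f α β := by
  obtain ⟨a, b, e, rfl⟩ := exists_qel α
  obtain ⟨c, d, e', rfl⟩ := exists_qel β
  exact ⟨⟨a, b, c, d, e + e', false⟩, rfl, hom_f h a b c d e e'⟩

theorem hom_Q1 (h : TSp S 1 f s') (x : M64) : InQ1 x ↔ ∃ α, hom h x = f α 1 := by
  constructor
  · obtain ⟨a, b, c, d, e, m⟩ := x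
    rintro ⟨h1, h2, h3⟩
    simp only at h1 h2 h3
    subst h1 h2 h3
    refine ⟨qel a b e, ?_⟩
    have := hom_f h a b 0 0 e 0
    rwa [add_zero, qel_zero] at this
  · rintro ⟨α, hα⟩
    obtain ⟨a, b, e, rfl⟩ := exists_qel α
    have h1 := hom_f h a b 0 0 e 0
    rw [qel_zero] at h1
    rw [← h1] at hα
    have h2 := hom_injective h hα
    rw [h2]
    exact ⟨rfl, rfl, rfl⟩

theorem hom_Q2 (h : TSp S 1 f s') (x : M64) : InQ2 x ↔ ∃ α, hom h x = f 1 α := by
  constructor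
  · obtain ⟨a, b, c, d, e, m⟩ := x
    rintro ⟨h1, h2, h3⟩
    simp only at h1 h2 h3
    subst h1 h2 h3
    refine ⟨qel c d e, ?_⟩
    have := hom_f h 0 0 c d 0 e
    rwa [zero_add, qel_zero] at this
  · rintro ⟨α, hα⟩
    obtain ⟨a, b, e, rfl⟩ := exists_qel α
    have h1 := hom_f h 0 0 a b 0 e
    rw [qel_zero] at h1
    rw [← h1] at hα
    have h2 := hom_injective h hα
    rw [h2]
    exact ⟨rfl, rfl, rfl⟩

theorem hom_R (h : TSp S 1 f s') (x : M64) : InR x ↔ ∃ α β, hom h x = f α β := by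
  constructor
  · exact fun hx => hom_InR h hx
  · rintro ⟨α, β, hαβ⟩
    obtain ⟨y, hy, hy2⟩ := hom_surj h α β
    rw [← hy2] at hαβ
    rw [hom_injective h hαβ]
    exact hy

theorem hom_mem {P : Sylow 2 G} (h : TSp (P : Subgroup G) 1 f s') (x : M64) : hom h x ∈ (P : Subgroup G) :=
  (hom_range h).le ⟨x, rfl⟩

theorem ofCentData {P : Sylow 2 G} (h : TSp (P : Subgroup G) 1 f s') {K : Subgroup G} (hK : CentG.CentData h K) :
    Ctx P (hom h) K where
  mod := ofTSp h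
  comm := by rw [hom_t h]; exact hK.comm
  normal := by rw [hom_t h]; exact hK.conj_mem
  mem_or := by rw [hom_t h, hom_s h]; exact hK.mem_or
  mem_iff := by
    intro x
    rw [hom_R h]
    have hxP := hom_mem h x
    have h1 : hom h x ∈ K ↔ hom h x ∈ Base.base h := by
      rw [← hK.inf_eq, Subgroup.mem_inf]
      exact ⟨fun h2 => ⟨h2, hxP⟩, fun h2 => h2.1⟩
    rw [h1, Base.mem_base]
  no_fusion := by
    intro x hx hxR c hc y hy hcy
    rw [hom_t h] at hc
    refine hK.no_fusion (hom h x) (hom_mem h x) (by rw [← map_mul, hx, map_one]) ?_ c hc ?_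
    · rw [← hom_R h]; exact hxR
    · rw [hcy, ← hom_R h]; exact hy
  closed₁ := by
    intro g hg x y hx hxy
    obtain ⟨α, hα⟩ := (hom_Q1 h x).1 hx
    rw [hom_Q1 h, ← hxy, hα]
    apply hK.closed₁ g hg α
    rw [← hα, hxy]
    exact hom_mem h y
  closed₂ := by
    intro g hg x y hx hxy
    obtain ⟨α, hα⟩ := (hom_Q2 h x).1 hx
    rw [hom_Q2 h, ← hxy, hα]
    apply hK.closed₂ g hg α
    rw [← hα, hxy]
    exact hom_mem h y

end Coord

end Cfsg.Agent.SylowSp4.TwoCtx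
end

-- part: SylowSp4/TwoAut
section
/-!
# Automorphisms of the model `M64`

`sw : s → t s`, `cyc : i → j → ij → i` and `tr : j → ij → -j` (on both factors) preserve `Ctx`.
-/

set_option autoImplicit false

namespace Cfsg.Agent.SylowSp4.TwoAut

open Subgroup Cfsg.Agent.SylowSp4.AltModel Cfsg.Agent.SylowSp4.TwoBase Cfsg.Agent.SylowSp4.TwoCtx

theorem q_cyc : ∀ a b a' b' : ZMod 2, b * b' + (a + b) * (a' + b') + (a + b) * b' = a * a' + b * b' + b * a' := by
  decide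

theorem q_tr : ∀ a b a' b' : ZMod 2, (a + b) * (a' + b') + b * b' + b * (a' + b') + (a * b + a' * b') =
    (a * a' + b * b' + b * a') + (a + a') * (b + b') := by decide

/-- `s → t s` -/
def sw : M64 →* M64 where
  toFun x := ⟨x.a, x.b, x.c, x.d, if x.m then x.e + 1 else x.e, x.m⟩
  map_one' := rfl
  map_mul' := by
    have h2 : (1 + 1 : ZMod 2) = 0 := by decide
    rintro ⟨a, b, c, d, e, m⟩ ⟨a', b', c', d', e', m'⟩
    cases m <;> cases m' <;> simp only [M64.mul_false, M64.mul_true, M64.mk.injEq, Bool.not_true, Bool.not_false,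
      if_true, if_false, and_true, true_and, Bool.false_eq_true] <;>
      first | ring1 | linear_combination h2 | linear_combination -h2

/-- `i → j → ij → i` on both factors -/
def cyc : M64 →* M64 where
  toFun x := ⟨x.b, x.a + x.b, x.d, x.c + x.d, x.e, x.m⟩
  map_one' := rfl
  map_mul' := by
    rintro ⟨a, b, c, d, e, m⟩ ⟨a', b', c', d', e', m'⟩
    have h1 := q_cyc a b a' b'
    have h2 := q_cyc c d c' d'
    have h3 := q_cyc a b c' d'
    have h4 := q_cyc c d a' b'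
    cases m <;> simp only [M64.mul_false, M64.mul_true, M64.mk.injEq, and_true, true_and]
    · refine ⟨by ring, by ring, by linear_combination -h1 - h2⟩
    · refine ⟨by ring, by ring, by linear_combination -h3 - h4⟩

/-- `j → ij → -j` on both factors -/
def tr : M64 →* M64 where
  toFun x := ⟨x.a + x.b, x.b, x.c + x.d, x.d, x.e + x.a * x.b + x.c * x.d, x.m⟩
  map_one' := rfl
  map_mul' := by
    rintro ⟨a, b, c, d, e, m⟩ ⟨a', b', c', d', e', m'⟩
    have h1 := q_tr a b a' b'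
    have h2 := q_tr c d c' d'
    have h3 := q_tr a b c' d'
    have h4 := q_tr c d a' b'
    cases m <;> simp only [M64.mul_false, M64.mul_true, M64.mk.injEq, and_true, true_and]
    · refine ⟨by ring, by ring, by linear_combination -h1 - h2⟩
    · refine ⟨by ring, by ring, by linear_combination -h3 - h4⟩

/-- the admissible automorphisms -/
structure Adm (φ : M64 →* M64) : Prop where
  inj : Function.Injective φ
  t : φ t = t
  s : φ s = s ∨ φ s = AltModel.t * AltModel.s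
  R : ∀ x, InR (φ x) ↔ InR x
  Q1 : ∀ x, InQ1 (φ x) ↔ InQ1 x
  Q2 : ∀ x, InQ2 (φ x) ↔ InQ2 x

theorem adm_sw : Adm sw where
  inj := by
    rw [injective_iff_map_eq_one]
    decide +kernel
  t := by decide +kernel
  s := by decide +kernel
  R := by decide +kernel
  Q1 := by decide +kernel
  Q2 := by decide +kernel

theorem adm_cyc : Adm cyc where
  inj := by
    rw [injective_iff_map_eq_one]
    decide +kernel
  t := by decide +kernel
  s := by decide +kernel
  R := by decide +kernel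
  Q1 := by decide +kernel
  Q2 := by decide +kernel

theorem adm_tr : Adm tr where
  inj := by
    rw [injective_iff_map_eq_one]
    decide +kernel
  t := by decide +kernel
  s := by decide +kernel
  R := by decide +kernel
  Q1 := by decide +kernel
  Q2 := by decide +kernel

theorem Adm.surj {φ : M64 →* M64} (h : Adm φ) : Function.Surjective φ :=
  Finite.surjective_of_injective h.inj

/-- admissible automorphisms preserve `Ctx` -/
theorem Adm.ctx {φ : M64 →* M64} (h : Adm φ) {G : Type*} [Group G] {P : Sylow 2 G} {F : M64 →* G} {K : Subgroup G}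
    (C : Ctx P F K) : Ctx P (F.comp φ) K where
  mod := by
    refine ⟨C.mod.inj.comp h.inj, ?_⟩
    rw [MonoidHom.range_comp, MonoidHom.range_eq_top.2 h.surj, ← MonoidHom.range_eq_map]
    exact C.mod.range
  comm := by
    rw [MonoidHom.comp_apply, h.t]
    exact C.comm
  normal := by
    rw [MonoidHom.comp_apply, h.t]
    exact C.normal
  mem_or := by
    intro c hc
    rw [MonoidHom.comp_apply, h.t] at hc
    rw [MonoidHom.comp_apply]
    rcases C.mem_or c hc with h1 | h1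
    · exact Or.inl h1
    · rcases h.s with h2 | h2
      · rw [h2]; exact Or.inr h1
      · right
        rw [h2, map_mul, ← mul_assoc, hc, mul_assoc]
        exact K.mul_mem ((C.mem_iff _).2 (by decide +kernel)) h1
  mem_iff := by
    intro x
    rw [MonoidHom.comp_apply, C.mem_iff, h.R]
  no_fusion := by
    intro x hx hxR c hc y hy
    rw [MonoidHom.comp_apply, h.t] at hc
    exact C.no_fusion (φ x) (by rw [← map_mul, hx, map_one]) (by rw [h.R]; exact hxR) c hc (φ y) ((h.R y).2 hy)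
  closed₁ := by
    intro g hg x y hx hxy
    exact (h.Q1 y).1 (C.closed₁ g hg _ _ ((h.Q1 x).2 hx) hxy)
  closed₂ := by
    intro g hg x y hx hxy
    exact (h.Q2 y).1 (C.closed₂ g hg _ _ ((h.Q2 x).2 hx) hxy)

end Cfsg.Agent.SylowSp4.TwoAut
end

-- part: SylowSp4/TwoY
section
/-!
# Type `PSp₄(3)`: the action of `N_K(R)` on `R`

`RF` is a Sylow 2-subgroup of `K`, `R/⟨t⟩` is abelian and `x ~ t x` in `R`, so `N_K(R)` controls the `K`-fusion in `R`
(`exists_NR`).  The elements of `N_K(R)` rotate the three subgroups of order 4 of each factor (`exists_act`):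
`Act F n m₁ m₂`.  `Y F K m₁ m₂` : some element of `N_K(R)` acts as `(m₁, m₂)`.  `Y` is trivial, diagonal, antidiagonal or
everything (`Y_cases`).
-/

set_option autoImplicit false

namespace Cfsg.Agent.SylowSp4.TwoY

open Subgroup Cfsg.Agent.SylowSp4.AltModel Cfsg.Agent.SylowSp4.TwoBase Cfsg.Agent.SylowSp4.TwoCtx
open Cfsg.Agent.Lib.GoldschmidtFusion

set_option linter.unusedSectionVars false

/-! ### facts on the model -/

theorem R_mul : ∀ x y : M64, InR x → InR y → InR (x * y) := by (open scoped Cfsg.Agent.SylowSp4.Fast64 in decide +kernel)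
theorem R_one : InR 1 := by decide +kernel
theorem R_t : InR t := by decide +kernel
theorem R_inv : ∀ x : M64, InR x → InR x⁻¹ := by decide +kernel
theorem R_q1 : ∀ l, InR (q1 l) := by decide +kernel
theorem R_q2 : ∀ l, InR (q2 l) := by decide +kernel
theorem Q1_q1 : ∀ l, InQ1 (q1 l) := by decide +kernel
theorem Q2_q2 : ∀ l, InQ2 (q2 l) := by decide +kernel
theorem q1_sq : ∀ l, q1 l * q1 l = t := by decide +kernel
theorem q2_sq : ∀ l, q2 l * q2 l = t := by decide +kernel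
theorem Q1_cases : ∀ x, InQ1 x → x * x = t → ∃ l, x = q1 l ∨ x = t * q1 l := by decide +kernel
theorem Q2_cases : ∀ x, InQ2 x → x * x = t → ∃ l, x = q2 l ∨ x = t * q2 l := by decide +kernel
theorem R_comm_mod : ∀ x y : M64, InR x → InR y → x * y * x⁻¹ = y ∨ x * y * x⁻¹ = t * y := by (open scoped Cfsg.Agent.SylowSp4.Fast64 in decide +kernel)
theorem R_twist : ∀ y : M64, InR y → y = 1 ∨ y = t ∨ ∃ x, InR x ∧ x * (t * y) * x⁻¹ = y := by (open scoped Cfsg.Agent.SylowSp4.Fast64 in decide +kernel)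
theorem tt_mul : ∀ x : M64, t * (t * x) = x := by decide +kernel
theorem q1_inj : ∀ l l', q1 l = q1 l' ∨ q1 l = t * q1 l' → l = l' := by decide +kernel
theorem q2_inj : ∀ l l', q2 l = q2 l' ∨ q2 l = t * q2 l' → l = l' := by decide +kernel
theorem s_conj_q1 : ∀ l, s * q1 l * s⁻¹ = q2 l := by decide +kernel
theorem s_conj_q2 : ∀ l, s * q2 l * s⁻¹ = q1 l := by decide +kernel
theorem R_conj_q1 : ∀ x, InR x → ∀ l, x * q1 l * x⁻¹ = q1 l ∨ x * q1 l * x⁻¹ = t * q1 l := by (open scoped Cfsg.Agent.SylowSp4.Fast64 in decide +kernel)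
theorem R_conj_q2 : ∀ x, InR x → ∀ l, x * q2 l * x⁻¹ = q2 l ∨ x * q2 l * x⁻¹ = t * q2 l := by (open scoped Cfsg.Agent.SylowSp4.Fast64 in decide +kernel)
theorem card_R : Fintype.card {x : M64 // InR x} = 32 := by decide +kernel
theorem s_R : ¬ InR s := by decide +kernel
/-- the subgroup `R` of the model -/
def Rsub : Subgroup M64 where
  carrier := {x | InR x}
  mul_mem' {x y} hx hy := R_mul x y hx hy
  one_mem' := R_one
  inv_mem' {x} hx := R_inv x hx

theorem card_Rsub : Nat.card Rsub = 32 := by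
  rw [← card_R, ← Nat.card_eq_fintype_card]
  rfl

/-- a map of `Fin 3` with an odd power equal to the identity is a rotation -/
theorem rot (π : Fin 3 → Fin 3) {m : ℕ} (hm : Odd m) (h : ∀ l, π^[m] l = l) : ∃ k, ∀ l, π l = l + k := by
  have hinj : Function.Injective π := by
    obtain ⟨n, rfl⟩ := hm
    intro a b hab
    have e : ∀ x, π^[2 * n + 1] x = π^[2 * n] (π x) := fun x => Function.iterate_succ_apply π (2 * n) x
    rw [← h a, ← h b, e, e, hab]
  have h1 : ∀ π : Fin 3 → Fin 3, (∀ a b, π a = π b → a = b) →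
      (∃ k, ∀ l, π l = l + k) ∨ ∀ l, π (π l) = l := by decide +kernel
  rcases h1 π (fun a b hab => hinj hab) with h2 | h2
  · exact h2
  · obtain ⟨n, rfl⟩ := hm
    refine ⟨0, fun l => ?_⟩
    have h3 := h l
    have e : ∀ x, π^[2 * n + 1] x = π^[2 * n] (π x) := fun x => Function.iterate_succ_apply π (2 * n) x
    rw [e, Function.iterate_mul] at h3
    have h4 : π^[2] = id := by
      funext x
      exact h2 x
    rw [h4, Function.iterate_id, id] at h3
    rw [h3, add_zero]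

section

variable {G : Type*} [Group G] {P : Sylow 2 G} {F : M64 →* G} {K : Subgroup G} (C : Ctx P F K)

include C

theorem RF_le : Rsub.map F ≤ K := by
  rintro _ ⟨x, hx, rfl⟩
  exact (C.mem_iff x).2 hx

theorem RF_le_P : Rsub.map F ≤ (P : Subgroup G) := by
  rintro _ ⟨x, hx, rfl⟩
  exact TwoBase.mem C.mod x

theorem card_RF : Nat.card (Rsub.map F) = 32 := by
  rw [Subgroup.card_map_of_injective C.mod.inj, card_Rsub]

theorem card_P : Nat.card (P : Subgroup G) = 64 := by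
  rw [← C.mod.range, ← card_M64]
  have h1 : Nat.card F.range = Nat.card M64 :=
    Nat.card_congr (MonoidHom.ofInjective C.mod.inj).symm.toEquiv
  rw [h1, Nat.card_eq_fintype_card]

theorem isPGroup_RF : IsPGroup 2 (Rsub.map F) :=
  IsPGroup.of_card (n := 5) (by rw [card_RF C]; norm_num)

theorem conj_t {g : G} (hg : g ∈ K) : g * F t * g⁻¹ = F t := by rw [C.comm g hg, mul_inv_cancel_right]

theorem conj_eq {g : G} {x y : M64} (h : g * F x * g⁻¹ = F y) (h' : g * F t = F t * g) (b : Bool) :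
    g * F ((if b then t else 1) * x) * g⁻¹ = F ((if b then t else 1) * y) := by
  cases b
  · simpa only [_root_.Bool.false_eq_true, ↓ _root_.reduceIte, _root_.one_mul] using h
  · simp only [if_true]
    rw [map_mul, map_mul, ← h, ← mul_assoc, h']
    group

end

section

variable {G : Type*} [Group G] [Finite G] {P : Sylow 2 G} {F : M64 →* G} {K : Subgroup G} (C : Ctx P F K)

include C

/-- `R` is a Sylow 2-subgroup of `K` -/
theorem not_dvd_RF : ¬ 2 ∣ (Rsub.map F).relIndex K := by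
  intro hd
  have hPC : (P : Subgroup G) ≤ centralizer ({F t} : Set G) := fun x hx =>
    mem_centralizer_singleton_iff.2 (TwoBase.t_comm C.mod hx)
  have hKC : K ≤ centralizer ({F t} : Set G) := fun x hx => mem_centralizer_singleton_iff.2 (C.comm x hx)
  have hsN : F s ∉ K := fun h => s_R ((C.mem_iff s).1 h)
  have hK2 : K.relIndex (centralizer ({F t} : Set G)) = 2 := by
    rw [relIndex, index_eq_two_iff]
    refine ⟨⟨F s, hPC (TwoBase.mem C.mod s)⟩, ?_⟩
    rintro ⟨c, hc⟩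
    rw [mem_subgroupOf, mem_subgroupOf]
    change Xor (c * F s ∈ K) (c ∈ K)
    rcases C.mem_or c (mem_centralizer_singleton_iff.1 hc) with h1 | h1
    · right
      refine ⟨h1, fun h2 => hsN ?_⟩
      have := K.mul_mem (K.inv_mem h1) h2
      rwa [inv_mul_cancel_left] at this
    · left
      refine ⟨h1, fun h2 => hsN ?_⟩
      have := K.mul_mem (K.inv_mem h2) h1
      rwa [inv_mul_cancel_left] at this
  have h1 := relIndex_mul_relIndex (Rsub.map F) K _ (RF_le C) hKC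
  have h2 := relIndex_mul_relIndex (Rsub.map F) (P : Subgroup G) _ (RF_le_P C) hPC
  have h4 : (Rsub.map F).relIndex (P : Subgroup G) = 2 := by
    have h5 := Cfsg.Agent.Lib.SylowNormalInf.card_mul_relIndex _ _ (RF_le_P C)
    rw [card_RF C, card_P C] at h5
    omega
  rw [hK2] at h1
  rw [h4, mul_comm] at h2
  have h3 : (Rsub.map F).relIndex K = (P : Subgroup G).relIndex (centralizer ({F t} : Set G)) := by
    apply Nat.eq_of_mul_eq_mul_right (show 0 < 2 by norm_num)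
    rw [h1, ← h2]
  apply P.not_dvd_index
  refine dvd_trans ?_ (relIndex_dvd_index_of_le hPC)
  rw [← h3]
  exact hd

omit [Finite G] in
theorem exists_of_RF {g : G} (hg : g ∈ Rsub.map F) : ∃ x, InR x ∧ F x = g := by
  obtain ⟨x, hx, rfl⟩ := hg
  exact ⟨x, hx, rfl⟩

end

/-- `n ∈ N_K(R)` -/
def NR {G : Type*} [Group G] (F : M64 →* G) (K : Subgroup G) (n : G) : Prop :=
  n ∈ K ∧ ∀ x, InR x → ∃ y, InR y ∧ n * F x * n⁻¹ = F y

/-- `n` acts on the sets of subgroups of order 4 of the two factors as rotations by `m₁`, `m₂` -/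
def Act {G : Type*} [Group G] (F : M64 →* G) (n : G) (m₁ m₂ : Fin 3) : Prop :=
  (∀ l, n * F (q1 l) * n⁻¹ = F (q1 (l + m₁)) ∨ n * F (q1 l) * n⁻¹ = F (t * q1 (l + m₁))) ∧
  ∀ l, n * F (q2 l) * n⁻¹ = F (q2 (l + m₂)) ∨ n * F (q2 l) * n⁻¹ = F (t * q2 (l + m₂))

/-- `(m₁, m₂)` is induced by `N_K(R)` -/
def Y {G : Type*} [Group G] (F : M64 →* G) (K : Subgroup G) (m₁ m₂ : Fin 3) : Prop :=
  ∃ n, NR F K n ∧ Act F n m₁ m₂

section

variable {G : Type*} [Group G] [Finite G] {P : Sylow 2 G} {F : M64 →* G} {K : Subgroup G} (C : Ctx P F K)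

include C

/-- the centralizer in `K` of `F y` modulo `t` -/
def Cmod (C : Ctx P F K) (y : M64) : Subgroup G where
  carrier := {g | g ∈ K ∧ (g * F y * g⁻¹ = F y ∨ g * F y * g⁻¹ = F (t * y))}
  one_mem' := ⟨K.one_mem, Or.inl (by simp)⟩
  mul_mem' := by
    rintro a b ⟨ha, ha'⟩ ⟨hb, hb'⟩
    refine ⟨K.mul_mem ha hb, ?_⟩
    have e : a * b * F y * (a * b)⁻¹ = a * (b * F y * b⁻¹) * a⁻¹ := by group
    rw [e]
    have e2 : a * F (t * y) * a⁻¹ = F t * (a * F y * a⁻¹) := by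
      rw [map_mul, ← mul_assoc, C.comm a ha]; group
    have e3 : F t * F (t * y) = F y := by rw [← map_mul, tt_mul]
    rcases hb' with h1 | h1 <;> rw [h1]
    · exact ha'
    · rw [e2]
      rcases ha' with h2 | h2 <;> rw [h2]
      · right; rw [map_mul]
      · left; exact e3
  inv_mem' := by
    rintro a ⟨ha, ha'⟩
    refine ⟨K.inv_mem ha, ?_⟩
    have e2 : a⁻¹ * F t * a = F t := by
      have := C.comm a ha
      calc a⁻¹ * F t * a = a⁻¹ * (F t * a) := by group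
        _ = a⁻¹ * (a * F t) := by rw [this]
        _ = F t := by group
    rcases ha' with h1 | h1
    · left
      have h2 : F y = a⁻¹ * (a * F y * a⁻¹) * a := by group
      rw [h1] at h2
      rw [inv_inv]
      exact h2.symm
    · right
      have h2 : F y = a⁻¹ * (a * F y * a⁻¹) * a := by group
      rw [h1, map_mul] at h2
      have h3 : a⁻¹ * (F t * F y) * a = (a⁻¹ * F t * a) * (a⁻¹ * F y * a) := by group
      rw [h3, e2] at h2
      rw [inv_inv, map_mul]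
      have h4 : F t * F t = 1 := by rw [← map_mul, show t * t = 1 by decide +kernel, map_one]
      calc a⁻¹ * F y * a = F t * F t * (a⁻¹ * F y * a) := by rw [h4, one_mul]
        _ = F t * (F t * (a⁻¹ * F y * a)) := by group
        _ = F t * F y := by rw [← h2]

/-- `N_K(R)` controls the `K`-fusion in `R` -/
theorem exists_NR {x y : M64} (hx : InR x) (hy : InR y) {g : G} (hg : g ∈ K) (h : g * F x * g⁻¹ = F y) :
    ∃ n, NR F K n ∧ n * F x * n⁻¹ = F y := by
  have hp := isPGroup_RF C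
  -- both `R` and `g R g⁻¹` lie in `Cmod y`
  have h0 : Rsub.map F ≤ Cmod C y := by
    rintro _ ⟨r, hr, rfl⟩
    refine ⟨(C.mem_iff r).2 hr, ?_⟩
    rw [← map_mul, ← map_inv, ← map_mul]
    rcases R_comm_mod r y hr hy with h1 | h1 <;> rw [h1]
    · exact Or.inl rfl
    · exact Or.inr rfl
  have h1 : (Rsub.map F).map (MulAut.conj g).toMonoidHom ≤ Cmod C y := by
    rintro _ ⟨_, ⟨r, hr, rfl⟩, rfl⟩
    change g * F r * g⁻¹ ∈ Cmod C y
    refine ⟨K.mul_mem (K.mul_mem hg ((C.mem_iff r).2 hr)) (K.inv_mem hg), ?_⟩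
    have e : g * F r * g⁻¹ * F y * (g * F r * g⁻¹)⁻¹ = g * (F r * F x * (F r)⁻¹) * g⁻¹ := by
      rw [← h]; group
    rw [e, ← map_mul, ← map_inv, ← map_mul]
    rcases R_comm_mod r x hr hx with h1 | h1 <;> rw [h1]
    · exact Or.inl h
    · right
      have := conj_eq C h (C.comm g hg) true
      simpa only [_root_.map_mul, ↓ _root_.reduceIte] using this
  have hCK : Cmod C y ≤ K := fun c hc => hc.1
  have hi : ¬ 2 ∣ (Rsub.map F).relIndex (Cmod C y) := by
    intro hd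
    apply not_dvd_RF C
    have := relIndex_mul_relIndex (Rsub.map F) (Cmod C y) K h0 hCK
    rw [← this]
    exact hd.mul_right _
  obtain ⟨c, hc, hcR⟩ := exists_conj_le_in hp hi h1 (hp.map _)
  have hcg : ∀ r, InR r → ∃ r', InR r' ∧ c * g * F r * (c * g)⁻¹ = F r' := by
    intro r hr
    have h2 : c * (g * F r * g⁻¹) * c⁻¹ ∈ Rsub.map F := hcR ⟨g * F r * g⁻¹, ⟨F r, ⟨r, hr, rfl⟩, rfl⟩, rfl⟩
    obtain ⟨r', hr', e⟩ := exists_of_RF C h2
    exact ⟨r', hr', by rw [e]; group⟩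
  have hcgK : c * g ∈ K := K.mul_mem hc.1 hg
  have e : c * g * F x * (c * g)⁻¹ = c * F y * c⁻¹ := by rw [← h]; group
  rcases hc.2 with h2 | h2
  · exact ⟨c * g, ⟨hcgK, hcg⟩, by rw [e, h2]⟩
  · rcases R_twist y hy with h3 | h3 | ⟨z, hz, h3⟩
    · exfalso
      rw [h3, map_one, mul_one, mul_inv_cancel, mul_one] at h2
      exact t_ne_one (C.mod.inj (by rw [← h2, map_one]))
    · exfalso
      rw [h3, C.comm c hc.1, mul_inv_cancel_right] at h2
      have := C.mod.inj h2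
      exact absurd this (by decide +kernel)
    · refine ⟨F z * (c * g), ⟨K.mul_mem ((C.mem_iff z).2 hz) hcgK, ?_⟩, ?_⟩
      · intro r hr
        obtain ⟨r', hr', e'⟩ := hcg r hr
        refine ⟨z * r' * z⁻¹, R_mul _ _ (R_mul _ _ hz hr') (R_inv _ hz), ?_⟩
        rw [map_mul, map_mul, map_inv, ← e']
        group
      · have e2 : F z * (c * g) * F x * (F z * (c * g))⁻¹ = F z * (c * g * F x * (c * g)⁻¹) * (F z)⁻¹ := by group
        rw [e2, e, h2, ← map_inv, ← map_mul, ← map_mul, h3]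

/-- an odd power of an element of `N_K(R)` lies in `R` -/
theorem exists_odd_pow {n : G} (hn : NR F K n) : ∃ m, Odd m ∧ ∃ r, InR r ∧ n ^ m = F r := by
  set RF := Rsub.map F with hRF
  have hnN : n ∈ normalizer (RF : Set G) := by
    rw [mem_normalizer_iff_map_conj]
    apply map_conj_le_of_le_normalizer
    rintro _ ⟨_, ⟨r, hr, rfl⟩, rfl⟩
    obtain ⟨y, hy, e⟩ := hn.2 r hr
    exact ⟨y, hy, e.symm⟩
  -- the index of `R` in `N_K(R)`
  set N := normalizer (RF : Set G) ⊓ K with hN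
  have hRN : RF ≤ N := le_inf le_normalizer (RF_le C)
  have hodd : ¬ 2 ∣ RF.relIndex N := by
    intro hd
    apply not_dvd_RF C
    have := relIndex_mul_relIndex RF N K hRN inf_le_right
    rw [← this]
    exact hd.mul_right _
  have hnorm : (RF.subgroupOf N).Normal := by
    refine ⟨?_⟩
    rintro ⟨r, hr⟩ hrR ⟨g, hg⟩
    rw [mem_subgroupOf] at hrR ⊢
    exact (mem_normalizer_iff.1 hg.1 r).1 hrR
  have h1 : (⟨n, hnN, hn.1⟩ : N) ^ (RF.subgroupOf N).index ∈ RF.subgroupOf N := Subgroup.pow_index_mem _ _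
  refine ⟨RF.relIndex N, ?_, ?_⟩
  · rw [← Nat.not_even_iff_odd, even_iff_two_dvd]; exact hodd
  · obtain ⟨r, hr, e⟩ := exists_of_RF C (mem_subgroupOf.1 h1)
    exact ⟨r, hr, by rw [e]; rfl⟩

omit [Finite G] in
theorem sq_conj {n : G} {x y : M64} (hn : n * F t = F t * n) (hx : x * x = t) (h : n * F x * n⁻¹ = F y) : y * y = t := by
  apply C.mod.inj
  rw [map_mul, ← h]
  calc n * F x * n⁻¹ * (n * F x * n⁻¹) = n * F (x * x) * n⁻¹ := by rw [map_mul]; group
    _ = F t := by rw [hx, hn, mul_inv_cancel_right]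

omit [Finite G] in
theorem conj_t_mul {n : G} {x y : M64} (hn : n * F t = F t * n) (h : n * F x * n⁻¹ = F y) :
    n * F (t * x) * n⁻¹ = F (t * y) := by
  rw [map_mul, map_mul, ← h, ← mul_assoc, hn]
  group

omit [Finite G] in
/-- from the action on representatives modulo `t` -/
theorem conj_mod {n : G} {x x' y : M64} (hn : n * F t = F t * n) (hx : x' = x ∨ x' = t * x)
    (h : n * F x * n⁻¹ = F y ∨ n * F x * n⁻¹ = F (t * y)) : n * F x' * n⁻¹ = F y ∨ n * F x' * n⁻¹ = F (t * y) := by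
  rcases hx with rfl | rfl
  · exact h
  · rcases h with h | h
    · exact Or.inr (conj_t_mul C hn h)
    · left
      have := conj_t_mul C hn h
      rwa [tt_mul] at this

/-- The elements of `N_K(R)` act as rotations. -/
theorem exists_act {n : G} (hn : NR F K n) : ∃ m₁ m₂, Act F n m₁ m₂ := by
  obtain ⟨m, hm, r, hr, hnm⟩ := exists_odd_pow C hn
  have hnt := C.comm n hn.1
  have h1 : ∀ l, ∃ l', n * F (q1 l) * n⁻¹ = F (q1 l') ∨ n * F (q1 l) * n⁻¹ = F (t * q1 l') := by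
    intro l
    obtain ⟨y, -, hy⟩ := hn.2 _ (R_q1 l)
    obtain ⟨l', hl'⟩ := Q1_cases y (C.closed₁ n hn.1 _ _ (Q1_q1 l) hy) (sq_conj C hnt (q1_sq l) hy)
    exact ⟨l', by rcases hl' with rfl | rfl; exacts [Or.inl hy, Or.inr hy]⟩
  have h2 : ∀ l, ∃ l', n * F (q2 l) * n⁻¹ = F (q2 l') ∨ n * F (q2 l) * n⁻¹ = F (t * q2 l') := by
    intro l
    obtain ⟨y, -, hy⟩ := hn.2 _ (R_q2 l)
    obtain ⟨l', hl'⟩ := Q2_cases y (C.closed₂ n hn.1 _ _ (Q2_q2 l) hy) (sq_conj C hnt (q2_sq l) hy)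
    exact ⟨l', by rcases hl' with rfl | rfl; exacts [Or.inl hy, Or.inr hy]⟩
  choose π hπ using h1
  choose ρ hρ using h2
  have hit : ∀ (k : ℕ) (l : Fin 3), n ^ k * F (q1 l) * (n ^ k)⁻¹ = F (q1 (π^[k] l)) ∨
      n ^ k * F (q1 l) * (n ^ k)⁻¹ = F (t * q1 (π^[k] l)) := by
    intro k
    induction k with
    | zero => intro l; left; simp
    | succ k ih =>
      intro l
      have e : n ^ (k + 1) * F (q1 l) * (n ^ (k + 1))⁻¹ = n * (n ^ k * F (q1 l) * (n ^ k)⁻¹) * n⁻¹ := by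
        rw [pow_succ']; group
      rw [e, Function.iterate_succ_apply' π k]
      rcases ih l with h3 | h3 <;> rw [h3]
      · exact hπ _
      · exact conj_mod C hnt (Or.inr rfl) (hπ _)
  have hit2 : ∀ (k : ℕ) (l : Fin 3), n ^ k * F (q2 l) * (n ^ k)⁻¹ = F (q2 (ρ^[k] l)) ∨
      n ^ k * F (q2 l) * (n ^ k)⁻¹ = F (t * q2 (ρ^[k] l)) := by
    intro k
    induction k with
    | zero => intro l; left; simp
    | succ k ih =>
      intro l
      have e : n ^ (k + 1) * F (q2 l) * (n ^ (k + 1))⁻¹ = n * (n ^ k * F (q2 l) * (n ^ k)⁻¹) * n⁻¹ := by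
        rw [pow_succ']; group
      rw [e, Function.iterate_succ_apply' ρ k]
      rcases ih l with h3 | h3 <;> rw [h3]
      · exact hρ _
      · exact conj_mod C hnt (Or.inr rfl) (hρ _)
  have hid : ∀ l, π^[m] l = l := by
    intro l
    have h3 := hit m l
    rw [hnm, ← map_inv, ← map_mul, ← map_mul] at h3
    apply q1_inj
    rcases h3 with h3 | h3 <;> have h4 := C.mod.inj h3 <;> rcases R_conj_q1 r hr l with h5 | h5 <;> rw [h5] at h4
    · exact Or.inl h4.symm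
    · exact Or.inr h4.symm
    · right; rw [h4, tt_mul]
    · left; exact (mul_left_cancel h4).symm
  have hid2 : ∀ l, ρ^[m] l = l := by
    intro l
    have h3 := hit2 m l
    rw [hnm, ← map_inv, ← map_mul, ← map_mul] at h3
    apply q2_inj
    rcases h3 with h3 | h3 <;> have h4 := C.mod.inj h3 <;> rcases R_conj_q2 r hr l with h5 | h5 <;> rw [h5] at h4
    · exact Or.inl h4.symm
    · exact Or.inr h4.symm
    · right; rw [h4, tt_mul]
    · left; exact (mul_left_cancel h4).symm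
  obtain ⟨m₁, hm₁⟩ := rot π hm hid
  obtain ⟨m₂, hm₂⟩ := rot ρ hm hid2
  refine ⟨m₁, m₂, fun l => ?_, fun l => ?_⟩
  · rw [← hm₁]; exact hπ l
  · rw [← hm₂]; exact hρ l

omit [Finite G] in
theorem NR_one : NR F K 1 := ⟨K.one_mem, fun x hx => ⟨x, hx, by simp⟩⟩

omit [Finite G] in
theorem NR_mul {n n' : G} (hn : NR F K n) (hn' : NR F K n') : NR F K (n * n') := by
  refine ⟨K.mul_mem hn.1 hn'.1, fun x hx => ?_⟩
  obtain ⟨y, hy, e⟩ := hn'.2 x hx
  obtain ⟨w, hw, e'⟩ := hn.2 y hy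
  exact ⟨w, hw, by rw [← e', ← e]; group⟩

omit [Finite G] in
theorem NR_swap {n : G} (hn : NR F K n) : NR F K (F s * n * (F s)⁻¹) := by
  have hst : F s * F t = F t * F s := by rw [← map_mul, ← map_mul, t_central]
  refine ⟨C.normal _ hst _ hn.1, fun x hx => ?_⟩
  have h1 : ∀ x, InR x → InR (s⁻¹ * x * s) := by decide +kernel
  have h2 : ∀ x, InR x → InR (s * x * s⁻¹) := by decide +kernel
  obtain ⟨y, hy, e⟩ := hn.2 _ (h1 x hx)
  refine ⟨_, h2 y hy, ?_⟩
  rw [map_mul, map_mul, map_inv, ← e, map_mul, map_mul, map_inv]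
  group

omit [Finite G] in
theorem Act_mul {n n' : G} {m₁ m₂ k₁ k₂ : Fin 3} (hnt : n * F t = F t * n) (hn : Act F n m₁ m₂) (hn' : Act F n' k₁ k₂) :
    Act F (n * n') (k₁ + m₁) (k₂ + m₂) := by
  refine ⟨fun l => ?_, fun l => ?_⟩
  · have e : n * n' * F (q1 l) * (n * n')⁻¹ = n * (n' * F (q1 l) * n'⁻¹) * n⁻¹ := by group
    rw [e, ← add_assoc]
    rcases hn'.1 l with h1 | h1 <;> rw [h1]
    · exact hn.1 _
    · exact conj_mod C hnt (Or.inr rfl) (hn.1 _)
  · have e : n * n' * F (q2 l) * (n * n')⁻¹ = n * (n' * F (q2 l) * n'⁻¹) * n⁻¹ := by group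
    rw [e, ← add_assoc]
    rcases hn'.2 l with h1 | h1 <;> rw [h1]
    · exact hn.2 _
    · exact conj_mod C hnt (Or.inr rfl) (hn.2 _)

omit [Finite G] in
theorem Act_swap {n : G} {m₁ m₂ : Fin 3} (hn : Act F n m₁ m₂) : Act F (F s * n * (F s)⁻¹) m₂ m₁ := by
  have hst : F s * F t = F t * F s := by rw [← map_mul, ← map_mul, t_central]
  have key : ∀ x y : M64, F s * F x * (F s)⁻¹ = F (s * x * s⁻¹) := fun x y => by rw [map_mul, map_mul, map_inv]
  refine ⟨fun l => ?_, fun l => ?_⟩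
  · have e : F s * n * (F s)⁻¹ * F (q1 l) * (F s * n * (F s)⁻¹)⁻¹ = F s * (n * F (q2 l) * n⁻¹) * (F s)⁻¹ := by
      have h1 : F (q2 l) = (F s)⁻¹ * F (q1 l) * F s := by
        rw [← map_inv, ← map_mul, ← map_mul]
        congr 1
        revert l; decide +kernel
      rw [h1]; group
    rw [e]
    rcases hn.2 l with h1 | h1 <;> rw [h1]
    · left; rw [key _ 1, s_conj_q2]
    · right
      rw [map_mul F t, ← mul_assoc, hst]
      have := key (q2 (l + m₂)) 1
      rw [s_conj_q2] at this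
      rw [map_mul, ← this]; group
  · have e : F s * n * (F s)⁻¹ * F (q2 l) * (F s * n * (F s)⁻¹)⁻¹ = F s * (n * F (q1 l) * n⁻¹) * (F s)⁻¹ := by
      have h1 : F (q1 l) = (F s)⁻¹ * F (q2 l) * F s := by
        rw [← map_inv, ← map_mul, ← map_mul]
        congr 1
        revert l; decide +kernel
      rw [h1]; group
    rw [e]
    rcases hn.1 l with h1 | h1 <;> rw [h1]
    · left; rw [key _ 1, s_conj_q1]
    · right
      rw [map_mul F t, ← mul_assoc, hst]
      have := key (q1 (l + m₁)) 1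
      rw [s_conj_q1] at this
      rw [map_mul, ← this]; group

omit [Finite G] in
theorem Y_zero : Y F K 0 0 := by
  refine ⟨1, NR_one C, fun l => ?_, fun l => ?_⟩ <;> left <;> simp

omit [Finite G] in
theorem Y_add {m₁ m₂ k₁ k₂ : Fin 3} (h : Y F K m₁ m₂) (h' : Y F K k₁ k₂) : Y F K (m₁ + k₁) (m₂ + k₂) := by
  obtain ⟨n, hn, ha⟩ := h
  obtain ⟨n', hn', ha'⟩ := h'
  exact ⟨n' * n, NR_mul C hn' hn, Act_mul C (C.comm _ hn'.1) ha' ha⟩

omit [Finite G] in
theorem Y_swap {m₁ m₂ : Fin 3} (h : Y F K m₁ m₂) : Y F K m₂ m₁ := by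
  obtain ⟨n, hn, ha⟩ := h
  exact ⟨_, NR_swap C hn, Act_swap C ha⟩

omit [Finite G] in
/-- `Y` is trivial, diagonal, antidiagonal or everything. -/
theorem Y_cases : (∀ m₁ m₂, Y F K m₁ m₂ → m₁ = 0 ∧ m₂ = 0) ∨ (Y F K 1 1 ∧ ∀ m₁ m₂, Y F K m₁ m₂ → m₁ = m₂) ∨
    (Y F K 1 2 ∧ ∀ m₁ m₂, Y F K m₁ m₂ → m₁ + m₂ = 0) ∨ ∀ m₁ m₂, Y F K m₁ m₂ := by
  classical
  have key : ∀ p : Fin 3 → Fin 3 → Bool, p 0 0 = true → (∀ a b c d, p a b = true → p c d = true → p (a + c) (b + d) = true) →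
      (∀ a b, p a b = true → p b a = true) → ((∀ a b, p a b = true → a = 0 ∧ b = 0) ∨
        (p 1 1 = true ∧ ∀ a b, p a b = true → a = b) ∨ (p 1 2 = true ∧ ∀ a b, p a b = true → a + b = 0) ∨
          ∀ a b, p a b = true) := by
    intro p h0 hadd hsw
    by_cases h10 : p 1 0 = true
    · right; right; right
      have h01 := hsw _ _ h10
      have h20 := hadd _ _ _ _ h10 h10
      have h02 := hadd _ _ _ _ h01 h01
      intro a b
      fin_cases a <;> fin_cases b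
      · exact h0
      · exact h01
      · exact h02
      · exact h10
      · exact hadd _ _ _ _ h10 h01
      · exact hadd _ _ _ _ h10 h02
      · exact h20
      · exact hadd _ _ _ _ h20 h01
      · exact hadd _ _ _ _ h20 h02
    have h20 : ¬ p 2 0 = true := fun h => h10 (hadd _ _ _ _ h h)
    have h01 : ¬ p 0 1 = true := fun h => h10 (hsw _ _ h)
    have h02 : ¬ p 0 2 = true := fun h => h20 (hsw _ _ h)
    by_cases h11 : p 1 1 = true
    · right; left
      have h12 : ¬ p 1 2 = true := fun h => h20 (hadd _ _ _ _ h11 h)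
      have h21 : ¬ p 2 1 = true := fun h => h12 (hsw _ _ h)
      refine ⟨h11, fun a b => ?_⟩
      fin_cases a <;> fin_cases b <;> simp_all only [_root_.Fin.isValue, _root_.Bool.not_eq_true, _root_.Fin.zero_eta, _root_.imp_self, _root_.Fin.mk_one, _root_.Bool.false_eq_true, _root_.zero_ne_one, _root_.implies_true, _root_.Fin.reduceFinMk, _root_.Fin.reduceEq, _root_.one_ne_zero]
    have h22 : ¬ p 2 2 = true := fun h => h11 (hadd _ _ _ _ h h)
    by_cases h12 : p 1 2 = true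
    · right; right; left
      refine ⟨h12, fun a b => ?_⟩
      fin_cases a <;> fin_cases b <;> simp_all only [_root_.Fin.isValue, _root_.Bool.not_eq_true, _root_.Fin.zero_eta, _root_.add_zero, _root_.imp_self, _root_.Fin.mk_one, _root_.Bool.false_eq_true, _root_.zero_add, _root_.one_ne_zero, _root_.implies_true, _root_.Fin.reduceFinMk, _root_.Fin.reduceEq, _root_.Fin.reduceAdd]
    have h21 : ¬ p 2 1 = true := fun h => h12 (hsw _ _ h)
    left
    intro a b
    fin_cases a <;> fin_cases b <;> simp_all only [_root_.Fin.isValue, _root_.Bool.not_eq_true, _root_.Fin.zero_eta, _root_.and_self, _root_.imp_self, _root_.Fin.mk_one, _root_.Bool.false_eq_true, _root_.one_ne_zero, _root_.implies_true, _root_.Fin.reduceFinMk, _root_.Fin.reduceEq, _root_.and_false, _root_.and_true]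
  have := key (fun a b => decide (Y F K a b)) (by simpa using Y_zero C)
    (by intro a b c d h1 h2; simpa using Y_add C (by simpa using h1) (by simpa using h2))
    (by intro a b h1; simpa using Y_swap C (by simpa using h1))
  simpa only [decide_eq_true_eq] using this

end

end Cfsg.Agent.SylowSp4.TwoY
end

-- part: SylowSp4/TwoParity
section
/-!
# Fusion for the type `PSp₄(3)`: control of fusion in `A` for sets, parity

* `exists_NA_set` : `N_D(A)` controls the `D`-fusion of subsets of `A`;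
* `exists_mul` : if `P ≤ N`, `C ⊴ N` and the elements of odd order of `N` lie in `C`, then `N = P C`;
* `parity` : an element of `N(A) ∩ C(t)` which fixes `±ee a` acts on `A` as an element of `P`;
* `cycle` : otherwise it cycles `ee 0, ee 1, ee 2` modulo `t`.
-/

set_option autoImplicit false

namespace Cfsg.Agent.SylowSp4.TwoParity

open Subgroup Cfsg.Agent.SylowSp4.AltModel Cfsg.Agent.SylowSp4.TwoBase

section

variable {G : Type*} [Group G] [Finite G]

/-- an element of odd order is a power of its square -/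
theorem exists_pow_sq {g : G} (hg : Odd (orderOf g)) : ∃ n : ℕ, g = (g * g) ^ n := by
  obtain ⟨m, hm⟩ := hg
  refine ⟨m + 1, ?_⟩
  have h1 : g ^ (2 * (m + 1)) = g ^ (2 * m + 1) * g := pow_succ _ _
  rw [← sq, ← pow_mul, h1, ← hm, pow_orderOf_eq_one, one_mul]

/-- if `P ≤ N`, `C ⊴ N` and the elements of odd order of `N` lie in `C`, then `N = P C` -/
theorem exists_mul (P : Sylow 2 G) (N C : Subgroup G) (hP : (P : Subgroup G) ≤ N)
    (hCn : ∀ g ∈ N, ∀ c ∈ C, g * c * g⁻¹ ∈ C) (hodd : ∀ g ∈ N, Odd (orderOf g) → g ∈ C) :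
    ∀ g ∈ N, ∃ σ ∈ (P : Subgroup G), ∃ c ∈ C, g = σ * c := by
  have hn : (C.subgroupOf N).Normal := by
    constructor
    intro c hc g
    rw [mem_subgroupOf] at hc ⊢
    exact hCn g g.2 c hc
  have h1 : IsPGroup 2 (N ⧸ C.subgroupOf N) := by
    intro q
    induction q using QuotientGroup.induction_on with
    | H g =>
      obtain ⟨k, m, hm, hkm⟩ := Nat.exists_eq_two_pow_mul_odd (n := orderOf g) (orderOf_pos g).ne'
      refine ⟨k, ?_⟩
      rw [← QuotientGroup.mk_pow, QuotientGroup.eq_one_iff, mem_subgroupOf]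
      apply hodd _ (SetLike.coe_mem _)
      apply Odd.of_dvd_nat hm
      rw [Subgroup.orderOf_coe]
      apply orderOf_dvd_of_pow_eq_one
      rw [← pow_mul, ← hkm, pow_orderOf_eq_one]
  obtain ⟨n, hn1⟩ := IsPGroup.iff_card.1 h1
  have h2 : (C.subgroupOf N).index = 2 ^ n := hn1
  have h3 : ¬ 2 ∣ ((P : Subgroup G).subgroupOf N).index := fun hd =>
    P.not_dvd_index (hd.trans (relIndex_dvd_index_of_le hP))
  have h4 : ((P : Subgroup G).subgroupOf N ⊔ C.subgroupOf N).index = 1 := by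
    have h5 := index_dvd_of_le (le_sup_left : (P : Subgroup G).subgroupOf N ≤ (P : Subgroup G).subgroupOf N ⊔ C.subgroupOf N)
    have h6 := index_dvd_of_le (le_sup_right : C.subgroupOf N ≤ (P : Subgroup G).subgroupOf N ⊔ C.subgroupOf N)
    rw [h2] at h6
    obtain ⟨j, -, hj⟩ := (Nat.dvd_prime_pow Nat.prime_two).1 h6
    rw [hj] at h5 ⊢
    rcases Nat.eq_zero_or_pos j with rfl | hj0
    · rfl
    · exact absurd ((dvd_pow_self 2 hj0.ne').trans h5) h3
  rw [index_eq_one] at h4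
  intro g hg
  have h5 : (⟨g, hg⟩ : N) ∈ (P : Subgroup G).subgroupOf N ⊔ C.subgroupOf N := by rw [h4]; exact mem_top _
  rw [← SetLike.mem_coe, Subgroup.mul_normal] at h5
  obtain ⟨σ, hσ, c, hc, hh⟩ := h5
  exact ⟨σ, hσ, c, hc, congrArg Subtype.val hh.symm⟩

end

/-- pointwise centraliser of `A` -/
def CA {G : Type*} [Group G] (F : M64 →* G) (n : G) : Prop := ∀ a, InA a → n * F a * n⁻¹ = F a

section

variable {G : Type*} [Group G] {F : M64 →* G}

theorem NA_one : NA F 1 := fun a ha => ⟨a, ha, by group⟩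

theorem NA_mul {m n : G} (hm : NA F m) (hn : NA F n) : NA F (m * n) := by
  intro a ha
  obtain ⟨b, hb, h1⟩ := hn a ha
  obtain ⟨c, hc, h2⟩ := hm b hb
  refine ⟨c, hc, ?_⟩
  calc m * n * F a * (m * n)⁻¹ = m * (n * F a * n⁻¹) * m⁻¹ := by group
    _ = F c := by rw [h1, h2]

theorem NA_F (x : M64) : NA F (F x) := fun a ha => ⟨x * a * x⁻¹, A_conj x a ha, by rw [map_mul, map_mul, map_inv]⟩

variable [Finite G]

theorem NA_pow {n : G} (hn : NA F n) (k : ℕ) : NA F (n ^ k) := by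
  induction k with
  | zero => rw [pow_zero]; exact NA_one
  | succ k ih => rw [pow_succ]; exact NA_mul ih hn

theorem NA_inv {n : G} (hn : NA F n) : NA F n⁻¹ := by
  have h1 : n⁻¹ = n ^ (orderOf n - 1) := by
    apply inv_eq_of_mul_eq_one_left
    rw [← pow_succ, Nat.sub_add_cancel (orderOf_pos n), pow_orderOf_eq_one]
  rw [h1]
  exact NA_pow hn _

end

theorem conj_mul {G : Type*} [Group G] {F : M64 →* G} {n : G} {x y x' y' : M64} (hx : n * F x * n⁻¹ = F x')
    (hy : n * F y * n⁻¹ = F y') : n * F (x * y) * n⁻¹ = F (x' * y') := by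
  rw [map_mul, map_mul, ← hx, ← hy]; group

theorem conj_trans {G : Type*} [Group G] {F : M64 →* G} {m n : G} {x y w : M64} (hx : n * F x * n⁻¹ = F y)
    (hy : m * F y * m⁻¹ = F w) : (m * n) * F x * (m * n)⁻¹ = F w := by
  rw [← hy, ← hx]; group

theorem conj_symm {G : Type*} [Group G] {F : M64 →* G} {n : G} {x y : M64} (hx : n * F x * n⁻¹ = F y) :
    n⁻¹ * F y * n⁻¹⁻¹ = F x := by
  rw [← hx]; group

theorem conj_F {G : Type*} [Group G] (F : M64 →* G) (x y : M64) : F x * F y * (F x)⁻¹ = F (x * y * x⁻¹) := by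
  rw [map_mul, map_mul, map_inv]

section

variable {G : Type*} [Group G] [Finite G] {P : Sylow 2 G} {F : M64 →* G} (M : _root_.Cfsg.Agent.SylowSp4.TwoBase.Mod (P : Subgroup G) F)

end

/-! ### parity -/

theorem D_cases : ∀ x : M64, InA x → InR x → x = 1 ∨ x = t ∨ (∃ a, x = ee a) ∨ ∃ a, x = t * ee a := by
  decide +kernel

theorem R_mul : ∀ x y : M64, InR x → InR y → InR (x * y) := by (open scoped Cfsg.Agent.SylowSp4.Fast64 in decide +kernel)
theorem R_t : InR t := by decide +kernel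
theorem R_ee : ∀ a, InR (ee a) := by decide +kernel
theorem R_tee : ∀ a, InR (t * ee a) := by decide +kernel
theorem R_conj : ∀ g x : M64, InR x → InR (g * x * g⁻¹) := by (open scoped Cfsg.Agent.SylowSp4.Fast64 in decide +kernel)
theorem not_R_s : ¬ InR s := by decide +kernel
theorem gen_A : ∀ x : M64, InA x → ∃ d, InA d ∧ InR d ∧ (x = d ∨ x = d * s) := by
  decide +kernel
theorem tee_ne : ∀ a, t * ee a ≠ t ∧ t * ee a ≠ 1 := by decide +kernel
theorem ee_inj : ∀ a b, (ee a = ee b ∨ ee a = t * ee b) → a = b := by decide +kernel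
theorem S_ee : ∀ x : M64, ∀ a, x * ee a * x⁻¹ = ee a ∨ x * ee a * x⁻¹ = t * ee a := by (open scoped Cfsg.Agent.SylowSp4.Fast64 in decide +kernel)

section

variable {G : Type*} [Group G] [Finite G] {P : Sylow 2 G} {F : M64 →* G} (M : _root_.Cfsg.Agent.SylowSp4.TwoBase.Mod (P : Subgroup G) F)
  (hnf : ∀ c : G, c * F t = F t * c → ∀ x y : M64, x * x = 1 → ¬ InR x → InR y → c * F x * c⁻¹ ≠ F y)

include M hnf

/-- `N(A) ∩ C(t)` normalises `D = A ∩ R` -/
theorem D_norm {g : G} (hg : NA F g) (hgt : g * F t = F t * g) {x y : M64} (hx : InA x) (hxy : g * F x * g⁻¹ = F y) :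
    InR x ↔ InR y := by
  have hy : InA y := by
    obtain ⟨y', hy', h1⟩ := hg x hx
    rw [hxy] at h1
    rw [M.inj h1]
    exact hy'
  have hgt' : g⁻¹ * F t = F t * g⁻¹ := by
    have : g⁻¹ * (g * F t) * g⁻¹ = g⁻¹ * (F t * g) * g⁻¹ := by rw [hgt]
    calc g⁻¹ * F t = g⁻¹ * (F t * g) * g⁻¹ := by group
      _ = g⁻¹ * (g * F t) * g⁻¹ := by rw [hgt]
      _ = F t * g⁻¹ := by group
  constructor
  · intro hR
    by_contra hR'
    exact hnf g⁻¹ hgt' y x (A_sq y hy) hR' hR (conj_symm hxy)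
  · intro hR
    by_contra hR'
    exact hnf g hgt x y (A_sq x hx) hR' hR hxy

/-- the action on `ee 0, ee 1, ee 2` modulo `t` -/
theorem exists_fun {g : G} (hg : NA F g) (hgt : g * F t = F t * g) : ∃ f : Fin 3 → Fin 3,
    ∀ a, g * F (ee a) * g⁻¹ = F (ee (f a)) ∨ g * F (ee a) * g⁻¹ = F (t * ee (f a)) := by
  have h1 : ∀ a, ∃ b, g * F (ee a) * g⁻¹ = F (ee b) ∨ g * F (ee a) * g⁻¹ = F (t * ee b) := by
    intro a
    obtain ⟨y, hy, hay⟩ := hg (ee a) (A_ee a)
    have hyR : InR y := (D_norm M hnf hg hgt (A_ee a) hay).1 (R_ee a)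
    rcases D_cases y hy hyR with rfl | rfl | ⟨b, rfl⟩ | ⟨b, rfl⟩
    · exfalso
      rw [map_one] at hay
      have h2 : F (ee a) = F 1 := by
        rw [map_one]
        calc F (ee a) = g⁻¹ * (g * F (ee a) * g⁻¹) * g := by group
          _ = 1 := by rw [hay]; group
      exact ee_ne_one a (M.inj h2)
    · exfalso
      have h2 : F (ee a) = F t := by
        calc F (ee a) = g⁻¹ * (g * F (ee a) * g⁻¹) * g := by group
          _ = g⁻¹ * (F t * g) := by rw [hay]; group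
          _ = F t := by rw [← hgt]; group
      exact ee_ne_t a (M.inj h2)
    · exact ⟨b, Or.inl hay⟩
    · exact ⟨b, Or.inr hay⟩
  choose f hf using h1
  exact ⟨f, hf⟩

end

/-- `g` moves `ee a` to `ee b` modulo `t` -/
def Mo {G : Type*} [Group G] (F : M64 →* G) (g : G) (a b : Fin 3) : Prop :=
  g * F (ee a) * g⁻¹ = F (ee b) ∨ g * F (ee a) * g⁻¹ = F (t * ee b)

section

variable {G : Type*} [Group G] {F : M64 →* G}

theorem comm_inv {g : G} (hg : g * F t = F t * g) : g⁻¹ * F t = F t * g⁻¹ := by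
  calc g⁻¹ * F t = g⁻¹ * (F t * g) * g⁻¹ := by group
    _ = g⁻¹ * (g * F t) * g⁻¹ := by rw [hg]
    _ = F t * g⁻¹ := by group

theorem comm_mul {g h : G} (hg : g * F t = F t * g) (hh : h * F t = F t * h) : g * h * F t = F t * (g * h) := by
  rw [mul_assoc, hh, ← mul_assoc, hg, mul_assoc]

theorem fix_t {g : G} (hg : g * F t = F t * g) : g * F t * g⁻¹ = F t := by
  rw [hg]; group

theorem tt : t * t = 1 := by decide +kernel

theorem mo_t {g : G} (hg : g * F t = F t * g) {a b : Fin 3} (h : Mo F g a b) :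
    g * F (t * ee a) * g⁻¹ = F (ee b) ∨ g * F (t * ee a) * g⁻¹ = F (t * ee b) := by
  rcases h with h | h
  · right; exact conj_mul (fix_t hg) h
  · left
    have := conj_mul (fix_t hg) h
    rwa [← mul_assoc, tt, one_mul] at this

theorem mo_mul {g h : G} (hh : h * F t = F t * h) {a b c : Fin 3} (h1 : Mo F g a b) (h2 : Mo F h b c) :
    Mo F (h * g) a c := by
  rcases h1 with h1 | h1
  · rcases h2 with h2 | h2
    · left; exact conj_trans h1 h2
    · right; exact conj_trans h1 h2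
  · rcases mo_t hh h2 with h3 | h3
    · left; exact conj_trans h1 h3
    · right; exact conj_trans h1 h3

theorem mo_inv {g : G} (hg : g * F t = F t * g) {a b : Fin 3} (h : Mo F g a b) : Mo F g⁻¹ b a := by
  rcases h with h | h
  · left; exact conj_symm h
  · right
    have h3 := conj_symm h
    have h4 := conj_mul (fix_t (comm_inv hg)) h3
    rwa [← mul_assoc, tt, one_mul] at h4

theorem mo_F (x : M64) (a : Fin 3) : Mo F (F x) a a := by
  rcases S_ee x a with h | h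
  · left; rw [conj_F, h]
  · right; rw [conj_F, h]

theorem mo_unique (hF : Function.Injective F) {g : G} {a b c : Fin 3} (h1 : Mo F g a b) (h2 : Mo F g a c) : b = c := by
  rcases h1 with h1 | h1 <;> rcases h2 with h2 | h2
  · rw [h1] at h2; exact ee_inj _ _ (Or.inl (hF h2))
  · rw [h1] at h2; exact ee_inj _ _ (Or.inr (hF h2))
  · rw [h1] at h2; exact (ee_inj _ _ (Or.inr (hF h2).symm)).symm
  · rw [h1] at h2
    have h3 : t * ee b = t * ee c := hF h2
    exact ee_inj _ _ (Or.inl (mul_left_cancel h3))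

end

/-- the subgroup `N(A) ∩ C(t)` -/
def Kt {G : Type*} [Group G] [Finite G] (F : M64 →* G) : Subgroup G where
  carrier := {n | NA F n ∧ n * F t = F t * n}
  mul_mem' {m n} hm hn := ⟨NA_mul hm.1 hn.1, comm_mul hm.2 hn.2⟩
  one_mem' := ⟨NA_one, by group⟩
  inv_mem' {m} hm := ⟨NA_inv hm.1, comm_inv hm.2⟩

/-- the kernel of the action on `D / t` -/
def Nt {G : Type*} [Group G] [Finite G] (F : M64 →* G) : Subgroup G where
  carrier := {n | (NA F n ∧ n * F t = F t * n) ∧ ∀ a, Mo F n a a}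
  mul_mem' {m n} hm hn := ⟨(Kt F).mul_mem hm.1 hn.1, fun a => mo_mul hm.1.2 (hn.2 a) (hm.2 a)⟩
  one_mem' := ⟨(Kt F).one_mem, fun a => Or.inl (by group)⟩
  inv_mem' {m} hm := ⟨(Kt F).inv_mem hm.1, fun a => mo_inv hm.1.2 (hm.2 a)⟩

/-- the centraliser of `A` -/
def Ct {G : Type*} [Group G] (F : M64 →* G) : Subgroup G where
  carrier := {n | CA F n}
  mul_mem' {m n} hm hn := fun a ha => conj_trans (hn a ha) (hm a ha)
  one_mem' := fun a ha => by group
  inv_mem' {m} hm := fun a ha => conj_symm (hm a ha)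

section

variable {G : Type*} [Group G] [Finite G] {P : Sylow 2 G} {F : M64 →* G} (M : _root_.Cfsg.Agent.SylowSp4.TwoBase.Mod (P : Subgroup G) F)

include M

theorem P_le_Nt : (P : Subgroup G) ≤ Nt F := by
  intro g hg
  obtain ⟨x, rfl⟩ := exists_of_mem M hg
  exact ⟨⟨NA_F x, t_comm M hg⟩, fun a => mo_F x a⟩

omit M in
theorem Nt_le_Kt : Nt F ≤ Kt F := fun _ h => h.1

variable (hnf : ∀ c : G, c * F t = F t * c → ∀ x y : M64, x * x = 1 → ¬ InR x → InR y → c * F x * c⁻¹ ≠ F y)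

include hnf

/-- a 2-element of `N(A) ∩ C(t)` acts trivially on `D / t` -/
theorem two_elt {g : G} (hg : g ∈ Kt F) {n : ℕ} (hn : g ^ 2 ^ n = 1) : g ∈ Nt F := by
  have hp : IsPGroup 2 (zpowers g) := by
    rw [IsPGroup.iff_card]
    rw [Nat.card_zpowers]
    obtain ⟨m, -, hm⟩ := (Nat.dvd_prime_pow Nat.prime_two).1 (orderOf_dvd_of_pow_eq_one hn)
    exact ⟨m, hm⟩
  have hPK : (P : Subgroup G) ≤ Kt F := (P_le_Nt M).trans Nt_le_Kt
  have hi : ¬ 2 ∣ (P : Subgroup G).relIndex (Kt F) := fun hd =>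
    P.not_dvd_index (hd.trans (relIndex_dvd_index_of_le hPK))
  obtain ⟨k, hk, hkg⟩ := Cfsg.Agent.Lib.GoldschmidtFusion.exists_conj_le_in P.isPGroup' hi
    (show zpowers g ≤ Kt F from (zpowers_le (H := Kt F)).2 hg) hp
  have h1 : k * g * k⁻¹ ∈ Nt F := P_le_Nt M (hkg ⟨g, mem_zpowers g, rfl⟩)
  refine ⟨hg, ?_⟩
  intro a
  obtain ⟨f, hf⟩ := exists_fun M hnf hk.1 hk.2
  have h2 : Mo F k a (f a) := hf a
  have h3 := mo_mul h1.1.2 h2 (h1.2 (f a))
  have h4 := mo_mul (comm_inv hk.2) h3 (mo_inv hk.2 h2)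
  have e : k⁻¹ * (k * g * k⁻¹ * k) = g := by group
  rwa [e] at h4

omit M hnf in
theorem inv_of_fix : ∀ f : Fin 3 → Fin 3, (∀ i j, f i = f j → i = j) → ∀ a, f a = a → ∀ i, f (f i) = i := by
  decide +kernel

/-- an element of `N(A) ∩ C(t)` which fixes one `ee a` modulo `t` fixes all of them modulo `t` -/
theorem mem_Nt {g : G} (hg : g ∈ Kt F) {a : Fin 3} (ha : Mo F g a a) : g ∈ Nt F := by
  obtain ⟨f, hf⟩ := exists_fun M hnf hg.1 hg.2
  have hf' : ∀ b, Mo F g b (f b) := hf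
  have hinj : ∀ i j, f i = f j → i = j := by
    intro i j hij
    have h1 := mo_inv hg.2 (hf' i)
    have h2 := mo_inv hg.2 (hf' j)
    rw [← hij] at h2
    exact mo_unique M.inj h1 h2
  have hfa : f a = a := mo_unique M.inj (hf' a) ha
  have hinv : Function.Involutive f := inv_of_fix f hinj a hfa
  have hpow : ∀ n : ℕ, ∀ b, Mo F (g ^ n) b (f^[n] b) := by
    intro n
    induction n with
    | zero => intro b; rw [pow_zero]; exact Or.inl (by group; rfl)
    | succ n ih =>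
      intro b
      rw [pow_succ', Function.iterate_succ_apply']
      exact mo_mul hg.2 (ih b) (hf' _)
  obtain ⟨k, m, hm, hkm⟩ := Nat.exists_eq_two_pow_mul_odd (n := orderOf g) (orderOf_pos g).ne'
  have h1 : g ^ m ∈ Nt F := by
    apply two_elt M hnf ((Kt F).pow_mem hg m) (n := k)
    rw [← pow_mul, mul_comm, ← hkm, pow_orderOf_eq_one]
  refine ⟨hg, ?_⟩
  intro b
  have h2 := mo_unique M.inj (hpow m b) (h1.2 b)
  rw [hinv.iterate_odd hm] at h2
  have h3 := hf' b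
  rwa [h2] at h3

omit M hnf in
theorem gen_D : ∀ x : M64, InA x → InR x → ∃ a, x = 1 ∨ x = t ∨ x = ee a ∨ x = t * ee a := by decide +kernel

omit M hnf in
theorem fix_of_odd {g : G} (hg : Odd (orderOf g)) {x : G} (hx : (g * g) * x * (g * g)⁻¹ = x) : g * x * g⁻¹ = x := by
  obtain ⟨n, hn⟩ := exists_pow_sq hg
  have h1 : ∀ k : ℕ, (g * g) ^ k * x * ((g * g) ^ k)⁻¹ = x := by
    intro k
    induction k with
    | zero => group
    | succ k ih =>
      rw [pow_succ]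
      calc (g * g) ^ k * (g * g) * x * ((g * g) ^ k * (g * g))⁻¹ =
            (g * g) ^ k * ((g * g) * x * (g * g)⁻¹) * ((g * g) ^ k)⁻¹ := by group
        _ = x := by rw [hx, ih]
  have h2 := h1 n
  rwa [← hn] at h2

/-- an element of odd order of `N(A) ∩ C(t)` acting trivially on `D / t` centralises `A` -/
theorem odd_elt {g : G} (hg : g ∈ Nt F) (ho : Odd (orderOf g)) : CA F g := by
  have h1 : ∀ a, g * F (ee a) * g⁻¹ = F (ee a) := by
    intro a
    apply fix_of_odd ho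
    rcases hg.2 a with h | h
    · exact conj_trans h h
    · have h2 := conj_mul (fix_t hg.1.2) h
      rw [← mul_assoc, tt, one_mul] at h2
      exact conj_trans h h2
  have h2 : ∀ d, InA d → InR d → g * F d * g⁻¹ = F d := by
    intro d hd hdR
    obtain ⟨a, rfl | rfl | rfl | rfl⟩ := gen_D d hd hdR
    · rw [map_one]; group
    · exact fix_t hg.1.2
    · exact h1 a
    · exact conj_mul (fix_t hg.1.2) (h1 a)
  have h3 : g * F s * g⁻¹ = F s := by
    apply fix_of_odd ho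
    obtain ⟨y, hy, hsy⟩ := hg.1.1 s A_s
    have hyR : ¬ InR y := fun h => not_R_s ((D_norm M hnf hg.1.1 hg.1.2 A_s hsy).2 h)
    obtain ⟨d, hdA, hdR, rfl | rfl⟩ := gen_A y hy
    · exact absurd hdR hyR
    · have h4 := conj_mul (h2 d hdA hdR) hsy
      rw [← mul_assoc, A_sq d hdA, one_mul] at h4
      exact conj_trans hsy h4
  intro a ha
  obtain ⟨d, hdA, hdR, rfl | rfl⟩ := gen_A a ha
  · exact h2 _ hdA hdR
  · exact conj_mul (h2 d hdA hdR) h3

/-- **Parity**: an element of `N(A) ∩ C(t)` which fixes some `ee a` modulo `t` acts on `A` as an element of `P` -/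
theorem parity {g : G} (hg : NA F g) (hgt : g * F t = F t * g) {a : Fin 3}
    (ha : g * F (ee a) * g⁻¹ = F (ee a) ∨ g * F (ee a) * g⁻¹ = F (t * ee a)) :
    ∃ σ : M64, ∀ x, InA x → g * F x * g⁻¹ = F (σ * x * σ⁻¹) := by
  have h1 : g ∈ Nt F := mem_Nt M hnf ⟨hg, hgt⟩ ha
  obtain ⟨σ, hσ, c, hc, rfl⟩ := exists_mul P (Nt F) (Ct F) (P_le_Nt M) (by
    intro n hn c hc a ha
    obtain ⟨b, hb, h2⟩ := (NA_inv hn.1.1) a ha
    have h3 := conj_trans (conj_trans h2 (hc b hb)) (conj_symm h2)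
    rw [inv_inv, ← mul_assoc] at h3
    exact h3) (fun n hn ho => odd_elt M hnf hn ho) g h1
  obtain ⟨x, rfl⟩ := exists_of_mem M hσ
  exact ⟨x, fun y hy => conj_trans (hc y hy) (conj_F F x y)⟩

omit M hnf in
theorem cyc_of : ∀ f : Fin 3 → Fin 3, (∀ i j, f i = f j → i = j) → (∀ a, f a ≠ a) →
    (∀ a, f a = a + 1) ∨ ∀ a, f a = a + 2 := by decide +kernel

/-- **Parity**: an element of `N(A) ∩ C(t)` which fixes no `ee a` modulo `t` cycles them modulo `t` -/
theorem cycle {g : G} (hg : NA F g) (hgt : g * F t = F t * g) (ha : ∀ a, ¬ Mo F g a a) :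
    (∀ a, Mo F g a (a + 1)) ∨ ∀ a, Mo F g a (a + 2) := by
  obtain ⟨f, hf⟩ := exists_fun M hnf hg hgt
  have hf' : ∀ b, Mo F g b (f b) := hf
  have hinj : ∀ i j, f i = f j → i = j := by
    intro i j hij
    have h1 := mo_inv hgt (hf' i)
    have h2 := mo_inv hgt (hf' j)
    rw [← hij] at h2
    exact mo_unique M.inj h1 h2
  rcases cyc_of f hinj (fun a h => ha a (by have := hf' a; rwa [h] at this)) with h | h
  · left; intro a; rw [← h a]; exact hf' a
  · right; intro a; rw [← h a]; exact hf' a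

end

end Cfsg.Agent.SylowSp4.TwoParity
end

-- part: SylowSp4/TwoOff
section
/-!
# Type `PSp₄(3)`: involutions of `R` conjugate to `t`, transfer

* `off` : an involution `v ≠ t` of `R` conjugate to `t` is conjugate in `C(t)` to some `±ee l`;
* `transfer_false` : transfer into `P / M` of a root of `t`;
* `c_cases` : an element of `C(t)` moving an element of `R` into `R` acts on it like an element of `N_K(R) ⟨s⟩`;
* `T_off` : if `Y` is trivial, no involution of `R` outside `A` is conjugate to `t`.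
-/

set_option autoImplicit false

namespace Cfsg.Agent.SylowSp4.TwoOff

open Subgroup Cfsg.Agent.SylowSp4.AltModel Cfsg.Agent.SylowSp4.TwoBase Cfsg.Agent.SylowSp4.TwoCtx
open Cfsg.Agent.SylowSp4.TwoY Cfsg.Agent.SylowSp4.TwoParity
open Cfsg.Agent.Lib.GoldschmidtFusion

theorem exists_root : ∀ v : M64, InR v → v * v = 1 → v ≠ 1 → ∃ q, q * q = t ∧ q * v = v * q := by decide +kernel

theorem ee_of : ∀ a : M64, InA a → InR a → a ≠ 1 → a ≠ t → ∃ l, a = ee l ∨ a = t * ee l := by decide +kernel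

section

variable {G : Type*} [Group G] {P : Sylow 2 G} {F : M64 →* G} {K : Subgroup G} (C : Ctx P F K)

include C

theorem hnf : ∀ c : G, c * F t = F t * c → ∀ x y : M64, x * x = 1 → ¬ InR x → InR y → c * F x * c⁻¹ ≠ F y :=
  fun c hc x y hx hxR hy => C.no_fusion x hx hxR c hc y hy

end

section

variable {G : Type*} [Group G] [Finite G] {P : Sylow 2 G} {F : M64 →* G} {K : Subgroup G} (C : Ctx P F K)

include C

/-- An involution `v ≠ t` of `R` conjugate to `t` is conjugate in `C(t)` to some `±ee l`. -/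
theorem off {v : M64} (hv : InR v) (hvt : v ≠ t) (h : IsConj (F t) (F v)) :
    ∃ c, c * F t = F t * c ∧ ∃ l, c * F v * c⁻¹ = F (ee l) ∨ c * F v * c⁻¹ = F (t * ee l) := by
  obtain ⟨g₀, hg₀⟩ := isConj_iff.1 h.symm
  have hvv : v * v = 1 := by
    apply C.mod.inj
    rw [map_mul, map_one]
    have h1 : F v = g₀⁻¹ * F t * g₀ := by rw [← hg₀]; group
    have h2 : F t * F t = 1 := by rw [← map_mul, show t * t = 1 by decide +kernel, map_one]
    calc F v * F v = g₀⁻¹ * (F t * F t) * g₀ := by rw [h1]; group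
      _ = 1 := by rw [h2]; group
  have hv1 : v ≠ 1 := by
    rintro rfl
    rw [map_one] at hg₀
    have : F t = 1 := by rw [← hg₀]; group
    exact t_ne_one (C.mod.inj (by rw [this, map_one]))
  obtain ⟨q, hq, hqv⟩ := exists_root v hv hvv hv1
  obtain ⟨g, hg, hgC⟩ := Extremal.exists_conj_of_central P (t := F t) (w := F v)
    (fun y hy => TwoBase.t_comm C.mod hy) ⟨g₀, hg₀⟩
  obtain ⟨w, hw⟩ := exists_of_mem C.mod (hgC (F q) (TwoBase.mem C.mod q) (by rw [← map_mul, hqv, map_mul]))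
  -- `g t g⁻¹` lies in `A`
  have hgt : g * F t * g⁻¹ = F (w * w) := by
    rw [map_mul, hw, ← hq, map_mul]; group
  set D := (Asub.map F).map (MulAut.conj g⁻¹).toMonoidHom with hD
  have hDC : D ≤ centralizer ({F t} : Set G) := by
    rintro _ ⟨_, ⟨a, ha, rfl⟩, rfl⟩
    change g⁻¹ * F a * g⁻¹⁻¹ ∈ _
    rw [mem_centralizer_singleton_iff, inv_inv]
    have h1 : F t = g⁻¹ * F (w * w) * g := by rw [← hgt]; group
    have h2 : F a * F (w * w) = F (w * w) * F a := by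
      rw [← map_mul, ← map_mul, A_comm a _ ha (sq_mem_A w)]
    rw [h1]
    calc g⁻¹ * F a * g * (g⁻¹ * F (w * w) * g) = g⁻¹ * (F a * F (w * w)) * g := by group
      _ = g⁻¹ * (F (w * w) * F a) * g := by rw [h2]
      _ = _ := by group
  have hPC : (P : Subgroup G) ≤ centralizer ({F t} : Set G) := fun x hx =>
    mem_centralizer_singleton_iff.2 (TwoBase.t_comm C.mod hx)
  have hi : ¬ 2 ∣ (P : Subgroup G).relIndex (centralizer ({F t} : Set G)) := fun hd =>
    P.not_dvd_index (hd.trans (relIndex_dvd_index_of_le hPC))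
  obtain ⟨c, hc, hcD⟩ := exists_conj_le_in P.isPGroup' hi hDC ((isPGroup_AF C.mod).map _)
  have hct := mem_centralizer_singleton_iff.1 hc
  have hn := norm_of_le C.mod (n := c * g⁻¹) (by
    intro a ha
    have h1 : c * (g⁻¹ * F a * g⁻¹⁻¹) * c⁻¹ ∈ (P : Subgroup G) := hcD ⟨_, ⟨_, ⟨a, ha, rfl⟩, rfl⟩, rfl⟩
    have e : c * g⁻¹ * F a * (c * g⁻¹)⁻¹ = c * (g⁻¹ * F a * g⁻¹⁻¹) * c⁻¹ := by group
    rw [e]; exact h1)
  obtain ⟨a, ha, hca⟩ := hn t A_t
  have hcv : c * F v * c⁻¹ = F a := by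
    rw [← hca, ← hg]; group
  have haR : InR a := by
    by_contra haR
    apply C.no_fusion a (A_sq a ha) haR c⁻¹ (comm_inv hct) v hv
    rw [← hcv]; group
  have ha1 : a ≠ 1 := by
    rintro rfl
    rw [map_one] at hcv
    have : F v = 1 := by
      calc F v = c⁻¹ * (c * F v * c⁻¹) * c := by group
        _ = 1 := by rw [hcv]; group
    exact hv1 (C.mod.inj (by rw [this, map_one]))
  have hat : a ≠ t := by
    rintro rfl
    have : F v = F t := by
      calc F v = c⁻¹ * (c * F v * c⁻¹) * c := by group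
        _ = c⁻¹ * (F t * c) := by rw [hcv]; group
        _ = F t := by rw [← hct]; group
    exact hvt (C.mod.inj this)
  obtain ⟨l, h1 | h1⟩ := ee_of a ha haR ha1 hat
  · exact ⟨c, hct, l, Or.inl (by rw [hcv, h1])⟩
  · exact ⟨c, hct, l, Or.inr (by rw [hcv, h1])⟩

omit [Finite G] in
/-- the class of `t` consists of involutions -/
theorem sq_of_T {x : M64} (h : IsConj (F t) (F x)) : x * x = 1 ∧ x ≠ 1 := by
  obtain ⟨g, hg⟩ := isConj_iff.1 h
  have h2 : F t * F t = 1 := by rw [← map_mul, show t * t = 1 by decide +kernel, map_one]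
  constructor
  · apply C.mod.inj
    rw [map_mul, map_one, ← hg]
    calc g * F t * g⁻¹ * (g * F t * g⁻¹) = g * (F t * F t) * g⁻¹ := by group
      _ = 1 := by rw [h2]; group
  · rintro rfl
    rw [map_one] at hg
    have : F t = 1 := by
      calc F t = g⁻¹ * (g * F t * g⁻¹) * g := by group
        _ = 1 := by rw [hg]; group
    exact t_ne_one (C.mod.inj (by rw [this, map_one]))

/-- Transfer of a root `y` of `t` into `P / M`. -/
theorem transfer_false (hG : ∀ H : Subgroup G, H.index ≠ 2) {M : Subgroup M64}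
    (hM : (M.map F).relIndex (P : Subgroup G) = 2) {y : M64} (hy : y * y = t)
    (ha : ∀ x, IsConj (F t) (F x) → x ∈ M) (hb : ∀ x, IsConj (F y) (F x) → x ∉ M) : False := by
  obtain ⟨V, hV⟩ := Extremal.exists_transfer P (M.map F) hM
  have hmem : ∀ x, F x ∈ M.map F ↔ x ∈ M := fun x =>
    ⟨fun ⟨z, hz, e⟩ => by rw [← C.mod.inj e]; exact hz, fun hx => ⟨x, hx, rfl⟩⟩
  have hy4 : y ^ 4 = 1 := by
    have : y ^ 4 = (y * y) * (y * y) := by rw [show 4 = 2 + 2 from rfl, pow_add, sq]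
    rw [this, hy]
    decide +kernel
  have hyi : t * y = y⁻¹ := by
    have h1 : y * (t * y) = 1 := by
      rw [← mul_assoc, t_central, mul_assoc, hy]
      decide +kernel
    exact (inv_eq_of_mul_eq_one_right h1).symm
  have h1 := (hV (F y) (TwoBase.mem C.mod y) (by
    intro k g hg
    have e : F y ^ k = F (y ^ (k % 4)) := by rw [← map_pow, ← pow_eq_pow_mod k hy4]
    rw [e] at hg ⊢
    obtain ⟨w, hw⟩ := exists_of_mem C.mod hg
    rw [← hw, hmem, hmem]
    have hk : k % 4 < 4 := Nat.mod_lt _ (by norm_num)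
    generalize k % 4 = j at *
    interval_cases j
    · rw [pow_zero, map_one] at hw
      have : w = 1 := C.mod.inj (by rw [hw, map_one]; group)
      rw [this, pow_zero]
    · rw [pow_one] at hw ⊢
      have h2 := hb w (isConj_iff.2 ⟨g, hw.symm⟩)
      have h3 := hb y (IsConj.refl _)
      exact ⟨fun h => absurd h h2, fun h => absurd h h3⟩
    · have e2 : y ^ 2 = t := by rw [sq, hy]
      rw [e2] at hw ⊢
      have h2 := ha w (isConj_iff.2 ⟨g, hw.symm⟩)
      have h3 := ha t (IsConj.refl _)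
      exact ⟨fun _ => h3, fun _ => h2⟩
    · have e2 : y ^ 3 = y⁻¹ := by
        rw [pow_succ, sq, hy, hyi]
      rw [e2] at hw ⊢
      have h2 := hb w⁻¹ (isConj_iff.2 ⟨g, by rw [map_inv, hw, map_inv]; group⟩)
      have h3 := hb y (IsConj.refl _)
      exact ⟨fun h => absurd (M.inv_mem h) h2, fun h => absurd (by rw [← inv_inv y]; exact M.inv_mem h) h3⟩)).1
    (Extremal.char_trivial hG V _)
  exact hb y (IsConj.refl _) ((hmem y).1 h1)

omit [Finite G] in
theorem relIndex_map {M : Subgroup M64} {a : M64} (h : ∀ x, (x * a ∈ M ∧ x ∉ M) ∨ (x ∈ M ∧ x * a ∉ M)) :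
    (M.map F).relIndex (P : Subgroup G) = 2 := by
  have hmem : ∀ x, F x ∈ M.map F ↔ x ∈ M := fun x =>
    ⟨fun ⟨z, hz, e⟩ => by rw [← C.mod.inj e]; exact hz, fun hx => ⟨x, hx, rfl⟩⟩
  rw [Subgroup.relIndex, Subgroup.index_eq_two_iff]
  refine ⟨⟨F a, TwoBase.mem C.mod _⟩, ?_⟩
  rintro ⟨g, hg⟩
  obtain ⟨x, rfl⟩ := exists_of_mem C.mod hg
  rw [Subgroup.mem_subgroupOf, Subgroup.mem_subgroupOf]
  change Xor (F x * F a ∈ M.map F) (F x ∈ M.map F)
  rw [← map_mul, hmem, hmem]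
  exact h x

end

/-! ### off-diagonal involutions -/

/-- `(c_a, c_b)` -/
def dd (a b : Fin 3) : M64 := q1 a * q2 b

theorem R_dd : ∀ a b, InR (dd a b) := by decide +kernel
theorem s_dd : ∀ a b, s * dd a b * s⁻¹ = dd b a := by decide +kernel
theorem s_R_conj : ∀ x, InR x → InR (s * x * s⁻¹) := by decide +kernel
theorem dd_inj : ∀ a b a' b', (dd a b = dd a' b' ∨ dd a b = t * dd a' b') → a = a' ∧ b = b' := by decide +kernel
theorem dd_cases : ∀ v, InR v → v * v = 1 → v ≠ 1 → v ≠ t → ∃ a b, v = dd a b ∨ v = t * dd a b := by decide +kernel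
theorem dd_not_A : ∀ a b, ¬ InA (dd a b) → a ≠ b := by decide +kernel
theorem twist_dd : ∀ a b, ∃ r, r * dd a b * r⁻¹ = t * dd a b := by decide +kernel

section

variable {G : Type*} [Group G] {P : Sylow 2 G} {F : M64 →* G} {K : Subgroup G} (C : Ctx P F K)

include C

theorem act_dd {n : G} {m₁ m₂ : Fin 3} (hn : n * F t = F t * n) (h : Act F n m₁ m₂) (a b : Fin 3) :
    n * F (dd a b) * n⁻¹ = F (dd (a + m₁) (b + m₂)) ∨ n * F (dd a b) * n⁻¹ = F (t * dd (a + m₁) (b + m₂)) := by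
  have e : n * F (dd a b) * n⁻¹ = (n * F (q1 a) * n⁻¹) * (n * F (q2 b) * n⁻¹) := by
    rw [dd, map_mul]; group
  have e1 : ∀ x y : M64, x * (t * y) = t * (x * y) := fun x y => by rw [← mul_assoc, t_central, mul_assoc]
  rw [e]
  rcases h.1 a with h1 | h1 <;> rcases h.2 b with h2 | h2 <;> rw [h1, h2, ← map_mul]
  · exact Or.inl rfl
  · right; rw [e1]; rfl
  · right; rw [mul_assoc]; rfl
  · left; rw [mul_assoc, e1, tt_mul]; rfl

theorem t_dd (a b : Fin 3) : IsConj (F (dd a b)) (F (t * dd a b)) := by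
  obtain ⟨r, hr⟩ := twist_dd a b
  exact isConj_iff.2 ⟨F r, by rw [← map_inv, ← map_mul, ← map_mul, hr]⟩

variable [Finite G]

/-- an element of `C(t)` acts on an element of `R` which it moves into `R` like an element of `N_K(R) ⟨s⟩` -/
theorem c_cases {c : G} (hc : c * F t = F t * c) {x y : M64} (hx : InR x) (hy : InR y) (h : c * F x * c⁻¹ = F y) :
    ∃ n m₁ m₂, NR F K n ∧ Act F n m₁ m₂ ∧ (n * F x * n⁻¹ = F y ∨ n * F (s * x * s⁻¹) * n⁻¹ = F y) := by
  rcases C.mem_or c hc with h1 | h1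
  · obtain ⟨n, hn, e⟩ := exists_NR C hx hy h1 h
    obtain ⟨m₁, m₂, ha⟩ := exists_act C hn
    exact ⟨n, m₁, m₂, hn, ha, Or.inl e⟩
  · have e : c * F s * F (s * x * s⁻¹) * (c * F s)⁻¹ = F y := by
      rw [map_mul, map_mul, map_inv, ← h]
      have h2 : F s * F s = 1 := by rw [← map_mul, show s * s = 1 by decide +kernel, map_one]
      have h3 : (F s)⁻¹ = F s := inv_eq_of_mul_eq_one_left h2
      calc c * F s * (F s * F x * (F s)⁻¹) * (c * F s)⁻¹ = c * (F s * F s) * F x * ((F s)⁻¹ * (F s)⁻¹) * c⁻¹ := by group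
        _ = c * F x * c⁻¹ := by rw [h3, h2]; group
    obtain ⟨n, hn, e⟩ := exists_NR C (s_R_conj x hx) hy h1 e
    obtain ⟨m₁, m₂, ha⟩ := exists_act C hn
    exact ⟨n, m₁, m₂, hn, ha, Or.inr e⟩

/-- `C(t)`-conjugacy of the involutions of `R`. -/
theorem dd_conj {c : G} (hc : c * F t = F t * c) {a b a' b' : Fin 3}
    (h : c * F (dd a b) * c⁻¹ = F (dd a' b') ∨ c * F (dd a b) * c⁻¹ = F (t * dd a' b')) :
    ∃ m₁ m₂, Y F K m₁ m₂ ∧ ((a + m₁ = a' ∧ b + m₂ = b') ∨ (b + m₁ = a' ∧ a + m₂ = b')) := by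
  have key : ∃ y, InR y ∧ c * F (dd a b) * c⁻¹ = F y ∧ (y = dd a' b' ∨ y = t * dd a' b') := by
    rcases h with h | h
    · exact ⟨_, R_dd _ _, h, Or.inl rfl⟩
    · exact ⟨_, TwoY.R_mul _ _ TwoY.R_t (R_dd _ _), h, Or.inr rfl⟩
  obtain ⟨y, hy, hcy, hy2⟩ := key
  obtain ⟨n, m₁, m₂, hn, ha, h1⟩ := c_cases C hc (R_dd a b) hy hcy
  have hnt := C.comm n hn.1
  refine ⟨m₁, m₂, ⟨n, hn, ha⟩, ?_⟩
  have fin : ∀ u v : Fin 3, (F y = F (dd u v) ∨ F y = F (t * dd u v)) → u = a' ∧ v = b' := by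
    intro u v huv
    apply dd_inj
    rcases huv with h2 | h2 <;> have h3 := C.mod.inj h2 <;> rcases hy2 with h4 | h4 <;> rw [h4] at h3
    · exact Or.inl h3.symm
    · exact Or.inr h3.symm
    · right; rw [h3, tt_mul]
    · left; exact (mul_left_cancel h3).symm
  rcases h1 with h1 | h1
  · left
    apply fin
    rw [← h1]
    exact act_dd C hnt ha a b
  · right
    apply fin
    rw [← h1, s_dd]
    exact act_dd C hnt ha b a

/-- `C(t)`-conjugacy of the roots of `t`. -/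
theorem root_conj {c : G} (hc : c * F t = F t * c) {l : Fin 3} {y : M64} (h : c * F (q1 l) * c⁻¹ = F y) :
    ∃ m₁ m₂, Y F K m₁ m₂ ∧ ((y = q1 (l + m₁) ∨ y = t * q1 (l + m₁)) ∨ (y = q2 (l + m₂) ∨ y = t * q2 (l + m₂))) := by
  have hyy : y * y = t := TwoY.sq_conj C hc (q1_sq l) h
  have hy : InR y := by
    have : ∀ y : M64, y * y = t → InR y := by decide +kernel
    exact this y hyy
  obtain ⟨n, m₁, m₂, hn, ha, h1⟩ := c_cases C hc (TwoY.R_q1 l) hy h
  refine ⟨m₁, m₂, ⟨n, hn, ha⟩, ?_⟩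
  rcases h1 with h1 | h1
  · left
    rcases ha.1 l with h2 | h2 <;> rw [h1] at h2
    · exact Or.inl (C.mod.inj h2)
    · exact Or.inr (C.mod.inj h2)
  · right
    rw [s_conj_q1] at h1
    rcases ha.2 l with h2 | h2 <;> rw [h1] at h2
    · exact Or.inl (C.mod.inj h2)
    · exact Or.inr (C.mod.inj h2)

/-- If `Y` is trivial, no involution of `R` outside `A` is conjugate to `t`. -/
theorem T_off (hY : ∀ m₁ m₂, Y F K m₁ m₂ → m₁ = 0 ∧ m₂ = 0) {v : M64} (hv : InR v) (hvA : ¬ InA v) :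
    ¬ IsConj (F t) (F v) := by
  intro h
  obtain ⟨h1, h2⟩ := sq_of_T C h
  have hvt : v ≠ t := fun e => hvA (e ▸ A_t)
  obtain ⟨c, hc, l, hcl⟩ := off C hv hvt h
  obtain ⟨a, b, hab⟩ := dd_cases v hv h1 h2 hvt
  have hab' : a ≠ b := by
    apply dd_not_A
    intro h3
    apply hvA
    rcases hab with h4 | h4 <;> rw [h4]
    · exact h3
    · exact A_mul _ _ A_t h3
  have h3 : c * F (dd a b) * c⁻¹ = F (dd l l) ∨ c * F (dd a b) * c⁻¹ = F (t * dd l l) := by
    rcases hab with h4 | h4 <;> rw [h4] at hcl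
    · exact hcl
    · have h5 := conj_mod C hc (x := t * dd a b) (x' := dd a b) (y := dd l l) (Or.inr (by rw [tt_mul])) hcl
      exact h5
  obtain ⟨m₁, m₂, hm, h4⟩ := dd_conj C hc h3
  obtain ⟨rfl, rfl⟩ := hY _ _ hm
  simp only [add_zero] at h4
  rcases h4 with ⟨h5, h6⟩ | ⟨h5, h6⟩
  · exact hab' (h5.trans h6.symm)
  · exact hab' (h6.trans h5.symm)

end

end Cfsg.Agent.SylowSp4.TwoOff
end

private theorem dce_4d983c708735 : _root_.True := by
  try have : _root_.True := by simp only [_root_.Cfsg.Agent.SylowSp4.TwoBase.ee.eq_1]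
  try have : _root_.True := by simp only [_root_.Cfsg.Agent.SylowSp4.TwoOff.dd.eq_1]
  exact _root_.True.intro
end

-- part: SylowSp4/TwoQ
section
prune_inst 0x303045007d22020000180000220020203000000200430001d1600502094f5003204726017a300e1089109cf06808002001100109422800000a000e004004012080a35200b37cad0436000f80a802000000000000000000000000000000041000000000000
set_option linter.all false
open scoped Cfsg.Agent.FastGrp

/-!
# Type `PSp₄(3)`, case Q: `Y` is antidiagonal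

* `one_one` : if `Y 1 1` then `t ~ ee a` for one `a` implies it for all;
* `triv_one`, `triv_two` : `Y` trivial is impossible in both patterns (transfer);
* `anti` : hence `Y` is antidiagonal.
-/

set_option autoImplicit false
set_option linter.unusedSectionVars false

namespace Cfsg.Agent.SylowSp4.TwoQ

open Subgroup Cfsg.Agent.SylowSp4.AltModel Cfsg.Agent.SylowSp4.TwoBase Cfsg.Agent.SylowSp4.TwoCtx
open Cfsg.Agent.SylowSp4.TwoY Cfsg.Agent.SylowSp4.TwoParity Cfsg.Agent.SylowSp4.TwoOff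

/-! ### the model -/

/-- the character with kernel `⟨c_l⟩ …` -/
def ch : Fin 3 → M64 → ZMod 2 := ![fun x => x.b + x.d, fun x => x.a + x.c, fun x => x.a + x.b + x.c + x.d]

/-- the character with kernel `R` -/
def cm (x : M64) : ZMod 2 := if x.m then 1 else 0

theorem ch_mul : ∀ l, ∀ x y : M64, ch l (x * y) = ch l x + ch l y := by
  rintro l ⟨a, b, c, d, e, m⟩ y
  fin_cases l <;> cases m
  · show (b + y.b) + (d + y.d) = (b + d) + (y.b + y.d); ring
  · show (b + y.d) + (d + y.b) = (b + d) + (y.b + y.d); ring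
  · show (a + y.a) + (c + y.c) = (a + c) + (y.a + y.c); ring
  · show (a + y.c) + (c + y.a) = (a + c) + (y.a + y.c); ring
  · show (a + y.a) + (b + y.b) + (c + y.c) + (d + y.d) = (a + b + c + d) + (y.a + y.b + y.c + y.d); ring
  · show (a + y.c) + (b + y.d) + (c + y.a) + (d + y.b) = (a + b + c + d) + (y.a + y.b + y.c + y.d); ring
theorem cm_mul : ∀ x y : M64, cm (x * y) = cm x + cm y := by
  rintro ⟨a, b, c, d, e, m⟩ ⟨a', b', c', d', e', m'⟩
  cases m <;> cases m' <;> rfl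
theorem ch_one : ∀ l, ch l 1 = 0 := by decide +kernel
theorem cm_one : cm 1 = 0 := by decide +kernel
theorem ch_inv : ∀ l, ∀ x : M64, ch l x⁻¹ = ch l x := by decide +kernel
theorem cm_inv : ∀ x : M64, cm x⁻¹ = cm x := by decide +kernel

theorem z2 : ∀ x y : ZMod 2, x = y ∨ x = y + 1 := by decide

/-- `{(p, q) s ^ m : ch l (p q) = ε m}` -/
def Ms (l : Fin 3) (ε : Bool) : Subgroup M64 where
  carrier := {x | ch l x = if ε then cm x else 0}
  mul_mem' {x y} hx hy := by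
    have hx' : ch l x = if ε then cm x else 0 := hx
    have hy' : ch l y = if ε then cm y else 0 := hy
    show ch l (x * y) = if ε then cm (x * y) else 0
    rw [ch_mul, cm_mul, hx', hy']
    cases ε <;> simp
  one_mem' := by
    show ch l 1 = if ε then cm 1 else 0
    rw [ch_one, cm_one]
    cases ε <;> simp
  inv_mem' {x} hx := by
    have hx' : ch l x = if ε then cm x else 0 := hx
    show ch l x⁻¹ = if ε then cm x⁻¹ else 0
    rw [ch_inv, cm_inv, hx']

theorem mem_Ms {l : Fin 3} {ε : Bool} {x : M64} : x ∈ Ms l ε ↔ ch l x = if ε then cm x else 0 := Iff.rfl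

theorem Ms_xor : ∀ (l : Fin 3) (ε : Bool) (x : M64),
    (ch l (x * q1 (l + 1)) = (if ε then cm (x * q1 (l + 1)) else 0) ∧ ¬ ch l x = if ε then cm x else 0) ∨
      ((ch l x = if ε then cm x else 0) ∧ ¬ ch l (x * q1 (l + 1)) = if ε then cm (x * q1 (l + 1)) else 0) := by
  decide +kernel

theorem root_not : ∀ (l : Fin 3) (ε : Bool) (y : M64), ((y = q1 (l + 1) ∨ y = t * q1 (l + 1)) ∨
    (y = q2 (l + 1) ∨ y = t * q2 (l + 1))) → ¬ ch l y = if ε then cm y else 0 := by decide +kernel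

theorem sq_not_one : ∀ (l : Fin 3) (y : M64), (y * y = ee l ∨ y * y = t * ee l) → ¬ ch l y = cm y := by
  decide +kernel

theorem sq_not_two : ∀ (l a : Fin 3) (y : M64), a ≠ l → (y * y = ee a ∨ y * y = t * ee a) → ¬ ch l y = 0 := by
  decide +kernel

theorem A_in : ∀ (l : Fin 3) (x : M64), InA x → ch l x = 0 := by decide +kernel

theorem in_one : ∀ (l : Fin 3) (x : M64), (x = t ∨ x = ee l ∨ x = t * ee l) → ch l x = cm x := by decide +kernel

theorem A_cases : ∀ x, InA x → x = 1 ∨ x = t ∨ (∃ a, x = ee a ∨ x = t * ee a) ∨ (∃ g, g * s * g⁻¹ = x) ∨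
    (∃ g, g * (t * s) * g⁻¹ = x) := by decide +kernel

theorem off_R : ∀ v : M64, v * v = 1 → ¬ InA v → InR v := by decide +kernel

theorem sq_cases : ∀ x : M64, x * x = 1 ∨ x * x = t ∨ ∃ a, x * x = ee a ∨ x * x = t * ee a := by decide +kernel

section

variable {G : Type*} [Group G] [Finite G] {P : Sylow 2 G} {F : M64 →* G} {K : Subgroup G} (C : Ctx P F K)

include C

theorem T_ee (a : Fin 3) : IsConj (F t) (F (t * ee a)) ↔ IsConj (F t) (F (ee a)) :=
  ⟨fun h => h.trans (t_dd C a a).symm, fun h => h.trans (t_dd C a a)⟩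

theorem T_s {x : M64} (h : ∃ g, g * s * g⁻¹ = x) : IsConj (F s) (F x) := by
  obtain ⟨g, rfl⟩ := h
  exact isConj_iff.2 ⟨F g, by rw [map_mul, map_mul, map_inv]⟩

theorem T_ts {x : M64} (h : ∃ g, g * (t * s) * g⁻¹ = x) : IsConj (F (t * s)) (F x) := by
  obtain ⟨g, rfl⟩ := h
  exact isConj_iff.2 ⟨F g, by rw [map_mul F (g * (t * s)), map_mul F g, map_inv]⟩

/-- `Y 1 1` cycles the `ee a` -/
theorem one_one (h : Y F K 1 1) {a : Fin 3} (ha : IsConj (F t) (F (ee a))) (b : Fin 3) :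
    IsConj (F t) (F (ee b)) := by
  obtain ⟨n, hn, hact⟩ := h
  have step : ∀ a, IsConj (F t) (F (ee a)) → IsConj (F t) (F (ee (a + 1))) := by
    intro a ha
    rcases act_dd C (C.comm n hn.1) hact a a with h1 | h1
    · exact ha.trans (isConj_iff.2 ⟨n, h1⟩)
    · exact (T_ee C _).1 (ha.trans (isConj_iff.2 ⟨n, h1⟩))
  have h1 := step a ha
  have h2 := step _ h1
  have key : ∀ a b : Fin 3, b = a ∨ b = a + 1 ∨ b = a + 1 + 1 := by decide
  rcases key a b with rfl | rfl | rfl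
  · exact ha
  · exact h1
  · exact h2

/-- if `Y` is trivial the roots of `t` not in `⟨c_l⟩` stay outside `Ms` -/
theorem root_out (hY : ∀ m₁ m₂, Y F K m₁ m₂ → m₁ = 0 ∧ m₂ = 0) {l : Fin 3} {ε : Bool} {g : G} {x : M64}
    (hg : g * F (q1 (l + 1)) * g⁻¹ = F x) (hx : x * x = t) : x ∉ Ms l ε := by
  have hgt : g * F t = F t * g := by
    have h1 : g * F t * g⁻¹ = F t := by
      calc g * F t * g⁻¹ = (g * F (q1 (l + 1)) * g⁻¹) * (g * F (q1 (l + 1)) * g⁻¹) := by
            rw [← q1_sq (l + 1), map_mul]; group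
        _ = F t := by rw [hg, ← map_mul, hx]
    calc g * F t = (g * F t * g⁻¹) * g := by group
      _ = F t * g := by rw [h1]
  obtain ⟨m₁, m₂, hm, h1⟩ := root_conj C hgt hg
  obtain ⟨rfl, rfl⟩ := hY _ _ hm
  simp only [add_zero] at h1
  rw [mem_Ms]
  exact root_not l ε x h1

theorem T_sq {g : G} {l : Fin 3} {x : M64} (hg : g * F (q1 l) * g⁻¹ = F x) : IsConj (F t) (F (x * x)) := by
  refine isConj_iff.2 ⟨g, ?_⟩
  rw [map_mul, ← hg, ← q1_sq l, map_mul]
  group

/-- pattern 1, `Y` trivial -/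
theorem triv_one (hG : ∀ H : Subgroup G, H.index ≠ 2) (hY : ∀ m₁ m₂, Y F K m₁ m₂ → m₁ = 0 ∧ m₂ = 0) {l : Fin 3}
    (hl : ∀ b, b ≠ l → ¬ IsConj (F t) (F (ee b))) (hs : ¬ IsConj (F t) (F s)) (hts : ¬ IsConj (F t) (F (t * s))) :
    False := by
  refine transfer_false C hG (M := Ms l true) (relIndex_map C (a := q1 (l + 1)) (Ms_xor l true)) (q1_sq (l + 1)) ?_ ?_
  · intro x hx
    obtain ⟨h1, h2⟩ := sq_of_T C hx
    rw [mem_Ms, if_pos rfl]
    by_cases hA : InA x
    · apply in_one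
      rcases A_cases x hA with h3 | h3 | ⟨a, h3⟩ | h3 | h3
      · exact absurd h3 h2
      · exact Or.inl h3
      · right
        have ha : a = l := by
          by_contra hal
          apply hl a hal
          rcases h3 with h3 | h3 <;> rw [h3] at hx
          · exact hx
          · exact (T_ee C a).1 hx
        rw [← ha]
        exact h3
      · exact absurd (hx.trans (T_s C h3).symm) hs
      · exact absurd (hx.trans (T_ts C h3).symm) hts
    · exact absurd hx (T_off C hY (off_R x h1 hA) hA)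
  · intro x hx
    obtain ⟨g, hg⟩ := isConj_iff.1 hx
    rcases sq_cases x with h1 | h1 | ⟨a, h1⟩
    · exact absurd (T_sq C hg) (by rw [h1]; exact fun h => (sq_of_T C h).2 rfl)
    · exact root_out C hY hg h1
    · have h2 := T_sq C hg
      have ha : a = l := by
        by_contra hal
        apply hl a hal
        rcases h1 with h1 | h1 <;> rw [h1] at h2
        · exact h2
        · exact (T_ee C a).1 h2
      rw [mem_Ms, if_pos rfl]
      rw [ha] at h1
      exact sq_not_one l x h1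

/-- pattern 2, `Y` trivial -/
theorem triv_two (hG : ∀ H : Subgroup G, H.index ≠ 2) (hY : ∀ m₁ m₂, Y F K m₁ m₂ → m₁ = 0 ∧ m₂ = 0) {l : Fin 3}
    (hl : ¬ IsConj (F t) (F (ee l))) : False := by
  refine transfer_false C hG (M := Ms l false) (relIndex_map C (a := q1 (l + 1)) (Ms_xor l false)) (q1_sq (l + 1)) ?_ ?_
  · intro x hx
    obtain ⟨h1, h2⟩ := sq_of_T C hx
    rw [mem_Ms, if_neg (by decide)]
    by_cases hA : InA x
    · exact A_in l x hA
    · exact absurd hx (T_off C hY (off_R x h1 hA) hA)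
  · intro x hx
    obtain ⟨g, hg⟩ := isConj_iff.1 hx
    rcases sq_cases x with h1 | h1 | ⟨a, h1⟩
    · exact absurd (T_sq C hg) (by rw [h1]; exact fun h => (sq_of_T C h).2 rfl)
    · exact root_out C hY hg h1
    · have h2 := T_sq C hg
      have ha : a ≠ l := by
        rintro rfl
        apply hl
        rcases h1 with h1 | h1 <;> rw [h1] at h2
        · exact h2
        · exact (T_ee C a).1 h2
      rw [mem_Ms, if_neg (by decide)]
      exact sq_not_two l a x ha h1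

/-- In case Q, `Y` is antidiagonal. -/
theorem anti (hY : ¬ ∀ m₁ m₂, Y F K m₁ m₂ → m₁ = 0 ∧ m₂ = 0) {a b : Fin 3} (ha : IsConj (F t) (F (ee a)))
    (hb : ¬ IsConj (F t) (F (ee b))) : Y F K 1 2 ∧ ∀ m₁ m₂, Y F K m₁ m₂ → m₁ + m₂ = 0 := by
  rcases Y_cases C with h | h | h | h
  · exact absurd h hY
  · exact absurd (one_one C h.1 ha b) hb
  · exact h
  · exact absurd (one_one C (h 1 1) ha b) hb

end

end Cfsg.Agent.SylowSp4.TwoQ
end

-- part: SylowSp4/TwoQThree
section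
set_option linter.all false
open scoped Cfsg.Agent.FastGrp

-- part: SylowSp4/TwoP
section
/-!
# Fusion for the type `PSp₄(3)`, case P: `t` is not conjugate to any `ee a`

* `ne_off` : `t` is not conjugate to an off-diagonal involution of `R`;
* `ne_ts` : if `t ~ s` then `t` is not conjugate to `t s`;
* `exists_cyc` : if `t ~ s`, an element of `N(A) ∩ C(t)` cycles `ee 0, ee 1, ee 2` modulo `t`;
* `exists_root` : in `C(t)` the element `q1 a` is conjugate to one of `q1 b, t q1 b, q2 b, t q2 b`, `a ≠ b`;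
* `closed` : if no off-diagonal involution of `R` is conjugate in `C(t)` to an `ee a`, `A` is strongly closed.
-/

set_option autoImplicit false

namespace Cfsg.Agent.SylowSp4.TwoP

open Subgroup Cfsg.Agent.SylowSp4.AltModel Cfsg.Agent.SylowSp4.TwoBase Cfsg.Agent.SylowSp4.TwoParity

/-! ### facts on the model -/

theorem sq_cases : ∀ x : M64, x * x = 1 ∨ x * x = t ∨ (∃ a, x * x = ee a) ∨ ∃ a, x * x = t * ee a := by
  (open scoped Cfsg.Agent.SylowSp4.Fast64 in decide +kernel)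

/-- an involution which is not in `A` is in `R` and commutes with a root of `t` -/
theorem off_root : ∀ v : M64, v * v = 1 → ¬ InA v → InR v ∧ ∃ x, x * v = v * x ∧ x * x = t := by (open scoped Cfsg.Agent.SylowSp4.Fast64 in decide +kernel)

theorem conj_t : ∀ x : M64, x * t * x⁻¹ = t := by decide +kernel

/-- the five points `t, s, t ee a s` -/
def p : Fin 5 → M64 := ![t, s, t * ee 0 * s, t * ee 1 * s, t * ee 2 * s]

theorem p_inj : ∀ i j, p i = p j → i = j := by decide +kernel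
theorem p_A : ∀ i, InA (p i) := by decide +kernel

/-- the four-group on the points -/
def v : Fin 4 → Fin 5 → Fin 5 := ![![0, 1, 2, 3, 4], ![0, 2, 1, 4, 3], ![0, 3, 4, 1, 2], ![0, 4, 3, 2, 1]]

theorem v_conj : ∀ x : M64, ∃ b, ∀ i, x * p i * x⁻¹ = p (v b i) := by (open scoped Cfsg.Agent.SylowSp4.Fast64 in decide +kernel)
theorem v_surj : ∀ b, ∃ x : M64, ∀ i, x * p i * x⁻¹ = p (v b i) := by (open scoped Cfsg.Agent.SylowSp4.Fast64 in decide +kernel)

theorem A_cases : ∀ x : M64, InA x → x = 1 ∨ (∃ i, x = p i) ∨ (∃ a, x = ee a ∨ x = t * ee a) ∨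
    ∃ i : Fin 5, i ≠ 0 ∧ x = t * p i := by decide +kernel

/-- the words -/
theorem words : ∀ f : Fin 5 → Fin 5, (∀ i j, f i = f j → i = j) → f 0 ≠ 0 →
    (∃ a, (f (v a (f 0)) = 0 ∧ ∀ b, ∃ i, f (v a (f i)) ≠ v b i)) ∨
    ∃ a c, (f (v c (f (v a (f 0)))) = 0 ∧ ∀ b, ∃ i, f (v c (f (v a (f i)))) ≠ v b i) := by
  have key : ∀ x0 : Fin 5, x0 ≠ 0 → ∀ x1, x1 ≠ x0 → ∀ x2, x2 ≠ x0 ∧ x2 ≠ x1 → ∀ x3, x3 ≠ x0 ∧ x3 ≠ x1 ∧ x3 ≠ x2 →
      ∀ x4, x4 ≠ x0 ∧ x4 ≠ x1 ∧ x4 ≠ x2 ∧ x4 ≠ x3 → (fun f : Fin 5 → Fin 5 =>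
        (∃ a, (f (v a (f 0)) = 0 ∧ ∀ b, ∃ i, f (v a (f i)) ≠ v b i)) ∨
        ∃ a c, (f (v c (f (v a (f 0)))) = 0 ∧ ∀ b, ∃ i, f (v c (f (v a (f i)))) ≠ v b i)) ![x0, x1, x2, x3, x4] := by
    decide +kernel
  intro f hf h0
  have n : ∀ i j, i ≠ j → f i ≠ f j := fun i j h e => h (hf i j e)
  have e : ![f 0, f 1, f 2, f 3, f 4] = f := by
    funext i
    fin_cases i <;> (conv_lhs => whnf) <;> (conv_rhs => whnf) <;> rfl
  have h := key (f 0) h0 (f 1) (n _ _ (by decide)) (f 2) ⟨n _ _ (by decide), n _ _ (by decide)⟩ (f 3)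
    ⟨n _ _ (by decide), n _ _ (by decide), n _ _ (by decide)⟩ (f 4)
    ⟨n _ _ (by decide), n _ _ (by decide), n _ _ (by decide), n _ _ (by decide)⟩
  rw [e] at h
  exact h

theorem p_mul : ∀ i j : Fin 5, i ≠ 0 → j ≠ 0 → i ≠ j → ∃ a, p i * p j = ee a ∨ p i * p j = t * ee a := by
  decide +kernel
theorem exists_ne : ∀ f : Fin 5 → Fin 5, (∀ i j, f i = f j → i = j) → ∃ i, i ≠ 0 ∧ f i ≠ 0 := fun f hf =>
  if h : f 1 = 0 then ⟨2, by decide, fun e => absurd (hf 1 2 (h.trans e.symm)) (by decide)⟩ else ⟨1, by decide, h⟩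
theorem q1_conj : ∀ a, ∃ x : M64, x * ee a * x⁻¹ = t * ee a := by decide +kernel
theorem p_conj : ∀ i : Fin 5, i ≠ 0 → (∃ x : M64, x * s * x⁻¹ = p i) ∧ ∃ x : M64, x * (t * s) * x⁻¹ = t * p i := by
  decide +kernel
theorem ee_facts : ∀ a, ee a * (t * ee a) = t := by decide +kernel
theorem add_two_two : ∀ a : Fin 3, a + 2 + 2 = a + 1 := by decide +kernel
theorem one_sq : (1 : M64) * 1 = 1 := by decide +kernel

/-- the maximal subgroup `{(p, q) s ^ m : p q ∈ ⟨c_b⟩}` -/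
def InM : Fin 3 → M64 → Prop := ![fun x => x.b = x.d, fun x => x.a = x.c, fun x => x.a + x.c = x.b + x.d]

instance : ∀ b, DecidablePred (InM b) := fun b x => by
  match b with
  | 0 => exact (inferInstance : Decidable (x.b = x.d))
  | 1 => exact (inferInstance : Decidable (x.a = x.c))
  | 2 => exact (inferInstance : Decidable (x.a + x.c = x.b + x.d))

open Cfsg.Agent.SylowSp4.Fast64 in
@[reducible] private noncomputable def fM (b : Fin 3) (x : M64) [Ev x] : Decidable (InM b x) := via (InM b) inferInstance x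

attribute [local instance 5000] fM in
theorem M_mul : ∀ b, ∀ x y : M64, InM b x → InM b y → InM b (x * y) := fun b x y hx =>
  (by (open scoped Cfsg.Agent.SylowSp4.Fast64 in decide +kernel) :
    ∀ b, ∀ x : M64, InM b x → ∀ y, InM b y → InM b (x * y)) b x hx y
theorem M_one : ∀ b, InM b 1 := by decide +kernel
theorem M_inv : ∀ b, ∀ x : M64, InM b x → InM b x⁻¹ := by decide +kernel
theorem M_xor : ∀ b, ∀ x : M64, (InM b (x * q1 (b + 1)) ∧ ¬ InM b x) ∨ (InM b x ∧ ¬ InM b (x * q1 (b + 1))) := by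
  decide +kernel
theorem M_q1 : ∀ a b, a ≠ b → ¬ InM b (q1 a) ∧ ¬ InM b (t * q1 a) := by decide +kernel
theorem M_t : ∀ b, InM b t := by decide +kernel
theorem M_p : ∀ b i, InM b (p i) := by decide +kernel
theorem root_M : ∀ b, ∀ x : M64, InM b x → x * x = t → x = q1 b ∨ x = t * q1 b ∨ x = q2 b ∨ x = t * q2 b := by
  decide +kernel
theorem root_t : ∀ a, q1 a * q1 a = t ∧ (t * q1 a) * (t * q1 a) = t := by decide +kernel

theorem q1_pow (a : Fin 3) (k : ℕ) :
    q1 a ^ k = 1 ∨ q1 a ^ k = t ∨ q1 a ^ k = q1 a ∨ q1 a ^ k = t * q1 a := by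
  induction k with
  | zero => left; exact pow_zero _
  | succ k ih =>
    rw [pow_succ]
    rcases ih with h | h | h | h
    · right; right; left; rw [h, one_mul]
    · right; right; right; rw [h]
    · right; left; rw [h, (root_t a).1]
    · left; rw [h, mul_assoc, (root_t a).1, tt]

/-- the maximal subgroup `{(p, q) s ^ m : p q ∈ ⟨c_b⟩}` -/
def Msub (b : Fin 3) : Subgroup M64 where
  carrier := {x | InM b x}
  mul_mem' {x y} hx hy := M_mul b x y hx hy
  one_mem' := M_one b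
  inv_mem' {x} hx := M_inv b x hx

section

variable {G : Type*} [Group G] {F : M64 →* G}

theorem isConj_F {x y : M64} (h : ∃ g, g * x * g⁻¹ = y) : IsConj (F x) (F y) := by
  obtain ⟨g, rfl⟩ := h
  exact isConj_iff.2 ⟨F g, by rw [map_mul, map_mul, map_inv]⟩

theorem tee (a : Fin 3) : IsConj (F (ee a)) (F (t * ee a)) := isConj_F (q1_conj a)

variable (hte : ∀ a, ¬ IsConj (F t) (F (ee a)))

include hte

theorem hte' (a : Fin 3) : ¬ IsConj (F t) (F (t * ee a)) := fun h => hte a (h.trans (tee a).symm)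

end

section

variable {G : Type*} [Group G] [Finite G] {P : Sylow 2 G} {F : M64 →* G} (M : Mod (P : Subgroup G) F)
  (hte : ∀ a, ¬ IsConj (F t) (F (ee a)))

include M hte

/-- a square of `P` conjugate to `t` is `t` -/
theorem eq_t_of_sq {x : M64} (h : IsConj (F t) (F (x * x))) : x * x = t := by
  rcases sq_cases x with h1 | h1 | ⟨a, h1⟩ | ⟨a, h1⟩
  · exfalso
    rw [h1, map_one] at h
    have h2 : F t = F 1 := by rw [map_one]; exact isConj_one_right.1 h.symm
    exact TwoBase.t_ne_one (M.inj h2)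
  · exact h1
  · rw [h1] at h; exact absurd h (hte a)
  · rw [h1] at h; exact absurd h (hte' hte a)

/-- if `g` conjugates a root of `t` into `P` then `g` commutes with `t` -/
theorem comm_of_root {g : G} {x y : M64} (hx : x * x = t) (h : g * F x * g⁻¹ = F y) : g * F t = F t * g ∧ y * y = t := by
  have h1 : g * F t * g⁻¹ = F (y * y) := by
    rw [← hx]; exact conj_mul h h
  have h2 := eq_t_of_sq M hte (isConj_iff.2 ⟨g, h1⟩)
  rw [h2] at h1
  refine ⟨?_, h2⟩
  calc g * F t = g * F t * g⁻¹ * g := by group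
    _ = F t * g := by rw [h1]

/-- `t` is not conjugate to an involution outside `A` -/
theorem ne_off {w : M64} (hw : w * w = 1) (hwA : ¬ InA w) : ¬ IsConj (F t) (F w) := by
  intro hc
  obtain ⟨-, x, hxw, hx⟩ := off_root w hw hwA
  obtain ⟨g, hg⟩ := isConj_iff.1 hc.symm
  obtain ⟨g, hg, hC⟩ := Extremal.exists_conj_of_central P (fun y hy => t_comm M hy) ⟨g, hg⟩
  obtain ⟨y, hy⟩ := exists_of_mem M (hC (F x) (mem M x) (by rw [← map_mul, ← map_mul, hxw]))
  have h1 := (comm_of_root M hte hx hy.symm).1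
  have h2 : F w = F t := by
    calc F w = g⁻¹ * (g * F w * g⁻¹) * g := by group
      _ = g⁻¹ * (F t * g) := by rw [hg]; group
      _ = F t := by rw [← h1]; group
  rw [M.inj h2] at hwA
  exact hwA A_t

variable (hts : IsConj (F t) (F s))

include hts

theorem exists_n : ∃ n, NA F n ∧ n * F t * n⁻¹ = F s := by
  obtain ⟨g, hg⟩ := isConj_iff.1 hts
  obtain ⟨n, -, h1, h2⟩ := exists_NA M ⊤ (fun _ _ => mem_top _) A_t A_s (mem_top g) hg
  exact ⟨n, h1, h2⟩

theorem ne_ts : ¬ IsConj (F t) (F (t * s)) := by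
  intro htts
  obtain ⟨n, hn, hns⟩ := exists_n M hte hts
  have key : ∀ x : M64, InA x → ¬ IsConj (F t) (F x) → ∃ y, InR y ∧ n * F x * n⁻¹ = F y := by
    intro x hx hxt
    obtain ⟨y, hy, hxy⟩ := hn x hx
    have hc : IsConj (F x) (F y) := isConj_iff.2 ⟨n, hxy⟩
    refine ⟨y, ?_, hxy⟩
    rcases A_cases y hy with rfl | ⟨i, rfl⟩ | ⟨a, rfl | rfl⟩ | ⟨i, hi, rfl⟩
    · decide +kernel
    · exfalso
      apply hxt
      by_cases hi : i = 0
      · rw [hi] at hc; exact hc.symm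
      · exact (hts.trans (isConj_F (p_conj i hi).1)).trans hc.symm
    · exact R_ee a
    · exact R_tee a
    · exact absurd ((htts.trans (isConj_F (p_conj i hi).2)).trans hc.symm) hxt
  obtain ⟨y, hy, h1⟩ := key (ee 0) (A_ee 0) (hte 0)
  obtain ⟨y', hy', h2⟩ := key (t * ee 0) (A_mul _ _ A_t (A_ee 0)) (hte' hte 0)
  have h3 := conj_mul h1 h2
  rw [ee_facts, hns] at h3
  have h4 := M.inj h3
  exact not_R_s (h4 ▸ R_mul y y' hy hy')

theorem p_of_conj {y : M64} (hy : InA y) (h : IsConj (F t) (F y)) : ∃ i, y = p i := by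
  rcases A_cases y hy with rfl | ⟨i, rfl⟩ | ⟨a, rfl | rfl⟩ | ⟨i, hi, rfl⟩
  · exfalso
    rw [map_one] at h
    have h2 : F t = F 1 := by rw [map_one]; exact isConj_one_right.1 h.symm
    exact TwoBase.t_ne_one (M.inj h2)
  · exact ⟨i, rfl⟩
  · exact absurd h (hte a)
  · exact absurd h (hte' hte a)
  · exact absurd (h.trans (isConj_F (p_conj i hi).2).symm) (ne_ts M hte hts)

theorem conj_p (i : Fin 5) : IsConj (F t) (F (p i)) := by
  by_cases hi : i = 0
  · rw [hi]; exact IsConj.refl _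
  · exact hts.trans (isConj_F (p_conj i hi).1)

omit hte hts in
theorem relIndex_M (b : Fin 3) : ((Msub b).map F).relIndex (P : Subgroup G) = 2 := by
  have hm : ∀ x : M64, F x ∈ (Msub b).map F ↔ InM b x := by
    intro x
    rw [Subgroup.mem_map_iff_mem M.inj]
    rfl
  rw [Subgroup.relIndex, Subgroup.index_eq_two_iff]
  refine ⟨⟨F (q1 (b + 1)), mem M _⟩, ?_⟩
  rintro ⟨g, hg⟩
  obtain ⟨x, rfl⟩ := exists_of_mem M hg
  rw [Subgroup.mem_subgroupOf, Subgroup.mem_subgroupOf]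
  change Xor (F x * F (q1 (b + 1)) ∈ (Msub b).map F) (F x ∈ (Msub b).map F)
  rw [← map_mul, hm, hm]
  exact M_xor b x

/-- the `t`-type involutions of `P` -/
theorem p_of_conj' {y : M64} (h : IsConj (F t) (F y)) : ∃ i, y = p i := by
  have hy : y * y = 1 := by
    obtain ⟨g, hg⟩ := isConj_iff.1 h
    apply M.inj
    rw [map_mul, map_one, ← hg]
    calc g * F t * g⁻¹ * (g * F t * g⁻¹) = g * (F t * F t) * g⁻¹ := by group
      _ = 1 := by rw [← map_mul, tt, map_one]; group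
  by_cases hA : InA y
  · exact p_of_conj M hte hts hA h
  · exact absurd h (ne_off M hte hy hA)

/-- in `C(t)` the root `q1 a` of `t` is conjugate to a root in `⟨c_b⟩` -/
theorem exists_root (hG : ∀ H : Subgroup G, H.index ≠ 2) {a b : Fin 3} (hab : a ≠ b) :
    ∃ c : G, c * F t = F t * c ∧ ∃ x : M64, c * F (q1 a) * c⁻¹ = F x ∧
      (x = q1 b ∨ x = t * q1 b ∨ x = q2 b ∨ x = t * q2 b) := by
  have hm : ∀ x : M64, F x ∈ (Msub b).map F ↔ InM b x := by
    intro x
    rw [Subgroup.mem_map_iff_mem M.inj]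
    rfl
  obtain ⟨V, hV⟩ := Extremal.exists_transfer P ((Msub b).map F) (relIndex_M M b)
  have h1 : ¬ ∀ (k : ℕ) (g : G), g * F (q1 a) ^ k * g⁻¹ ∈ (P : Subgroup G) →
      (g * F (q1 a) ^ k * g⁻¹ ∈ (Msub b).map F ↔ F (q1 a) ^ k ∈ (Msub b).map F) := by
    intro h2
    have h3 := (hV _ (mem M (q1 a)) h2).1 (Extremal.char_trivial hG V _)
    exact (M_q1 a b hab).1 ((hm _).1 h3)
  push Not at h1
  obtain ⟨k, g, hgP, h2⟩ := h1
  obtain ⟨y, hy⟩ := exists_of_mem M hgP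
  rw [← hy, hm, ← map_pow, hm] at h2
  rw [← map_pow] at hy
  -- powers of a root
  have hcases := q1_pow a k
  have hs : ∀ z : M64, z * z = t → q1 a ^ k = z → (z = q1 a ∨ z = t * q1 a) →
      ∃ c : G, c * F t = F t * c ∧ ∃ x : M64, c * F (q1 a) * c⁻¹ = F x ∧
      (x = q1 b ∨ x = t * q1 b ∨ x = q2 b ∨ x = t * q2 b) := by
    intro z hz hkz hza
    rw [hkz] at hy h2
    obtain ⟨hgt, hyt⟩ := comm_of_root M hte hz hy.symm
    have hyM : InM b y := by
      have hnz : ¬ InM b z := by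
        rcases hza with rfl | rfl
        · exact (M_q1 a b hab).1
        · exact (M_q1 a b hab).2
      rcases h2 with ⟨h3, -⟩ | ⟨-, h3⟩
      · exact h3
      · exact absurd h3 hnz
    have hr := root_M b y hyM hyt
    rcases hza with rfl | rfl
    · exact ⟨g, hgt, y, hy.symm, hr⟩
    · refine ⟨g, hgt, t * y, ?_, ?_⟩
      · have h3 := conj_mul (fix_t hgt) hy.symm
        rwa [← mul_assoc, tt, one_mul] at h3
      · rcases hr with h | h | h | h
        · right; left; rw [h]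
        · left; rw [h, ← mul_assoc, tt, one_mul]
        · right; right; right; rw [h]
        · right; right; left; rw [h, ← mul_assoc, tt, one_mul]
  rcases hcases with h3 | h3 | h3 | h3
  · exfalso
    rw [h3, map_one, mul_one, mul_inv_cancel] at hy
    rw [← map_one F] at hy
    have h4 := M.inj hy
    rw [h3, h4] at h2
    rcases h2 with ⟨h5, h6⟩ | ⟨h5, h6⟩
    · exact h6 h5
    · exact h5 h6
  · exfalso
    rw [h3] at hy h2
    obtain ⟨i, rfl⟩ := p_of_conj' M hte hts (isConj_iff.2 ⟨g, hy.symm⟩)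
    rcases h2 with ⟨h5, h6⟩ | ⟨h5, h6⟩
    · exact h6 (M_t b)
    · exact h5 (M_p b i)
  · exact hs _ (root_t a).1 h3 (Or.inl rfl)
  · exact hs _ (root_t a).2 h3 (Or.inr rfl)

/-- the permutation of the five points -/
theorem exists_perm : ∃ n, NA F n ∧ ∃ f : Fin 5 → Fin 5, (∀ i j, f i = f j → i = j) ∧ f 0 ≠ 0 ∧
    ∀ i, n * F (p i) * n⁻¹ = F (p (f i)) := by
  obtain ⟨n, hn, hns⟩ := exists_n M hte hts
  have h1 : ∀ i, ∃ j, n * F (p i) * n⁻¹ = F (p j) := by
    intro i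
    obtain ⟨y, hy, h2⟩ := hn (p i) (p_A i)
    obtain ⟨j, rfl⟩ := p_of_conj M hte hts hy ((conj_p M hte hts i).trans (isConj_iff.2 ⟨n, h2⟩))
    exact ⟨j, h2⟩
  choose f hf using h1
  refine ⟨n, hn, f, ?_, ?_, hf⟩
  · intro i j hij
    apply p_inj
    apply M.inj
    have h2 := hf i
    rw [hij, ← hf j] at h2
    exact mul_left_cancel (mul_right_cancel h2)
  · intro h0
    have h2 := hf 0
    rw [h0] at h2
    have h3 : F t = F s := by
      rw [← hns]; exact h2.symm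
    exact absurd (M.inj h3) (by decide +kernel)

theorem ts_conj : ∃ a, IsConj (F (t * s)) (F (ee a)) := by
  obtain ⟨n, hn, f, hf, hf0, h⟩ := exists_perm M hte hts
  obtain ⟨i, hi, hfi⟩ := exists_ne f hf
  have hne : f 0 ≠ f i := fun h1 => hi (hf _ _ h1).symm
  obtain ⟨a, ha⟩ := p_mul (f 0) (f i) hf0 hfi hne
  have h1 : IsConj (F (t * s)) (F (p 0 * p i)) := isConj_F (p_conj i hi).2
  have h2 : IsConj (F (p 0 * p i)) (F (p (f 0) * p (f i))) := isConj_iff.2 ⟨n, conj_mul (h 0) (h i)⟩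
  refine ⟨a, (h1.trans h2).trans ?_⟩
  rcases ha with ha | ha
  · rw [ha]
  · rw [ha]; exact (tee a).symm

variable (hnf : ∀ c : G, c * F t = F t * c → ∀ x y : M64, x * x = 1 → ¬ InR x → InR y → c * F x * c⁻¹ ≠ F y)

include hnf

/-- an element of `N(A) ∩ C(t)` cycles `ee 0, ee 1, ee 2` modulo `t` -/
theorem exists_cyc : ∃ g, NA F g ∧ g * F t = F t * g ∧ ∀ a, Mo F g a (a + 1) := by
  obtain ⟨n, hn, f, hf, hf0, h⟩ := exists_perm M hte hts
  have key : ∀ (g : G) (w : Fin 5 → Fin 5), NA F g → (∀ i, g * F (p i) * g⁻¹ = F (p (w i))) → w 0 = 0 →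
      (∀ b, ∃ i, w i ≠ v b i) → ∃ g, NA F g ∧ g * F t = F t * g ∧ ∀ a, Mo F g a (a + 1) := by
    intro g w hg hw hw0 hwv
    have hgt : g * F t = F t * g := by
      have h1 := hw 0
      rw [hw0] at h1
      calc g * F t = (g * F t * g⁻¹) * g := by group
        _ = F t * g := by rw [show g * F t * g⁻¹ = F t from h1]
    have h2 : ∀ a, ¬ Mo F g a a := by
      intro a ha
      obtain ⟨σ, hσ⟩ := parity M hnf hg hgt ha
      obtain ⟨b, hb⟩ := v_conj σ
      obtain ⟨i, hi⟩ := hwv b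
      apply hi
      have h3 := hσ (p i) (p_A i)
      rw [hw i, hb i] at h3
      exact p_inj _ _ (M.inj h3)
    rcases cycle M hnf hg hgt h2 with h3 | h3
    · exact ⟨g, hg, hgt, h3⟩
    · refine ⟨g * g, NA_mul hg hg, comm_mul hgt hgt, fun a => ?_⟩
      have h4 := mo_mul hgt (h3 a) (h3 (a + 2))
      rwa [add_two_two] at h4
  have hF : ∀ b : Fin 4, ∃ x : M64, ∀ i, F x * F (p i) * (F x)⁻¹ = F (p (v b i)) := by
    intro b
    obtain ⟨x, hx⟩ := v_surj b
    exact ⟨x, fun i => by rw [conj_F, hx]⟩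
  rcases words f hf hf0 with ⟨a, h1, h2⟩ | ⟨a, c, h1, h2⟩
  · obtain ⟨x, hx⟩ := hF a
    refine key (n * (F x * n)) (fun i => f (v a (f i))) (NA_mul hn (NA_mul (NA_F x) hn)) (fun i => ?_) h1 h2
    exact conj_trans (conj_trans (h i) (hx _)) (h _)
  · obtain ⟨x, hx⟩ := hF a
    obtain ⟨y, hy⟩ := hF c
    refine key (n * (F y * (n * (F x * n)))) (fun i => f (v c (f (v a (f i)))))
      (NA_mul hn (NA_mul (NA_F y) (NA_mul hn (NA_mul (NA_F x) hn)))) (fun i => ?_) h1 h2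
    exact conj_trans (conj_trans (conj_trans (conj_trans (h i) (hx _)) (h _)) (hy _)) (h _)

theorem ee_conj (a b : Fin 3) : IsConj (F (ee a)) (F (ee b)) := by
  obtain ⟨g, -, -, hg⟩ := exists_cyc M hte hts hnf
  have h1 : ∀ a, IsConj (F (ee a)) (F (ee (a + 1))) := by
    intro a
    rcases hg a with h | h
    · exact isConj_iff.2 ⟨g, h⟩
    · exact (isConj_iff.2 ⟨g, h⟩ : IsConj _ _).trans (tee _).symm
  have h2 : ∀ a, IsConj (F (ee a)) (F (ee 0)) := by
    intro a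
    fin_cases a
    · exact IsConj.refl _
    · exact (h1 1).trans (h1 2)
    · exact h1 2
  exact (h2 a).trans (h2 b).symm

/-- if no involution outside `A` is conjugate in `C(t)` to `± ee a`, then `A` is strongly closed in `P` -/
theorem closed (hdiag : ∀ w : M64, w * w = 1 → ¬ InA w → ∀ c : G, c * F t = F t * c → ∀ a,
    c * F w * c⁻¹ ≠ F (ee a) ∧ c * F w * c⁻¹ ≠ F (t * ee a)) :
    ∀ x ∈ Asub.map F, ∀ g : G, g * x * g⁻¹ ∈ (P : Subgroup G) → g * x * g⁻¹ ∈ Asub.map F := by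
  rintro _ ⟨x, hx, rfl⟩ g hg
  obtain ⟨w, hw⟩ := exists_of_mem M hg
  rw [← hw]
  by_contra hwA
  replace hwA : ¬ InA w := fun h => hwA ⟨w, h, rfl⟩
  have hxA : InA x := hx
  have hww : w * w = 1 := by
    have h1 := conj_mul hw.symm hw.symm
    rw [A_sq x hxA, map_one, mul_one, mul_inv_cancel, ← map_one F] at h1
    exact (M.inj h1).symm
  have hc : IsConj (F x) (F w) := isConj_iff.2 ⟨g, hw.symm⟩
  -- `w` is conjugate to `ee 0`
  have h0 : IsConj (F (ee 0)) (F w) := by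
    rcases A_cases x hxA with rfl | ⟨i, rfl⟩ | ⟨a, rfl | rfl⟩ | ⟨i, hi, rfl⟩
    · exfalso
      rw [map_one] at hc
      have h2 : F w = F 1 := by rw [map_one]; exact isConj_one_right.1 hc
      exact hwA (by rw [M.inj h2]; exact A_one)
    · exact absurd ((conj_p M hte hts i).trans hc) (ne_off M hte hww hwA)
    · exact (ee_conj M hte hts hnf 0 a).trans hc
    · exact ((ee_conj M hte hts hnf 0 a).trans (tee a)).trans hc
    · obtain ⟨a, ha⟩ := ts_conj M hte hts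
      exact ((ee_conj M hte hts hnf 0 a).trans (ha.symm.trans (isConj_F (p_conj i hi).2))).trans hc
  obtain ⟨z, hzP, hz⟩ := Extremal.exists_extremal P (mem M (ee 0))
  obtain ⟨z, rfl⟩ := exists_of_mem M hzP
  obtain ⟨g0, hg0, hC0⟩ := hz (F (ee 0)) (mem M _) ⟨1, by group⟩
  have hz1 : ∃ a, z = ee a ∨ z = t * ee a := by
    apply big_cen
    · rintro rfl
      rw [map_one] at hg0
      have h2 : F (ee 0) = F 1 := by
        rw [map_one]
        calc F (ee 0) = g0⁻¹ * (g0 * F (ee 0) * g0⁻¹) * g0 := by group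
          _ = 1 := by rw [hg0]; group
      exact ee_ne_one 0 (M.inj h2)
    · rintro rfl
      exact hte 0 (isConj_iff.2 ⟨g0, hg0⟩ : IsConj (F (ee 0)) (F t)).symm
    · rw [← card_V 0]
      have h3 : ∀ y : {y : M64 // y * ee 0 = ee 0 * y}, ∃ y' : M64, F y' = g0 * F y * g0⁻¹ ∧ y' * z = z * y' := by
        intro y
        obtain ⟨y', hy'⟩ := exists_of_mem M (hC0 (F y) (mem M _) (by rw [← map_mul, ← map_mul, y.2]))
        refine ⟨y', hy', ?_⟩
        have h4 := conj_mul hy'.symm hg0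
        have h5 := conj_mul hg0 hy'.symm
        rw [y.2, h5] at h4
        exact (M.inj h4).symm
      choose φ hφ1 hφ2 using h3
      apply Fintype.card_le_of_injective (fun y => (⟨φ y, hφ2 y⟩ : {y : M64 // y * z = z * y}))
      intro y y' hyy
      have h4 : φ y = φ y' := congrArg Subtype.val hyy
      have h5 := hφ1 y
      rw [h4, hφ1 y'] at h5
      exact Subtype.ext (M.inj (mul_left_cancel (mul_right_cancel h5)).symm)
  obtain ⟨g1, hg1⟩ := isConj_iff.1 h0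
  obtain ⟨g2, hg2, hC2⟩ := hz (F w) (mem M _) ⟨g1, hg1⟩
  obtain ⟨-, r, hrw, hr⟩ := off_root w hww hwA
  obtain ⟨y, hy⟩ := exists_of_mem M (hC2 (F r) (mem M r) (by rw [← map_mul, ← map_mul, hrw]))
  have h1 := (comm_of_root M hte hr hy.symm).1
  obtain ⟨a, rfl | rfl⟩ := hz1
  · exact (hdiag w hww hwA g2 h1 a).1 hg2
  · exact (hdiag w hww hwA g2 h1 a).2 hg2

end

end Cfsg.Agent.SylowSp4.TwoP
end

-- part: SylowSp4/TwoX
section
/-!
# Fusion for the type `PSp₄(3)`: the conjugates of `t` in `A`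

Let `J` be the set of all `a` with `t ~ ee a`.  If `J` is not empty then either `J = {a}` and `t` is not conjugate to
`s`, `t s`, or `J` has exactly two elements, `t` is conjugate to exactly one of `s`, `t s`, and `ee c` (`c ∉ J`) is
conjugate to the other one.
-/

set_option autoImplicit false

namespace Cfsg.Agent.SylowSp4.TwoX

open Subgroup Cfsg.Agent.SylowSp4.AltModel Cfsg.Agent.SylowSp4.TwoBase Cfsg.Agent.SylowSp4.TwoParity
open Cfsg.Agent.SylowSp4.TwoP

instance : CommGroup Asub :=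
  { (inferInstance : Group Asub) with mul_comm := fun x y => Subtype.ext (A_comm x y x.2 y.2) }
instance : DecidablePred (fun x => x ∈ Asub) := fun x => (inferInstance : Decidable (InA x))
instance : DecidablePred (· ∈ Asub) := fun x => (inferInstance : Decidable (InA x))

/-- the union of `{t}` and some orbits of `P` on `A` -/
def pred (j : Fin 3 → Bool) (b c : Bool) (x : M64) : Prop :=
  x = t ∨ (∃ a, j a = true ∧ (x = ee a ∨ x = t * ee a)) ∨ (b = true ∧ ∃ i : Fin 5, i ≠ 0 ∧ x = p i) ∨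
    (c = true ∧ ∃ i : Fin 5, i ≠ 0 ∧ x = t * p i)

instance (j : Fin 3 → Bool) (b c : Bool) : DecidablePred (pred j b c) := fun x => by unfold pred; infer_instance

theorem prod_pred : ∀ (j : Fin 3 → Bool) (b c : Bool),
    Subtype.val (∏ x ∈ (Finset.univ : Finset Asub).filter (fun x : Asub => pred j b c x.1), x) =
     if (xor (xor (xor (j 0) (j 1)) (j 2)) (xor b c)) then 1 else t := by decide +kernel

theorem prod_eq_t (j : Fin 3 → Bool) (b c : Bool) (h : xor (xor (xor (j 0) (j 1)) (j 2)) (xor b c) = false) :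
    ∏ x ∈ (Finset.univ : Finset Asub).filter (fun x : Asub => pred j b c x.1), x = ⟨t, A_t⟩ := by
  apply Subtype.ext
  rw [prod_pred, h]
  rfl

section

variable {G : Type*} [Group G] {F : M64 →* G}

/-- the automorphism of `A` induced by `n ∈ N(A)` -/
theorem exists_hom (hF : Function.Injective F) {n : G} (hn : NA F n) :
    ∃ α : Asub →* Asub, ∀ x : Asub, n * F x * n⁻¹ = F (α x) := by
  choose f hfA hf using hn
  refine ⟨{ toFun := fun x => ⟨f x x.2, hfA x x.2⟩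
            map_one' := ?_
            map_mul' := ?_ }, fun x => hf x x.2⟩
  · apply Subtype.ext
    apply hF
    show F (f 1 _) = F 1
    rw [← hf 1 A_one, map_one, mul_one, mul_inv_cancel]
  · intro x y
    apply Subtype.ext
    apply hF
    show F (f ((x : M64) * (y : M64)) (A_mul _ _ x.2 y.2)) = F (f (x : M64) x.2 * f (y : M64) y.2)
    have h1 := hf ((x : M64) * (y : M64)) (A_mul _ _ x.2 y.2)
    have h2 := conj_mul (hf (x : M64) x.2) (hf (y : M64) y.2)
    rw [← h1, h2]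

end

section

variable {G : Type*} [Group G] [Finite G] {P : Sylow 2 G} {F : M64 →* G} (M : Mod (P : Subgroup G) F)

include M

theorem class_iff (j : Fin 3 → Bool) (b c : Bool) (hj : ∀ a, j a = true ↔ IsConj (F t) (F (ee a)))
    (hb : b = true ↔ IsConj (F t) (F s)) (hc : c = true ↔ IsConj (F t) (F (t * s))) (x : M64) (hx : InA x) :
    IsConj (F t) (F x) ↔ pred j b c x := by
  constructor
  · intro h
    rcases A_cases x hx with rfl | ⟨i, rfl⟩ | ⟨a, rfl | rfl⟩ | ⟨i, hi, rfl⟩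
    · exfalso
      rw [map_one] at h
      have h2 : F t = F 1 := by rw [map_one]; exact isConj_one_right.1 h.symm
      exact TwoBase.t_ne_one (M.inj h2)
    · by_cases hi : i = 0
      · left; rw [hi]; rfl
      · right; right; left
        exact ⟨hb.2 (h.trans (isConj_F (p_conj i hi).1).symm), i, hi, rfl⟩
    · right; left
      exact ⟨a, (hj a).2 h, Or.inl rfl⟩
    · right; left
      exact ⟨a, (hj a).2 (h.trans (tee a).symm), Or.inr rfl⟩
    · right; right; right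
      exact ⟨hc.2 (h.trans (isConj_F (p_conj i hi).2).symm), i, hi, rfl⟩
  · rintro (rfl | ⟨a, ha, rfl | rfl⟩ | ⟨hb', i, hi, rfl⟩ | ⟨hc', i, hi, rfl⟩)
    · exact IsConj.refl _
    · exact (hj a).1 ha
    · exact ((hj a).1 ha).trans (tee a)
    · exact (hb.1 hb').trans (isConj_F (p_conj i hi).1)
    · exact (hc.1 hc').trans (isConj_F (p_conj i hi).2)

/-- the product of the conjugates of `t` in `A` is fixed by `N(A)` -/
theorem prod_fixed (j : Fin 3 → Bool) (b c : Bool) (hj : ∀ a, j a = true ↔ IsConj (F t) (F (ee a)))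
    (hb : b = true ↔ IsConj (F t) (F s)) (hc : c = true ↔ IsConj (F t) (F (t * s)))
    (h : xor (xor (xor (j 0) (j 1)) (j 2)) (xor b c) = false) {n : G} (hn : NA F n) : n * F t * n⁻¹ = F t := by
  classical
  obtain ⟨α, hα⟩ := exists_hom M.inj hn
  have hinj : Function.Injective α := by
    intro x y hxy
    have h1 := hα x
    rw [hxy, ← hα y] at h1
    exact Subtype.ext (M.inj (mul_left_cancel (mul_right_cancel h1)))
  set O := (Finset.univ : Finset Asub).filter (fun x : Asub => pred j b c x.1) with hO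
  have hOα : O.image α = O := by
    apply Finset.eq_of_subset_of_card_le
    · intro y hy
      rw [Finset.mem_image] at hy
      obtain ⟨x, hx, rfl⟩ := hy
      rw [hO, Finset.mem_filter] at hx ⊢
      refine ⟨Finset.mem_univ _, ?_⟩
      rw [← class_iff M j b c hj hb hc _ (α x).2]
      exact ((class_iff M j b c hj hb hc x x.2).2 hx.2).trans (isConj_iff.2 ⟨n, hα x⟩)
    · rw [Finset.card_image_of_injective _ hinj]
  have h1 : α (∏ x ∈ O, x) = ∏ x ∈ O, x := by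
    rw [map_prod]
    calc ∏ x ∈ O, α x = ∏ x ∈ O.image α, x := (Finset.prod_image (f := fun x => x) (fun x _ y _ hxy => hinj hxy)).symm
      _ = ∏ x ∈ O, x := by rw [hOα]
  rw [prod_eq_t j b c h] at h1
  have h2 := hα ⟨t, A_t⟩
  rw [h1] at h2
  exact h2

/-- elements of `N(A)` realising the fusion of `t` in `A` -/
theorem exists_to {x : M64} (hx : InA x) (h : IsConj (F t) (F x)) : ∃ n, NA F n ∧ n * F t * n⁻¹ = F x := by
  obtain ⟨g, hg⟩ := isConj_iff.1 h
  obtain ⟨n, -, h1, h2⟩ := exists_NA M ⊤ (fun _ _ => mem_top _) A_t hx (mem_top g) hg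
  exact ⟨n, h1, h2⟩

/-- parity: `1 + |J| + ε` is even -/
theorem parity_J (j : Fin 3 → Bool) (b c : Bool) (hj : ∀ a, j a = true ↔ IsConj (F t) (F (ee a)))
    (hb : b = true ↔ IsConj (F t) (F s)) (hc : c = true ↔ IsConj (F t) (F (t * s))) {x : M64} (hx : InA x)
    (hxt : x ≠ t) (h : IsConj (F t) (F x)) : xor (xor (xor (j 0) (j 1)) (j 2)) (xor b c) = true := by
  by_contra h1
  rw [Bool.not_eq_true] at h1
  obtain ⟨n, hn, h2⟩ := exists_to M hx h
  have h3 := prod_fixed M j b c hj hb hc h1 hn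
  rw [h2] at h3
  exact hxt (M.inj h3)

/-- `t ~ s`, `t ~ t s` forces `t ~ ee b` for all `b` -/
theorem not_both (hs : IsConj (F t) (F s)) (hts : IsConj (F t) (F (t * s))) (b : Fin 3)
    (hb : ¬ IsConj (F t) (F (ee b))) : False := by
  obtain ⟨n, hn, hns⟩ := exists_to M A_s hs
  have key : ∀ x : M64, InA x → ¬ IsConj (F t) (F x) → ∃ y, InR y ∧ n * F x * n⁻¹ = F y := by
    intro x hx hxt
    obtain ⟨y, hy, hxy⟩ := hn x hx
    have hc : IsConj (F x) (F y) := isConj_iff.2 ⟨n, hxy⟩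
    refine ⟨y, ?_, hxy⟩
    rcases A_cases y hy with rfl | ⟨i, rfl⟩ | ⟨a, rfl | rfl⟩ | ⟨i, hi, rfl⟩
    · decide +kernel
    · exfalso
      apply hxt
      by_cases hi : i = 0
      · rw [hi] at hc; exact hc.symm
      · exact (hs.trans (isConj_F (p_conj i hi).1)).trans hc.symm
    · exact R_ee a
    · exact R_tee a
    · exact absurd ((hts.trans (isConj_F (p_conj i hi).2)).trans hc.symm) hxt
  obtain ⟨y, hy, h1⟩ := key (ee b) (A_ee b) hb
  obtain ⟨y', hy', h2⟩ := key (t * ee b) (A_mul _ _ A_t (A_ee b)) (fun h => hb (h.trans (tee b).symm))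
  have h3 := conj_mul h1 h2
  rw [ee_facts, hns] at h3
  have h4 := M.inj h3
  exact not_R_s (h4 ▸ R_mul y y' hy hy')

omit M in
theorem two_prod : ∀ c, ∀ y y' : M64, (y = ee c ∨ y = t * ee c) → (y' = ee c ∨ y' = t * ee c) → y * y' ≠ s := by
  rintro c y y' (rfl | rfl) (rfl | rfl) <;> revert c <;> decide +kernel

/-- in the case `|J| = 2`, `t ~ s` the involutions `ee c`, `c ∉ J`, and `t s` are conjugate -/
theorem conj_ts (hs : IsConj (F t) (F s)) (c : Fin 3) (hc : ¬ IsConj (F t) (F (ee c)))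
    (hb : ∀ b, b ≠ c → IsConj (F t) (F (ee b))) : IsConj (F (ee c)) (F (t * s)) := by
  obtain ⟨n, hn, hns⟩ := exists_to M A_s hs
  by_contra hcon
  have key : ∀ x : M64, InA x → IsConj (F (ee c)) (F x) → ∃ y, (y = ee c ∨ y = t * ee c) ∧ n * F x * n⁻¹ = F y := by
    intro x hx hxc
    obtain ⟨y, hy, hxy⟩ := hn x hx
    have h1 : IsConj (F (ee c)) (F y) := hxc.trans (isConj_iff.2 ⟨n, hxy⟩)
    refine ⟨y, ?_, hxy⟩
    rcases A_cases y hy with rfl | ⟨i, rfl⟩ | ⟨a, ha⟩ | ⟨i, hi, rfl⟩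
    · exfalso
      rw [map_one] at h1
      have h2 : F (ee c) = F 1 := by rw [map_one]; exact isConj_one_right.1 h1.symm
      exact ee_ne_one c (M.inj h2)
    · exfalso
      apply hc
      by_cases hi : i = 0
      · rw [hi] at h1; exact h1.symm
      · exact (hs.trans (isConj_F (p_conj i hi).1)).trans h1.symm
    · have hac : a = c := by
        by_contra hac
        apply hc
        rcases ha with rfl | rfl
        · exact (hb a hac).trans h1.symm
        · exact ((hb a hac).trans (tee a)).trans h1.symm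
      rw [← hac]; exact ha
    · exact absurd (h1.trans (isConj_F (p_conj i hi).2).symm) hcon
  obtain ⟨y, hy, h1⟩ := key (ee c) (A_ee c) (IsConj.refl _)
  obtain ⟨y', hy', h2⟩ := key (t * ee c) (A_mul _ _ A_t (A_ee c)) (tee c)
  have h3 := conj_mul h1 h2
  rw [ee_facts, hns] at h3
  exact two_prod c y y' hy hy' (M.inj h3).symm

omit M in
theorem q1_facts : ∀ a, q1 a * ee a * (q1 a)⁻¹ = ee a ∧ q1 a * (t * ee a) * (q1 a)⁻¹ = t * ee a ∧
    q1 a * ee (a + 1) * (q1 a)⁻¹ = t * ee (a + 1) ∧ q1 a * s * (q1 a)⁻¹ = t * ee a * s ∧ q1 a ^ 4 = 1 ∧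
    q1 a * t * (q1 a)⁻¹ = t := by decide +kernel

variable (hnf : ∀ c : G, c * F t = F t * c → ∀ x y : M64, x * x = 1 → ¬ InR x → InR y → c * F x * c⁻¹ ≠ F y)

include hnf

/-- not all `ee a` are conjugate to `t` if `s`, `t s` are not -/
theorem not_D (hs : ¬ IsConj (F t) (F s)) (hts : ¬ IsConj (F t) (F (t * s)))
    (hJ : ∀ a, IsConj (F t) (F (ee a))) : False := by
  have hD : ∀ y : M64, InA y → IsConj (F t) (F y) → y = t ∨ ∃ a, y = ee a ∨ y = t * ee a := by
    intro y hy h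
    rcases A_cases y hy with rfl | ⟨i, rfl⟩ | h1 | ⟨i, hi, rfl⟩
    · exfalso
      rw [map_one] at h
      have h2 : F t = F 1 := by rw [map_one]; exact isConj_one_right.1 h.symm
      exact TwoBase.t_ne_one (M.inj h2)
    · by_cases hi : i = 0
      · left; rw [hi]; rfl
      · exact absurd (h.trans (isConj_F (p_conj i hi).1).symm) hs
    · exact Or.inr h1
    · exact absurd (h.trans (isConj_F (p_conj i hi).2).symm) hts
  obtain ⟨g, hg, hg0⟩ := exists_to M (A_ee 0) (hJ 0)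
  obtain ⟨y0, hy0, hty⟩ := NA_inv hg t A_t
  have hy0' := conj_symm hty
  rw [inv_inv] at hy0'
  have hc0 : IsConj (F t) (F y0) := isConj_iff.2 ⟨_, hty⟩
  rcases hD y0 hy0 hc0 with rfl | ⟨a, ha⟩
  · rw [hg0] at hy0'
    exact ee_ne_t 0 (M.inj hy0')
  obtain ⟨f1, f2, f3, -, -, f6⟩ := q1_facts a
  have hh : ∀ x x' y' : M64, g * F x' * g⁻¹ = F x → g * F (q1 a * x' * (q1 a)⁻¹) * g⁻¹ = F y' →
      (g * F (q1 a) * g⁻¹) * F x * (g * F (q1 a) * g⁻¹)⁻¹ = F y' := by
    intro x x' y' h1 h2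
    rw [← h1, ← h2, map_mul, map_mul, map_inv]
    group
  set h := g * F (q1 a) * g⁻¹ with hhdef
  have hNA : NA F h := NA_mul (NA_mul hg (NA_F _)) (NA_inv hg)
  have hcomm : h * F t = F t * h := by
    have h1 : h * F t * h⁻¹ = F t := by
      apply hh t y0 t hy0'
      have : q1 a * y0 * (q1 a)⁻¹ = y0 := by
        rcases ha with rfl | rfl
        · exact f1
        · exact f2
      rw [this]; exact hy0'
    calc h * F t = (h * F t * h⁻¹) * h := by group
      _ = F t * h := by rw [h1]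
  have h0 : h * F (ee 0) * h⁻¹ = F (ee 0) := by
    apply hh (ee 0) t (ee 0) hg0
    rw [f6]; exact hg0
  have hNt := mem_Nt M hnf ⟨hNA, hcomm⟩ (a := 0) (Or.inl h0)
  obtain ⟨y, hy, hby⟩ := hg (ee (a + 1)) (A_ee _)
  have h1 : h * F y * h⁻¹ = F (ee 0 * y) := by
    apply hh y (ee (a + 1)) _ hby
    rw [f3]; exact conj_mul hg0 hby
  have h2 : ee 0 * y = y ∨ ee 0 * y = t * y := by
    have hc : IsConj (F t) (F y) := (hJ (a + 1)).trans (isConj_iff.2 ⟨g, hby⟩)
    rcases hD y hy hc with rfl | ⟨c, rfl | rfl⟩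
    · left
      rw [fix_t hcomm] at h1
      exact (M.inj h1).symm
    · rcases hNt.2 c with h3 | h3
      · left; rw [h3] at h1; exact (M.inj h1).symm
      · right; rw [h3] at h1; exact (M.inj h1).symm
    · rcases mo_t hcomm (hNt.2 c) with h3 | h3
      · right; rw [h3] at h1
        rw [← mul_assoc, ← mul_assoc, tt, one_mul, mul_assoc]
        exact (M.inj h1).symm
      · left; rw [h3] at h1; exact (M.inj h1).symm
  rcases h2 with h2 | h2
  · exact ee_ne_one 0 (mul_eq_right.1 h2)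
  · exact ee_ne_t 0 (mul_right_cancel h2)

omit M hnf in
theorem comm_D : ∀ σ z : M64, InA z → ¬ InA σ → (σ * z * σ⁻¹ = z ∨ σ * z * σ⁻¹ = t * z) → InR z :=
  fun σ z hz => (by decide +kernel : ∀ z : M64, InA z → InR z ∨ ∀ σ, ¬ InA σ → ¬ (σ * z * σ⁻¹ = z ∨ σ * z * σ⁻¹ = t * z)) z hz
    |>.elim (fun h _ _ => h) fun h h1 h2 => absurd h2 (h σ h1)

/-- `D_y = m D m⁻¹` contains all `x` with `[x, q1 b] ∈ {1, y}`, where `m t m⁻¹ = y = ± ee b` -/
theorem mem_D {m : G} (hm : NA F m) {y : M64} {b : Fin 3} (hyb : y = ee b ∨ y = t * ee b)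
    (hmy : m * F t * m⁻¹ = F y) {x z : M64} (hz : InA z) (hxz : m * F z * m⁻¹ = F x)
    (hx : q1 b * x * (q1 b)⁻¹ = x ∨ q1 b * x * (q1 b)⁻¹ = y * x) : InR z := by
  obtain ⟨f1, f2, -, f4, f5, -⟩ := q1_facts b
  set h := m⁻¹ * F (q1 b) * m with hh
  have hyq : q1 b * y * (q1 b)⁻¹ = y := by
    rcases hyb with rfl | rfl
    · exact f1
    · exact f2
  have hNA : NA F h := NA_mul (NA_mul (NA_inv hm) (NA_F _)) hm
  have act : ∀ u u' v v' : M64, m * F u * m⁻¹ = F v → q1 b * v * (q1 b)⁻¹ = v' → m * F u' * m⁻¹ = F v' →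
      h * F u * h⁻¹ = F u' := by
    intro u u' v v' h1 h2 h3
    have e1 : F u = m⁻¹ * F v * m := by rw [← h1]; group
    have e2 : F u' = m⁻¹ * F v' * m := by rw [← h3]; group
    rw [e1, e2, ← h2, map_mul, map_mul, map_inv, hh]
    group
  have hcomm : h * F t = F t * h := by
    have h1 : h * F t * h⁻¹ = F t := act t t y y hmy hyq hmy
    calc h * F t = (h * F t * h⁻¹) * h := by group
      _ = F t * h := by rw [h1]
  have h4 : h ^ 2 ^ 2 = 1 := by
    have e : ∀ n : ℕ, h ^ n = m⁻¹ * F (q1 b ^ n) * m := by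
      intro n
      induction n with
      | zero => rw [pow_zero, pow_zero, map_one]; group
      | succ n ih => rw [pow_succ, ih, pow_succ, map_mul, hh]; group
    rw [e, show (2 ^ 2 : ℕ) = 4 from rfl, f5, map_one]; group
  have hNt := two_elt M hnf (show h ∈ Kt F from ⟨hNA, hcomm⟩) h4
  obtain ⟨σ, hσ⟩ := parity M hnf hNA hcomm (a := b) (hNt.2 b)
  have hσA : ¬ InA σ := by
    intro hA
    -- `h` acts trivially on `A`, hence so does `q1 b`
    obtain ⟨u, hu, hus⟩ := NA_inv hm s A_s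
    have hus' := conj_symm hus
    rw [inv_inv] at hus'
    obtain ⟨u', hu', hus2⟩ := NA_inv hm (t * ee b * s) (A_mul _ _ (A_mul _ _ A_t (A_ee b)) A_s)
    have hus2' := conj_symm hus2
    rw [inv_inv] at hus2'
    have h5 := act u u' s _ hus' f4 hus2'
    rw [hσ u hu] at h5
    have h6 : σ * u * σ⁻¹ = u := by rw [A_comm σ u hA hu, mul_assoc, mul_inv_cancel, mul_one]
    rw [h6] at h5
    rw [← M.inj h5, hus'] at hus2'
    have h7 : ∀ b, s ≠ t * ee b * s := by decide +kernel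
    exact h7 b (M.inj hus2')
  apply comm_D σ z hz hσA
  rcases hx with hx | hx
  · left
    have h5 := act z z x x hxz hx hxz
    rw [hσ z hz] at h5
    exact M.inj h5
  · right
    have h5 := act z (t * z) x (y * x) hxz hx (conj_mul hmy hxz)
    rw [hσ z hz] at h5
    exact M.inj h5

/-- the relation `v ∈ D_w` is symmetric -/
theorem symm_D (hall : ∀ x, InA x → x ≠ 1 → IsConj (F t) (F x)) {g k : G} (hg : NA F g) (hk : NA F k)
    {v w y : M64} (hv : g * F t * g⁻¹ = F v) (hw : k * F t * k⁻¹ = F w) (hy : InA y) (hyR : InR y)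
    (hgy : g * F y * g⁻¹ = F w) {z : M64} (hz : InA z) (hkz : k * F z * k⁻¹ = F v) : InR z := by
  rcases D_cases y hy hyR with rfl | rfl | h1 | h1
  · exfalso
    rw [map_one, mul_one, mul_inv_cancel] at hgy
    have h2 : F t = F 1 := by
      rw [map_one]
      calc F t = k⁻¹ * (k * F t * k⁻¹) * k := by group
        _ = 1 := by rw [hw, ← hgy]; group
    exact TwoBase.t_ne_one (M.inj h2)
  · rw [hgy] at hv
    rw [← hv, ← hw] at hkz
    have h2 : F z = F t := mul_left_cancel (mul_right_cancel hkz)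
    rw [M.inj h2]
    exact R_t
  all_goals
    obtain ⟨m, hm, hmy⟩ := exists_to M hy (hall y hy (by
      rintro rfl
      rcases h1 with ⟨a, h1⟩
      revert h1
      revert a
      decide +kernel))
    obtain ⟨a, h1⟩ := h1
    obtain ⟨u, hu, hut⟩ := NA_inv hm t A_t
    have hut' := conj_symm hut
    rw [inv_inv] at hut'
    have huR : InR u := mem_D M hnf hm (y := y) (b := a) (by tauto) hmy hu hut' (Or.inl (q1_facts a).2.2.2.2.2)
    -- `κ = k⁻¹ g m`
    have hκ : k⁻¹ * g * m * F t = F t * (k⁻¹ * g * m) := by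
      have e1 : k⁻¹ * g * m * F t * (k⁻¹ * g * m)⁻¹ = F t := by
        calc k⁻¹ * g * m * F t * (k⁻¹ * g * m)⁻¹ = k⁻¹ * (g * (m * F t * m⁻¹) * g⁻¹) * k := by group
          _ = k⁻¹ * (k * F t * k⁻¹) * k := by rw [hmy, hgy, hw]
          _ = F t := by group
      calc k⁻¹ * g * m * F t = (k⁻¹ * g * m * F t * (k⁻¹ * g * m)⁻¹) * (k⁻¹ * g * m) := by group
        _ = _ := by rw [e1]
    have hκNA : NA F (k⁻¹ * g * m) := NA_mul (NA_mul (NA_inv hk) hg) hm
    apply (D_norm M hnf hκNA hκ (x := u) (y := z) hu ?_).1 huR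
    calc k⁻¹ * g * m * F u * (k⁻¹ * g * m)⁻¹ = k⁻¹ * (g * (m * F u * m⁻¹) * g⁻¹) * k := by group
      _ = k⁻¹ * (k * F z * k⁻¹) * k := by rw [hut', hv, hkz]
      _ = F z := by group

omit M hnf in
theorem prod_tee : t * ee 0 * (t * ee 1) * (t * ee 2) = t := by decide +kernel

/-- not all involutions of `A` are conjugate -/
theorem not_all (hall : ∀ x, InA x → x ≠ 1 → IsConj (F t) (F x)) : False := by
  have hA : ∀ a, InA (t * ee a) := fun a => A_mul _ _ A_t (A_ee a)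
  obtain ⟨k, hk, hks⟩ := exists_to M A_s (hall s A_s (by decide +kernel))
  have key : ∀ a, ∃ z, InA z ∧ InR z ∧ k * F z * k⁻¹ = F (t * ee a) := by
    intro a
    obtain ⟨g, hg, hga⟩ := exists_to M (hA a) (hall _ (hA a) (tee_ne a).2)
    obtain ⟨y, hy, hys⟩ := NA_inv hg s A_s
    have hys' := conj_symm hys
    rw [inv_inv] at hys'
    have hyR : InR y := mem_D M hnf hg (y := t * ee a) (b := a) (Or.inr rfl) hga hy hys'
      (Or.inr (q1_facts a).2.2.2.1)
    obtain ⟨z, hz, hza⟩ := NA_inv hk (t * ee a) (hA a)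
    have hza' := conj_symm hza
    rw [inv_inv] at hza'
    exact ⟨z, hz, symm_D M hnf hall hg hk hga hks hy hyR hys' hz hza', hza'⟩
  obtain ⟨z0, hz0, hz0R, h0⟩ := key 0
  obtain ⟨z1, hz1, hz1R, h1⟩ := key 1
  obtain ⟨z2, hz2, hz2R, h2⟩ := key 2
  have h3 := conj_mul (conj_mul h0 h1) h2
  rw [prod_tee] at h3
  have h4 := symm_D M hnf hall hk NA_one hks (w := t) (by group) (A_mul _ _ (A_mul _ _ hz0 hz1) hz2)
    (R_mul _ _ (R_mul _ _ hz0R hz1R) hz2R) h3 A_s (by group)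
  exact not_R_s h4

set_option synthInstance.maxSize 2048 in
set_option synthInstance.maxHeartbeats 400000 in
omit M hnf in
theorem bool_main : ∀ (j : Fin 3 → Bool) (b c : Bool), xor (xor (xor (j 0) (j 1)) (j 2)) (xor b c) = true →
    (b = true → c = true → ∀ a, j a = true) → ¬ (b = false ∧ c = false ∧ ∀ a, j a = true) →
    ¬ (b = true ∧ c = true ∧ ∀ a, j a = true) → (∃ a, j a = true) →
    (∃ a, j a = true ∧ (∀ d, d ≠ a → j d = false) ∧ b = false ∧ c = false) ∨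
    ∃ d, j d = false ∧ (∀ a, a ≠ d → j a = true) ∧ ((b = true ∧ c = false) ∨ (b = false ∧ c = true)) := by
  decide +kernel

omit [Finite G] M hnf in
theorem not_isConj_iff {b : Bool} {q : Prop} (h : b = true ↔ q) : b = false ↔ ¬ q := by
  rw [← h, Bool.not_eq_true]

omit [Finite G] hnf in
theorem comp_sw : Mod (P : Subgroup G) (F.comp TwoAut.sw) := by
  refine ⟨M.inj.comp TwoAut.adm_sw.inj, ?_⟩
  rw [MonoidHom.range_comp, MonoidHom.range_eq_top.2 TwoAut.adm_sw.surj, ← MonoidHom.range_eq_map]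
  exact M.range

/-- **The conjugates of `t` in `A`.** -/
theorem main (hJ : ∃ a, IsConj (F t) (F (ee a))) :
    (∃ a, IsConj (F t) (F (ee a)) ∧ (∀ b, b ≠ a → ¬ IsConj (F t) (F (ee b))) ∧ ¬ IsConj (F t) (F s) ∧
      ¬ IsConj (F t) (F (t * s))) ∨
    ∃ c, ¬ IsConj (F t) (F (ee c)) ∧ (∀ b, b ≠ c → IsConj (F t) (F (ee b))) ∧
      ((IsConj (F t) (F s) ∧ ¬ IsConj (F t) (F (t * s)) ∧ IsConj (F (ee c)) (F (t * s))) ∨
        (IsConj (F t) (F (t * s)) ∧ ¬ IsConj (F t) (F s) ∧ IsConj (F (ee c)) (F s))) := by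
  classical
  obtain ⟨j, hj⟩ : ∃ j : Fin 3 → Bool, ∀ a, j a = true ↔ IsConj (F t) (F (ee a)) :=
    ⟨fun a => decide (IsConj (F t) (F (ee a))), fun a => decide_eq_true_iff⟩
  obtain ⟨b, hb⟩ : ∃ b : Bool, b = true ↔ IsConj (F t) (F s) := ⟨decide _, decide_eq_true_iff⟩
  obtain ⟨c, hc⟩ : ∃ c : Bool, c = true ↔ IsConj (F t) (F (t * s)) := ⟨decide _, decide_eq_true_iff⟩
  obtain ⟨a0, ha0⟩ := hJ
  have h1 := parity_J M j b c hj hb hc (A_ee a0) (ee_ne_t a0) ha0
  have g1 : b = true → c = true → ∀ a, j a = true := by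
    intro h2 h3 a
    by_contra h4
    exact not_both M (hb.1 h2) (hc.1 h3) a (fun h5 => h4 ((hj a).2 h5))
  have g2 : ¬ (b = false ∧ c = false ∧ ∀ a, j a = true) := by
    rintro ⟨h2, h3, h4⟩
    exact not_D M hnf ((not_isConj_iff hb).1 h2) ((not_isConj_iff hc).1 h3) (fun a => (hj a).1 (h4 a))
  have g3 : ¬ (b = true ∧ c = true ∧ ∀ a, j a = true) := by
    rintro ⟨h2, h3, h4⟩
    refine not_all M hnf ?_
    intro x hx hx1
    rcases A_cases x hx with rfl | ⟨i, rfl⟩ | ⟨a, rfl | rfl⟩ | ⟨i, hi, rfl⟩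
    · exact absurd rfl hx1
    · by_cases hi : i = 0
      · rw [hi]; exact IsConj.refl _
      · exact (hb.1 h2).trans (isConj_F (p_conj i hi).1)
    · exact (hj a).1 (h4 a)
    · exact ((hj a).1 (h4 a)).trans (tee a)
    · exact (hc.1 h3).trans (isConj_F (p_conj i hi).2)
  rcases bool_main j b c h1 g1 g2 g3 ⟨a0, (hj a0).2 ha0⟩ with ⟨a, h2, h3, h4, h5⟩ | ⟨d, h2, h3, h4⟩
  · left
    exact ⟨a, (hj a).1 h2, fun d hd => (not_isConj_iff (hj d)).1 (h3 d hd), (not_isConj_iff hb).1 h4,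
      (not_isConj_iff hc).1 h5⟩
  · right
    have h5 : ¬ IsConj (F t) (F (ee d)) := (not_isConj_iff (hj d)).1 h2
    have h6 : ∀ a, a ≠ d → IsConj (F t) (F (ee a)) := fun a ha => (hj a).1 (h3 a ha)
    refine ⟨d, h5, h6, ?_⟩
    rcases h4 with ⟨h7, h8⟩ | ⟨h7, h8⟩
    · left
      exact ⟨hb.1 h7, (not_isConj_iff hc).1 h8, conj_ts M (hb.1 h7) d h5 h6⟩
    · right
      refine ⟨hc.1 h8, (not_isConj_iff hb).1 h7, ?_⟩
      have e1 : TwoAut.sw t = t := by decide +kernel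
      have e2 : ∀ a, TwoAut.sw (ee a) = ee a := by decide +kernel
      have e3 : TwoAut.sw s = t * s := by decide +kernel
      have e4 : TwoAut.sw (t * s) = s := by decide +kernel
      have h9 := conj_ts (comp_sw M) (by
        rw [MonoidHom.comp_apply, MonoidHom.comp_apply, e1, e3]; exact hc.1 h8) d (by
        rw [MonoidHom.comp_apply, MonoidHom.comp_apply, e1, e2]; exact h5) (by
        intro a ha
        rw [MonoidHom.comp_apply, MonoidHom.comp_apply, e1, e2]; exact h6 a ha)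
      rw [MonoidHom.comp_apply, MonoidHom.comp_apply, e2, e4] at h9
      exact h9

end

end Cfsg.Agent.SylowSp4.TwoX
end

-- part: SylowSp4/TwoGold
section
/-!
# Strongly closed abelian subgroups and two classes of involutions
-/

set_option autoImplicit false

namespace Cfsg.Agent.SylowSp4.TwoGold

open Subgroup

universe u

/-- S1169 -/
def Gold : Prop :=
  ∀ (G : Type u) [Group G] [Finite G] [IsSimpleGroup G] (S : Sylow 2 G) (A : Subgroup G), A ≠ ⊥ →
    IsMulCommutative A → Cfsg.IsStronglyClosed A (S : Subgroup G) →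
    IsMulCommutative (S : Subgroup G) ∨ ∃ H : Subgroup G, Cfsg.IsStronglyEmbedded H

variable {G : Type u} [Group G] [Finite G] [IsSimpleGroup G]

/-- A finite simple group with two classes of involutions has no nontrivial strongly closed abelian subgroup in a
non-abelian Sylow 2-subgroup. -/
theorem false_of_closed (hG : Gold.{u}) (P : Sylow 2 G) {B : Subgroup G} (hBP : B ≤ P)
    (hcomm : ∀ x ∈ B, ∀ y ∈ B, x * y = y * x) (hB : B ≠ ⊥)
    (hcl : ∀ x ∈ B, ∀ g : G, g * x * g⁻¹ ∈ P → g * x * g⁻¹ ∈ B)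
    (hP : ¬ ∀ x ∈ P, ∀ y ∈ P, x * y = y * x) {a b : G} (ha : orderOf a = 2) (hb : orderOf b = 2)
    (hab : ¬ IsConj a b) : False := by
  rcases hG G P B hB ⟨⟨fun x y => Subtype.ext (hcomm x x.2 y y.2)⟩⟩ ⟨hBP, hcl⟩ with h | ⟨H, hH⟩
  · apply hP
    intro x hx y hy
    exact congrArg Subtype.val (h.is_comm.comm ⟨x, hx⟩ ⟨y, hy⟩)
  · exact hab (Cfsg.Agent.TwoFusion.StronglyEmbeddedBasic.isConj_of_involutions hH a b ha hb)

end Cfsg.Agent.SylowSp4.TwoGold
end

-- part: SylowSp4/TwoPEnd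
section
/-!
# Fusion for the type `PSp₄(3)`, case P: the pattern of `PSp₄(q)`
-/

set_option autoImplicit false

namespace Cfsg.Agent.SylowSp4.TwoPEnd

open Subgroup Cfsg.Agent.SylowSp4.AltModel Cfsg.Agent.SylowSp4.TwoBase Cfsg.Agent.SylowSp4.TwoParity
open Cfsg.Agent.SylowSp4.TwoCtx Cfsg.Agent.SylowSp4.TwoY Cfsg.Agent.SylowSp4.TwoOff

universe u

/-! ### facts on the model -/

theorem off_dd : ∀ w : M64, w * w = 1 → ¬ InA w → ∃ i j, i ≠ j ∧ (w = dd i j ∨ w = t * dd i j) := by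
  decide +kernel
theorem y_root : ∀ y : M64, (y = q1 1 ∨ y = t * q1 1 ∨ y = q2 1 ∨ y = t * q2 1) →
    ((y = q1 0 ∨ y = t * q1 0) ∨ (y = q2 0 ∨ y = t * q2 0)) → False := by decide +kernel
theorem fix_ee : q1 1 * (t * dd 0 0) * (q1 1)⁻¹ = dd 0 0 := by decide +kernel
theorem exists_neg : ∀ a : Fin 3, ∃ m, a + m = 0 := by decide +kernel
theorem not_comm_M : q1 0 * q1 1 ≠ q1 1 * q1 0 := by decide +kernel

section

variable {G : Type*} [Group G] [Finite G] {P : Sylow 2 G} {F : M64 →* G} {K : Subgroup G} (C : Ctx P F K)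

include C

omit [Finite G] in
theorem order_two {x : M64} (hx : x * x = 1) (hx1 : x ≠ 1) : orderOf (F x) = 2 := by
  apply orderOf_eq_prime
  · rw [sq, ← map_mul, hx, map_one]
  · intro h
    exact hx1 (C.mod.inj (by rw [h, map_one]))

omit [Finite G] in
/-- `Y` is everything: all `dd a b` are conjugate in `C(t)` -/
theorem uu (hY : ∀ m₁ m₂, Y F K m₁ m₂) (a b : Fin 3) {x : M64} (hx : x = dd a b ∨ x = t * dd a b) :
    ∃ g, g * F t = F t * g ∧ g * F x * g⁻¹ = F (ee 0) := by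
  obtain ⟨m₁, hm₁⟩ := exists_neg a
  obtain ⟨m₂, hm₂⟩ := exists_neg b
  obtain ⟨n, hn, ha⟩ := hY m₁ m₂
  have hnt := C.comm n hn.1
  have h1 := act_dd C hnt ha a b
  rw [hm₁, hm₂] at h1
  have h2 := conj_mod C hnt hx h1
  rcases h2 with h2 | h2
  · exact ⟨n, hnt, h2⟩
  · refine ⟨F (q1 1) * n, comm_mul (TwoBase.t_comm C.mod (TwoBase.mem C.mod _)) hnt, ?_⟩
    have h3 := conj_trans h2 (conj_F F (q1 1) (t * dd 0 0))
    rw [fix_ee] at h3
    exact h3

end

/-- in case P with `t ~ s`, `Y` is everything -/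
theorem Y_all (hGold : TwoGold.Gold.{u}) {G : Type u} [Group G] [Finite G] [IsSimpleGroup G] {P : Sylow 2 G}
    {F : M64 →* G} {K : Subgroup G} (C : Ctx P F K) (hG : ∀ H : Subgroup G, H.index ≠ 2)
    (hte : ∀ a, ¬ IsConj (F t) (F (ee a))) (hts : IsConj (F t) (F s)) : ∀ m₁ m₂, Y F K m₁ m₂ := by
  have M := C.mod
  rcases Y_cases C with h | ⟨h, h'⟩ | ⟨h, h'⟩ | h
  · exfalso
    obtain ⟨c, hc, x, hcx, hx⟩ := TwoP.exists_root M hte hts hG (a := 0) (b := 1) (by decide)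
    obtain ⟨m₁, m₂, hm, h1⟩ := root_conj C hc hcx
    obtain ⟨rfl, rfl⟩ := h _ _ hm
    exact y_root x hx h1
  · exfalso
    have hcl := TwoP.closed M hte hts (hnf C) (by
      intro w hw hwA c hc a
      obtain ⟨i, j, hij, hwd⟩ := off_dd w hw hwA
      have key : (c * F w * c⁻¹ = F (dd a a) ∨ c * F w * c⁻¹ = F (t * dd a a)) → False := by
        intro h1
        have h2 := conj_mod C hc (x := w) (x' := dd i j) (y := dd a a) (by
          rcases hwd with h3 | h3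
          · exact Or.inl h3.symm
          · right; rw [h3, TwoY.tt_mul]) h1
        obtain ⟨m₁, m₂, hm, h3⟩ := dd_conj C hc h2
        have h4 := h' _ _ hm
        subst h4
        rcases h3 with ⟨h5, h6⟩ | ⟨h5, h6⟩
        · exact hij (add_right_cancel (h5.trans h6.symm))
        · exact hij (add_right_cancel (h6.trans h5.symm))
      exact ⟨fun h1 => key (Or.inl h1), fun h1 => key (Or.inr h1)⟩)
    refine TwoGold.false_of_closed hGold P (AF_le M) ?_ ?_ hcl ?_ (order_two C (x := t) (by decide +kernel)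
      TwoBase.t_ne_one) (order_two C (x := ee 0) (by decide +kernel) (ee_ne_one 0)) (hte 0)
    · rintro _ ⟨x, hx, rfl⟩ _ ⟨y, hy, rfl⟩
      rw [← map_mul, ← map_mul, A_comm x y hx hy]
    · intro hbot
      have h1 := card_AF M
      rw [hbot, Subgroup.card_bot] at h1
      omega
    · intro hcomm
      have h1 := hcomm _ (TwoBase.mem M (q1 0)) _ (TwoBase.mem M (q1 1))
      rw [← map_mul, ← map_mul] at h1
      exact not_comm_M (M.inj h1)
  · exfalso
    obtain ⟨g, -, hgt, hg⟩ := TwoP.exists_cyc M hte hts (hnf C)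
    obtain ⟨m₁, m₂, hm, h1⟩ := dd_conj C hgt (a := 0) (b := 0) (a' := 1) (b' := 1) (hg 0)
    have h2 := h' _ _ hm
    have h3 : ∀ m₁ m₂ : Fin 3, m₁ + m₂ = 0 → ((0 + m₁ = 1 ∧ 0 + m₂ = 1) ∨ (0 + m₁ = 1 ∧ 0 + m₂ = 1)) → False := by
      decide
    exact h3 m₁ m₂ h2 h1
  · exact h

section

open Cfsg.Agent.SylowSp4.Coord
open Cfsg.Agent.SylowSp4.Pat hiding ee

/-- **Case P.** -/
theorem pat (hGold : TwoGold.Gold.{u}) {G : Type u} [Group G] [Finite G] [IsSimpleGroup G] {P : Sylow 2 G}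
    {f : Q 1 → Q 1 → G} {s' : G} (h : TSp (P : Subgroup G) 1 f s')
    (hte : ∀ a, ¬ IsConj (hom h t) (hom h (ee a))) : Pat P 1 f s' ∨ Pat P 1 f (f (z 1) 1 * s') := by
  obtain ⟨K, hK⟩ := CentG.exists_centData h
  have C := ofCentData h hK
  have M := C.mod
  have hG := Large.index_ne_two h
  -- `t ~ s` or `t ~ t s`
  have hs : IsConj (hom h t) (hom h s) ∨ IsConj (hom h t) (hom h (t * s)) := by
    obtain ⟨g, hgP, hg⟩ := Large.exists_fusion h
    rw [← hom_t h] at hgP hg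
    obtain ⟨y, hy⟩ := TwoBase.exists_of_mem M hgP
    have hc : IsConj (hom h t) (hom h y) := isConj_iff.2 ⟨g, hy.symm⟩
    have hyy : y * y = 1 := (sq_of_T C hc).1
    by_cases hyA : InA y
    · rcases TwoP.A_cases y hyA with rfl | ⟨i, rfl⟩ | ⟨a, rfl | rfl⟩ | ⟨i, hi, rfl⟩
      · exact absurd rfl (sq_of_T C hc).2
      · by_cases hi : i = 0
        · rw [hi] at hy
          exact absurd hy.symm hg
        · exact Or.inl (hc.trans (TwoP.isConj_F (TwoP.p_conj i hi).1).symm)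
      · exact absurd hc (hte a)
      · exact absurd hc (TwoP.hte' hte a)
      · exact Or.inr (hc.trans (TwoP.isConj_F (TwoP.p_conj i hi).2).symm)
    · exact absurd hc (TwoP.ne_off M hte hyy hyA)
  -- all `dd a b` are conjugate in `C(t)`
  have huu : ∀ a b x, (x = dd a b ∨ x = t * dd a b) → ∃ g, g * hom h t = hom h t * g ∧
      g * hom h x * g⁻¹ = hom h (ee 0) := by
    rcases hs with hs | hs
    · intro a b x hx
      exact uu C (Y_all hGold C hG hte hs) a b hx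
    · intro a b x hx
      have C' := TwoAut.adm_sw.ctx C
      have e1 : TwoAut.sw t = t := by decide +kernel
      have e2 : ∀ a, TwoAut.sw (ee a) = ee a := by decide +kernel
      have e3 : TwoAut.sw s = t * s := by decide +kernel
      have e4 : ∀ a b, TwoAut.sw (dd a b) = dd a b ∧ TwoAut.sw (t * dd a b) = t * dd a b := by decide +kernel
      have hY := Y_all hGold C' hG (by
        intro a
        rw [MonoidHom.comp_apply, MonoidHom.comp_apply, e1, e2]; exact hte a) (by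
        rw [MonoidHom.comp_apply, MonoidHom.comp_apply, e1, e3]; exact hs)
      obtain ⟨g, hg1, hg2⟩ := uu C' hY a b hx
      have e5 : TwoAut.sw x = x := by
        rcases hx with rfl | rfl
        · exact (e4 a b).1
        · exact (e4 a b).2
      rw [MonoidHom.comp_apply, e1] at hg1
      rw [MonoidHom.comp_apply, MonoidHom.comp_apply, e2, e5] at hg2
      exact ⟨g, hg1, hg2⟩
  have hcc : hom h (ee 0) = f (Facts.c 1) (Facts.c 1) := by rw [hom_ee, cc_zero]
  refine Large.pat_of_uu h ?_ ?_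
  · intro α β hα hβ
    have hdd : ∀ a b, hom h (dd a b) = f (cc a) (cc b) := by
      intro a b
      rw [dd, map_mul, hom_q1, hom_q2, h.f_mul, mul_one, one_mul]
    have hx : ∃ a b x, (x = dd a b ∨ x = t * dd a b) ∧ hom h x = f α β := by
      obtain ⟨a, ha⟩ := qel_cases α hα
      obtain ⟨b, hb⟩ := qel_cases β hβ
      rcases ha with rfl | rfl <;> rcases hb with rfl | rfl
      · exact ⟨a, b, _, Or.inl rfl, hdd a b⟩
      · refine ⟨a, b, _, Or.inr rfl, ?_⟩
        rw [map_mul, hom_t, hdd, h.f_mul, one_mul, Facts.f_congr_z h]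
      · refine ⟨a, b, _, Or.inr rfl, ?_⟩
        rw [map_mul, hom_t, hdd, h.f_mul, one_mul]
      · refine ⟨a, b, _, Or.inl rfl, ?_⟩
        rw [hdd, h.f_z_mul]
    obtain ⟨a, b, x, hx, hxf⟩ := hx
    obtain ⟨g, hg1, hg2⟩ := huu a b x hx
    rw [hom_t] at hg1
    rw [hxf, hcc] at hg2
    exact ⟨g, hg1, hg2⟩
  · rw [← hcc, ← hom_t h]
    exact hte 0

end

end Cfsg.Agent.SylowSp4.TwoPEnd
end

-- part: SylowSp4/TwoQThree
section
/-!
# Fusion for the type `PSp₄(3)`, case Q: `t ~ ee a` for only one `a`, `Y` antidiagonal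

`F₁ = {1, t} ∪ {± dd x y : x + y = 2 a}` is an elementary abelian subgroup of order 8, strongly closed in `P`.
-/

set_option autoImplicit false

namespace Cfsg.Agent.SylowSp4.TwoQThree

open Subgroup Cfsg.Agent.SylowSp4.AltModel Cfsg.Agent.SylowSp4.TwoBase Cfsg.Agent.SylowSp4.TwoParity
open Cfsg.Agent.SylowSp4.TwoCtx Cfsg.Agent.SylowSp4.TwoY Cfsg.Agent.SylowSp4.TwoOff

universe u

/-- the elementary abelian subgroup of order 8 -/
def InB (a : Fin 3) (x : M64) : Prop := x = 1 ∨ x = t ∨ ∃ i j, i + j = a + a ∧ (x = dd i j ∨ x = t * dd i j)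

instance (a : Fin 3) : DecidablePred (InB a) := fun x => by unfold InB; infer_instance

open Cfsg.Agent.SylowSp4.Fast64 in
@[reducible] private noncomputable def fB (b : Fin 3) (x : M64) [Ev x] : Decidable (InB b x) := via (InB b) inferInstance x

attribute [local instance 5000] fB in
theorem B_mul : ∀ a, ∀ x y : M64, InB a x → InB a y → InB a (x * y) := fun a x y hx =>
  (by (open scoped Cfsg.Agent.SylowSp4.Fast64 in decide +kernel) :
    ∀ a, ∀ x : M64, InB a x → ∀ y, InB a y → InB a (x * y)) a x hx y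
attribute [local instance 5000] fB in
theorem B_inv : ∀ a, ∀ x : M64, InB a x → InB a x⁻¹ := by
  (open scoped Cfsg.Agent.SylowSp4.Fast64 in decide +kernel)
attribute [local instance 5000] fB in
theorem B_comm : ∀ a, ∀ x y : M64, InB a x → InB a y → x * y = y * x := fun a x y hx =>
  (by (open scoped Cfsg.Agent.SylowSp4.Fast64 in decide +kernel) :
    ∀ a, ∀ x : M64, InB a x → ∀ y, InB a y → x * y = y * x) a x hx y
theorem sum_cases : ∀ a i j : Fin 3, i + j = a + a → (i = a ∧ j = a) ∨ (i = a + 1 ∧ j = a + 2) ∨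
    (i = a + 2 ∧ j = a + 1) := by decide +kernel
theorem sum_of : ∀ a i j m₁ m₂ : Fin 3, m₁ + m₂ = 0 → ((i + m₁ = a ∧ j + m₂ = a) ∨ (j + m₁ = a ∧ i + m₂ = a)) →
    i + j = a + a := by decide +kernel
theorem out_A : ∀ x : M64, x * x = 1 → ¬ InR x → InA x := by decide +kernel
theorem s_dd' : ∀ a, s * dd (a + 1) (a + 2) * s⁻¹ = dd (a + 2) (a + 1) := by decide +kernel

/-- the subgroup -/
def Bsub (a : Fin 3) : Subgroup M64 where
  carrier := {x | InB a x}
  mul_mem' {x y} hx hy := B_mul a x y hx hy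
  one_mem' := Or.inl rfl
  inv_mem' {x} hx := B_inv a x hx

/-- `t ~ ee a` for only one `a`, `t` not conjugate to `s`, `t s`, and `Y` antidiagonal: impossible -/
theorem false_of_one (hGold : TwoGold.Gold.{u}) {G : Type u} [Group G] [Finite G] [IsSimpleGroup G] {P : Sylow 2 G}
    {F : M64 →* G} {K : Subgroup G} (C : Ctx P F K) {a : Fin 3} (ha : IsConj (F t) (F (ee a)))
    (hb : ∀ b, b ≠ a → ¬ IsConj (F t) (F (ee b))) (hs : ¬ IsConj (F t) (F s)) (hts : ¬ IsConj (F t) (F (t * s)))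
    (hY1 : Y F K 1 2) (hY : ∀ m₁ m₂, Y F K m₁ m₂ → m₁ + m₂ = 0) : False := by
  have M := C.mod
  -- all involutions of `B` are conjugate to `t`
  have hdd : ∀ i j, i + j = a + a → IsConj (F t) (F (dd i j)) := by
    have h12 : IsConj (F t) (F (dd (a + 1) (a + 2))) := by
      obtain ⟨n, hn, hact⟩ := hY1
      refine ha.trans ?_
      rcases act_dd C (C.comm n hn.1) hact a a with h | h
      · exact isConj_iff.2 ⟨n, h⟩
      · exact (isConj_iff.2 ⟨n, h⟩ : IsConj _ _).trans (t_dd C _ _).symm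
    intro i j hij
    rcases sum_cases a i j hij with ⟨rfl, rfl⟩ | ⟨rfl, rfl⟩ | ⟨rfl, rfl⟩
    · exact ha
    · exact h12
    · exact h12.trans (TwoP.isConj_F ⟨s, s_dd' a⟩)
  have hB : ∀ x, InB a x → x = 1 ∨ IsConj (F t) (F x) := by
    rintro x (h | h | ⟨i, j, hij, h | h⟩)
    · exact Or.inl h
    · right; rw [h]
    · right; rw [h]; exact hdd i j hij
    · right; rw [h]; exact (hdd i j hij).trans (t_dd C _ _)
  have hcl : ∀ x ∈ (Bsub a).map F, ∀ g : G, g * x * g⁻¹ ∈ (P : Subgroup G) → g * x * g⁻¹ ∈ (Bsub a).map F := by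
    rintro _ ⟨x, hx, rfl⟩ g hg
    obtain ⟨v, hv⟩ := TwoBase.exists_of_mem M hg
    rw [← hv]
    refine ⟨v, ?_, rfl⟩
    change InB a v
    rcases hB x hx with rfl | hxt
    · left
      apply M.inj
      rw [hv, map_one]; group
    · have htv : IsConj (F t) (F v) := hxt.trans (isConj_iff.2 ⟨g, hv.symm⟩)
      obtain ⟨hvv, hv1⟩ := sq_of_T C htv
      by_cases hvt : v = t
      · exact Or.inr (Or.inl hvt)
      by_cases hvR : InR v
      · obtain ⟨c, hc, l, hcl⟩ := off C hvR hvt htv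
        have hl : l = a := by
          by_contra hla
          apply hb l hla
          rcases hcl with h | h
          · exact htv.trans (isConj_iff.2 ⟨c, h⟩)
          · exact (htv.trans (isConj_iff.2 ⟨c, h⟩)).trans (TwoP.tee l).symm
        subst hl
        obtain ⟨i, j, hij⟩ := dd_cases v hvR hvv hv1 hvt
        right; right
        refine ⟨i, j, ?_, hij⟩
        have h3 : c * F (dd i j) * c⁻¹ = F (dd l l) ∨ c * F (dd i j) * c⁻¹ = F (t * dd l l) :=
          conj_mod C hc (x := v) (x' := dd i j) (y := dd l l) (by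
            rcases hij with h4 | h4
            · exact Or.inl h4.symm
            · right; rw [h4, TwoY.tt_mul]) hcl
        obtain ⟨m₁, m₂, hm, h4⟩ := dd_conj C hc h3
        exact sum_of l i j m₁ m₂ (hY _ _ hm) h4
      · exfalso
        have hvA := out_A v hvv hvR
        rcases TwoP.A_cases v hvA with rfl | ⟨i, rfl⟩ | ⟨b, rfl | rfl⟩ | ⟨i, hi, rfl⟩
        · exact hv1 rfl
        · by_cases hi : i = 0
          · exact hvt (by rw [hi]; rfl)
          · exact hs (htv.trans (TwoP.isConj_F (TwoP.p_conj i hi).1).symm)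
        · exact hvR (R_ee b)
        · exact hvR (R_tee b)
        · exact hts (htv.trans (TwoP.isConj_F (TwoP.p_conj i hi).2).symm)
  refine TwoGold.false_of_closed hGold P ?_ ?_ ?_ hcl ?_ (TwoPEnd.order_two C (x := t) (by decide +kernel)
    TwoBase.t_ne_one) (TwoPEnd.order_two C (x := s) (by decide +kernel) (by decide +kernel)) hs
  · rintro _ ⟨x, -, rfl⟩
    exact TwoBase.mem M x
  · rintro _ ⟨x, hx, rfl⟩ _ ⟨y, hy, rfl⟩
    rw [← map_mul, ← map_mul, B_comm a x y hx hy]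
  · intro hbot
    have h1 : F t ∈ (Bsub a).map F := ⟨t, Or.inr (Or.inl rfl), rfl⟩
    rw [hbot, mem_bot] at h1
    exact TwoBase.t_ne_one (M.inj (by rw [h1, map_one]))
  · intro hcomm
    have h1 := hcomm _ (TwoBase.mem M (q1 0)) _ (TwoBase.mem M (q1 1))
    rw [← map_mul, ← map_mul] at h1
    exact TwoPEnd.not_comm_M (M.inj h1)

end Cfsg.Agent.SylowSp4.TwoQThree
end
end

-- part: SylowSp4/AltCent
section
set_option linter.all false
open scoped Cfsg.Agent.FastGrp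

/-!
# S0509, the `A₈`/`A₉` branch: the action of `C(t)` on `R` modulo `O(C(t))`
-/

set_option autoImplicit false

namespace Cfsg.Agent.SylowSp4.AltCent

open Cfsg.Agent.SylowSp4.AltModel

universe u

/-! ### facts on the model -/

/-- the action of `x r ^ m` on `R` -/
def th (x : M64) (m : ℕ) (q : M64) : M64 := x * om^[m] q * x⁻¹

theorem R_mul : ∀ x y : M64, InR x → InR y → InR (x * y) := by (open scoped Cfsg.Agent.SylowSp4.Fast64 in decide +kernel)
theorem R_inv : ∀ x : M64, InR x → InR x⁻¹ := by decide +kernel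
theorem R_one : InR (1 : M64) := by decide
theorem R_conj : ∀ x y : M64, InR y → InR (x * y * x⁻¹) := by (open scoped Cfsg.Agent.SylowSp4.Fast64 in decide +kernel)
theorem R_om : ∀ x : M64, InR x → InR (om x) := by decide +kernel
theorem t_comm : ∀ x : M64, x * t = t * x := by decide +kernel
theorem pow_eight : ∀ x : M64, x ^ 8 = 1 := by decide +kernel
theorem om_iter (m : ℕ) : ∀ x : M64, InR x → InR (om^[m] x) := by
  induction m with
  | zero => intro x hx; exact hx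
  | succ n ih => intro x hx; rw [Function.iterate_succ_apply]; exact ih _ (R_om x hx)

theorem th_R (x : M64) (m : ℕ) (q : M64) (hq : InR q) : InR (th x m q) :=
  R_conj x _ (om_iter m q hq)

theorem th_ne : ∀ x : M64, InR x → ∀ v : M64, InR v → v ≠ 1 → v ≠ t → th x 1 v ≠ v ∧ th x 2 v ≠ v := by
  (delta th; open scoped Cfsg.Agent.SylowSp4.Fast64 in decide +kernel)

theorem th_four : ∀ x : M64, ¬ InR x → ∀ m : Fin 3, ∀ q : M64, InR q →
    th x m (th x m (th x m (th x m q))) = q := by (delta th; open scoped Cfsg.Agent.SylowSp4.Fast64 in decide +kernel)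

theorem th_exists : ∀ x : M64, ¬ InR x → ∀ m : Fin 3, ∃ q : M64, InR q ∧ th x m q ≠ q := by
  (delta th; open scoped Cfsg.Agent.SylowSp4.Fast64 in decide +kernel)

/-- an involution centralizes an element of `R - ⟨t⟩` -/
theorem exists_cen : ∀ x : M64, x * x = 1 → ∃ v, InR v ∧ v ≠ 1 ∧ v ≠ t ∧ v * x = x * v := by
  (open scoped Cfsg.Agent.SylowSp4.Fast64 in decide +kernel)

/-! ### `O(C(b))` -/

section Th

variable {G : Type u} [Group G] [Finite G]

/-- `O(C(b))` -/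
abbrev Th (b : G) : Subgroup G := Cfsg.centralizerPPrimeCore 2 b

theorem Th_le (b : G) : Th b ≤ Subgroup.centralizer {b} := SignalizersComponents.CentralizerCore.core_le 2 b

theorem odd_Th (b : G) : Odd (Nat.card (Th b)) := by
  rw [← Nat.not_even_iff_odd, even_iff_two_dvd]
  exact SignalizersComponents.CentralizerCore.core_card 2 b

theorem conj_mem_Th {b c d : G} (hc : c * b = b * c) (hd : d ∈ Th b) : c * d * c⁻¹ ∈ Th b := by
  have h1 : c ∈ Subgroup.normalizer (Th b : Set G) :=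
    SignalizersComponents.CentralizerCore.core_normalized 2 b (Subgroup.mem_centralizer_singleton_iff.2 hc)
  exact (Subgroup.mem_normalizer_iff.1 h1 d).1 hd

theorem conj_mem_Th' (b g : G) {d : G} (hd : d ∈ Th b) : g * d * g⁻¹ ∈ Th (g * b * g⁻¹) := by
  show _ ∈ Cfsg.centralizerPPrimeCore 2 (g * b * g⁻¹)
  rw [SignalizersComponents.CentralizerCore.core_conj 2 b g]
  exact ⟨d, hd, rfl⟩

theorem mem_Th_of_conj (b g : G) {d : G} (hd : g * d * g⁻¹ ∈ Th (g * b * g⁻¹)) : d ∈ Th b := by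
  have h := conj_mem_Th' (g * b * g⁻¹) g⁻¹ hd
  have e1 : g⁻¹ * (g * d * g⁻¹) * g⁻¹⁻¹ = d := by group
  have e2 : g⁻¹ * (g * b * g⁻¹) * g⁻¹⁻¹ = b := by group
  rwa [e1, e2] at h

theorem odd_orderOf {D : Subgroup G} (hD : Odd (Nat.card D)) {d : G} (hd : d ∈ D) : Odd (orderOf d) := by
  have h := Subgroup.orderOf_dvd_natCard D hd
  exact hD.of_dvd_nat h

theorem eq_one_of_odd {x : M64} {F : M64 →* G} (hinj : Function.Injective F) (h : Odd (orderOf (F x))) : x = 1 := by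
  have h1 : orderOf (F x) ∣ 8 := by
    apply orderOf_dvd_of_pow_eq_one
    rw [← map_pow, pow_eight, map_one]
  have h2 : Nat.Coprime (orderOf (F x)) 8 := by
    have : Nat.Coprime (orderOf (F x)) (2 ^ 3) := Nat.Coprime.pow_right 3 (Nat.coprime_two_right.2 h)
    exact this
  have h3 : orderOf (F x) = 1 := Nat.eq_one_of_dvd_coprimes h2 (dvd_refl _) h1
  rw [orderOf_eq_one_iff, ← map_one F] at h3
  exact hinj h3

theorem eq_one_of_mem_Th {b : G} {x : M64} {F : M64 →* G} (hinj : Function.Injective F) (h : F x ∈ Th b) :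
    x = 1 := eq_one_of_odd hinj (odd_orderOf (odd_Th b) h)

end Th

variable {G : Type u} [Group G] [Finite G] {S : Sylow 2 G} {F : M64 →* G}

omit [Finite G] in
theorem F_cen (F : M64 →* G) (x : M64) : F x * F t = F t * F x := by rw [← map_mul, ← map_mul, t_comm]

omit [Finite G] in
theorem S_le (hr : F.range = (S : Subgroup G)) : (S : Subgroup G) ≤ Subgroup.centralizer {F t} := by
  rw [← hr]
  rintro _ ⟨y, rfl⟩
  rw [Subgroup.mem_centralizer_singleton_iff]
  exact F_cen F y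

/-- an involution of `C(t)` is conjugate in `C(t)` into `S` -/
theorem exists_conj_mem (V : Sylow 2 G) {M : Subgroup G} (hVM : (V : Subgroup G) ≤ M) {x : G}
    (hx : x ∈ M) (h2 : orderOf x = 2) : ∃ m ∈ M, m * x * m⁻¹ ∈ V := by
  set P : Sylow 2 M := V.subtype hVM with hP
  have hz : IsPGroup 2 (Subgroup.zpowers (⟨x, hx⟩ : M)) := by
    rw [IsPGroup.iff_card]
    exact ⟨1, by rw [Nat.card_zpowers, Subgroup.orderOf_mk, h2, pow_one]⟩
  obtain ⟨Q, hQ⟩ := hz.exists_le_sylow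
  obtain ⟨m, hm⟩ := MulAction.exists_smul_eq M Q P
  refine ⟨m, m.2, ?_⟩
  have h1 : (⟨x, hx⟩ : M) ∈ Q := hQ (Subgroup.mem_zpowers _)
  have h3 : m * ⟨x, hx⟩ * m⁻¹ ∈ (m • Q : Sylow 2 M) := by
    rw [← SetLike.mem_coe, Sylow.coe_smul]
    exact Set.mem_smul_set.mpr ⟨⟨x, hx⟩, h1, rfl⟩
  rw [hm] at h3
  exact h3

theorem exists_conj_into (P : AltPat S F) {x : G} (hx : orderOf x = 2) (hxz : x * F t = F t * x) :
    ∃ c, c * F t = F t * c ∧ ∃ x₀, F x₀ = c * x * c⁻¹ := by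
  obtain ⟨c, hc, hcx⟩ := exists_conj_mem S (S_le P.range)
    (Subgroup.mem_centralizer_singleton_iff.2 hxz) hx
  exact ⟨c, Subgroup.mem_centralizer_singleton_iff.1 hc, P.exists_of_mem hcx⟩

/-- an element of odd order in `S O(C(t))` lies in `O(C(t))` -/
theorem mem_Th_of_odd {d : G} (hd : Odd (orderOf d)) {q : M64} {o : G}
    (ho : o ∈ Th (F t)) (h : d = F q * o) : d ∈ Th (F t) := by
  set C : Subgroup G := Subgroup.centralizer {F t} with hC
  have hfq : F q ∈ C := by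
    rw [hC, Subgroup.mem_centralizer_singleton_iff]; exact F_cen F q
  have hoC : o ∈ C := Th_le _ ho
  have hdC : d ∈ C := h ▸ C.mul_mem hfq hoC
  set N : Subgroup C := Cfsg.pPrimeCore 2 C with hN
  have hNn : N.Normal := Lib.Cores.pPrimeCore_normal 2
  have hmem : ∀ x (hx : x ∈ C), x ∈ Th (F t) ↔ (⟨x, hx⟩ : C) ∈ N := by
    intro x hx
    constructor
    · rintro ⟨y, hy, hyx⟩
      have : y = ⟨x, hx⟩ := Subtype.ext hyx
      rwa [this] at hy
    · intro hy
      exact ⟨⟨x, hx⟩, hy, rfl⟩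
  rw [hmem d hdC, ← QuotientGroup.eq_one_iff]
  have h1 : ((⟨d, hdC⟩ : C) : C ⧸ N) = ((⟨F q, hfq⟩ : C) : C ⧸ N) := by
    rw [QuotientGroup.eq]
    have e : (⟨d, hdC⟩ : C)⁻¹ * ⟨F q, hfq⟩ = ⟨o, hoC⟩⁻¹ := by
      apply Subtype.ext
      show d⁻¹ * F q = o⁻¹
      rw [h]; group
    rw [e]
    exact N.inv_mem ((hmem o hoC).1 ho)
  have h2 : ((⟨d, hdC⟩ : C) : C ⧸ N) ^ 8 = 1 := by
    rw [h1, ← QuotientGroup.mk_pow]
    have e : (⟨F q, hfq⟩ : C) ^ 8 = 1 := by
      apply Subtype.ext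
      show (F q) ^ 8 = 1
      rw [← map_pow, pow_eight q, map_one]
    rw [e, QuotientGroup.mk_one]
  have h3 : ((⟨d, hdC⟩ : C) : C ⧸ N) ^ orderOf d = 1 := by
    rw [← QuotientGroup.mk_pow]
    have e : (⟨d, hdC⟩ : C) ^ orderOf d = 1 := by
      apply Subtype.ext
      show d ^ orderOf d = 1
      exact pow_orderOf_eq_one d
    rw [e, QuotientGroup.mk_one]
  have h4 : Nat.Coprime 8 (orderOf d) := by
    have : Nat.Coprime (2 ^ 3) (orderOf d) := Nat.Coprime.pow_left 3 (Nat.coprime_two_left.2 hd)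
    exact this
  have h5 : orderOf ((⟨d, hdC⟩ : C) : C ⧸ N) ∣ 1 := by
    rw [← Nat.Coprime.gcd_eq_one h4]
    exact Nat.dvd_gcd (orderOf_dvd_of_pow_eq_one h2) (orderOf_dvd_of_pow_eq_one h3)
  exact orderOf_eq_one_iff.1 (Nat.dvd_one.1 h5)

/-! ### the action on `R` modulo `O(C(t))` -/

/-- `c` acts on `R` modulo `O(C(t))` as `θ` -/
def Acts (F : M64 →* G) (c : G) (θ : M64 → M64) : Prop :=
  ∀ q, InR q → InR (θ q) ∧ c * F q * c⁻¹ * (F (θ q))⁻¹ ∈ Th (F t)

theorem acts_comp {c c' : G} {θ θ' : M64 → M64} (hc : c * F t = F t * c) (h : Acts F c θ) (h' : Acts F c' θ') :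
    Acts F (c * c') (fun q => θ (θ' q)) := by
  intro q hq
  obtain ⟨h1, h2⟩ := h' q hq
  obtain ⟨h3, h4⟩ := h _ h1
  refine ⟨h3, ?_⟩
  have h5 := (Th (F t)).mul_mem (conj_mem_Th hc h2) h4
  have e : c * c' * F q * (c * c')⁻¹ * (F (θ (θ' q)))⁻¹ =
      c * (c' * F q * c'⁻¹ * (F (θ' q))⁻¹) * c⁻¹ * (c * F (θ' q) * c⁻¹ * (F (θ (θ' q)))⁻¹) := by group
  rw [e]; exact h5

theorem acts_unique (P : AltPat S F) {c : G} {θ θ' : M64 → M64} (h : Acts F c θ) (h' : Acts F c θ') (q : M64)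
    (hq : InR q) : θ q = θ' q := by
  have h1 := (Th (F t)).mul_mem ((Th (F t)).inv_mem (h q hq).2) (h' q hq).2
  have e : (c * F q * c⁻¹ * (F (θ q))⁻¹)⁻¹ * (c * F q * c⁻¹ * (F (θ' q))⁻¹) = F (θ q * (θ' q)⁻¹) := by
    rw [map_mul, map_inv]; group
  rw [e] at h1
  exact mul_inv_eq_one.1 (eq_one_of_mem_Th P.inj h1)

theorem acts_pow_id {c : G} (hc : c * F t = F t * c) (h : Acts F c id) (n : ℕ) : Acts F (c ^ n) id := by
  induction n with
  | zero =>
    intro q hq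
    refine ⟨hq, ?_⟩
    have e : c ^ 0 * F q * (c ^ 0)⁻¹ * (F (id q))⁻¹ = 1 := by simp
    rw [e]; exact (Th (F t)).one_mem
  | succ n ih =>
    rw [pow_succ']
    exact acts_comp hc h ih

/-- the action of `o x r^m` -/
theorem acts_of_eq {r : G} (hr : r * F t = F t * r) (hrq : ∀ q, InR q → r * F q * r⁻¹ = F (om q))
    {o : G} (ho : o ∈ Th (F t)) (x : M64) (m : ℕ) : Acts F (o * F x * r ^ m) (th x m) := by
  have h1 : ∀ m : ℕ, ∀ q, InR q → r ^ m * F q * (r ^ m)⁻¹ = F (om^[m] q) := by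
    intro m
    induction m with
    | zero => intro q _; simp
    | succ n ih =>
      intro q hq
      rw [Function.iterate_succ_apply, ← ih _ (R_om q hq), ← hrq q hq, pow_succ]
      group
  intro q hq
  refine ⟨th_R x m q hq, ?_⟩
  have h2 : o * F x * r ^ m * F q * (o * F x * r ^ m)⁻¹ * (F (th x m q))⁻¹ =
      o * (F (th x m q) * o⁻¹ * (F (th x m q))⁻¹) := by
    have e : F (th x m q) = F x * (r ^ m * F q * (r ^ m)⁻¹) * (F x)⁻¹ := by
      rw [h1 m q hq, th, map_mul, map_mul, map_inv]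
    rw [e]; group
  rw [h2]
  exact (Th (F t)).mul_mem ho (conj_mem_Th (F_cen F _) ((Th (F t)).inv_mem ho))

theorem Q_normal (P : AltPat S F) : ∀ c ∈ Subgroup.centralizer {F t}, ∀ q, InR q →
    ∃ q', InR q' ∧ ∃ o ∈ Cfsg.centralizerPPrimeCore 2 (F t), c * F q * c⁻¹ = F q' * o := by
  intro c hc q hq
  obtain ⟨r, hr, hr3, hrq, hall⟩ := P.rho
  obtain ⟨o, ho, x, m, hm, rfl⟩ := hall c (Subgroup.mem_centralizer_singleton_iff.1 hc)
  obtain ⟨h1, h2⟩ := acts_of_eq hr hrq ho x m q hq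
  refine ⟨th x m q, h1, (F (th x m q))⁻¹ * (o * F x * r ^ m * F q * (o * F x * r ^ m)⁻¹ *
    (F (th x m q))⁻¹) * F (th x m q), ?_, by group⟩
  have h3 := conj_mem_Th (b := F t) (c := (F (th x m q))⁻¹) (by rw [← map_inv]; exact F_cen F _) h2
  rwa [inv_inv] at h3

/-- an element of odd order of `C(t)` which centralizes an element of `R - ⟨t⟩` modulo `O(C(t))` is in `O(C(t))` -/
theorem fpf (P : AltPat S F) : ∀ c ∈ Subgroup.centralizer {F t}, Odd (orderOf c) →
    ∀ v, InR v → v ≠ 1 → v ≠ t →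
    c * F v * c⁻¹ * (F v)⁻¹ ∈ Cfsg.centralizerPPrimeCore 2 (F t) →
    c ∈ Cfsg.centralizerPPrimeCore 2 (F t) := by
  intro c hc hodd v hv hv1 hvt hcv
  rw [Subgroup.mem_centralizer_singleton_iff] at hc
  obtain ⟨r, hr, hr3, hrq, hall⟩ := P.rho
  obtain ⟨o, ho, x, m, hm, hcm⟩ := hall c hc
  have hA : Acts F c (th x m) := by rw [hcm]; exact acts_of_eq hr hrq ho x m
  have hv' : th x m v = v := by
    have h1 := (Th (F t)).mul_mem ((Th (F t)).inv_mem (hA v hv).2) hcv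
    have e : (c * F v * c⁻¹ * (F (th x m v))⁻¹)⁻¹ * (c * F v * c⁻¹ * (F v)⁻¹) = F (th x m v * v⁻¹) := by
      rw [map_mul, map_inv]; group
    rw [e] at h1
    exact mul_inv_eq_one.1 (eq_one_of_mem_Th P.inj h1)
  by_cases hxR : InR x
  · have h0 : m = 0 := by
      have h2 := th_ne x hxR v hv hv1 hvt
      interval_cases m
      · rfl
      · exact absurd hv' h2.1
      · exact absurd hv' h2.2
    subst h0
    refine mem_Th_of_odd hodd (q := x) (o := (F x)⁻¹ * o * F x) ?_ ?_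
    · have h3 := conj_mem_Th (b := F t) (c := (F x)⁻¹) (by rw [← map_inv]; exact F_cen F _) ho
      rwa [inv_inv] at h3
    · rw [hcm]; group
  · exfalso
    have h4 : Acts F (c ^ 4) id := by
      have h2 := acts_comp hc hA (acts_comp hc hA (acts_comp hc hA hA))
      have e : c * (c * (c * c)) = c ^ 4 := by simp only [pow_succ, pow_zero, one_mul, mul_assoc]
      rw [e] at h2
      intro q hq
      have h3 := h2 q hq
      simp only at h3
      rw [th_four x hxR ⟨m, hm⟩ q hq] at h3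
      exact h3
    have hc4 : c ^ 4 * F t = F t * c ^ 4 := by
      have : Commute c (F t) := hc
      exact this.pow_left 4
    obtain ⟨k, hk⟩ : ∃ k : ℕ, (c ^ 4) ^ k = c := by
      have hcop : Nat.Coprime 4 (orderOf c) := by
        have : Nat.Coprime (2 ^ 2) (orderOf c) := Nat.Coprime.pow_left 2 (Nat.coprime_two_left.2 hodd)
        exact this
      obtain ⟨k, hk⟩ := exists_pow_eq_self_of_coprime hcop
      exact ⟨k, hk⟩
    have h5 := acts_pow_id hc4 h4 k
    rw [hk] at h5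
    obtain ⟨q, hq, hne⟩ := th_exists x hxR ⟨m, hm⟩
    exact hne (acts_unique P hA h5 q hq)

end Cfsg.Agent.SylowSp4.AltCent

private theorem dce_9e3034f5f0e9 : _root_.True := by
  try have : _root_.True := by simp only [_root_.Cfsg.Agent.SylowSp4.AltCent.th.eq_1]
  exact _root_.True.intro
end
end
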